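import Groth.Agent.CohBase.FlatBC.Local
import Groth.Agent.KFlat.FlatPull
import Groth.Agent.ParaFLib.QSepBC
import Groth.Agent.CohAff.RcIso

/-!
# The base change morphisms are isomorphisms
-/

universe u

open CategoryTheory CategoryTheory.Limits AlgebraicGeometry TopologicalSpace Opposite
open scoped TensorProduct

namespace Groth.Agent.CohBase.FlatBC

open Groth.Agent.CohAff (FRes)

local notation "rs" => Groth.Agent.QCoh.res
local notation "rr" => Groth.Agent.QCoh.rres

noncomputable section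

/-- bijective on a basis of opens implies iso -/
lemma isIso_of_basis_bijective {Y : Scheme.{u}} {M N : Y.Modules} (φ : M ⟶ N) (B : Y.Opens → Prop)
    (hB : ∀ (V : Y.Opens) (y : Y), y ∈ V → ∃ W, B W ∧ y ∈ W ∧ W ≤ V)
    (h : ∀ W, B W → Function.Bijective (φ.app W)) : IsIso φ := by
  have hcov : ∀ V : Y.Opens, V ≤ ⨆ W : {W : Y.Opens // B W ∧ W ≤ V}, W.1 := fun V y hy => by
    obtain ⟨W, hW, hyW, hWV⟩ := hB V y hy
    exact Opens.mem_iSup.2 ⟨⟨W, hW, hWV⟩, hyW⟩
  rw [Scheme.Modules.Hom.isIso_iff_isIso_app]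
  intro V
  refine (ConcreteCategory.isIso_iff_bijective _).2 ⟨?_, ?_⟩
  · refine (injective_iff_map_eq_zero _).2 fun x hx ↦ ?_
    refine QCoh.eq_zero_of_locally_eq_zero _ (fun W ↦ W.2.2) (hcov V) _ fun W ↦ ?_
    apply (h W.1 W.2.1).1
    rw [QCoh.app_res, hx, map_zero, map_zero]
  · intro x
    choose a ha using fun W : {W : Y.Opens // B W ∧ W ≤ V} ↦ (h W.1 W.2.1).2 (rs N W.2.2 x)
    have hloc : ∀ W W', rs M (inf_le_left : W.1 ⊓ W'.1 ≤ W.1) (a W) =
        rs M (inf_le_right : W.1 ⊓ W'.1 ≤ W'.1) (a W') := by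
      intro W W'
      refine QCoh.eq_of_locally_eq M (fun A ↦ A.2.2) (hcov _) _ _ fun A ↦ ?_
      apply (h A.1 A.2.1).1
      rw [QCoh.res_res, QCoh.res_res, QCoh.app_res, QCoh.app_res, ha, ha, QCoh.res_res, QCoh.res_res]
    obtain ⟨y, hy⟩ := QCoh.exists_glue M (fun W : {W : Y.Opens // B W ∧ W ≤ V} ↦ W.2.2) (hcov V) a hloc
    refine ⟨y, QCoh.eq_of_locally_eq N (fun W : {W : Y.Opens // B W ∧ W ≤ V} ↦ W.2.2) (hcov V) _ _ fun W ↦ ?_⟩
    rw [← QCoh.app_res, hy, ha]

variable {X S S' X' : Scheme.{u}} (f : X ⟶ S) (g : S' ⟶ S) (p : X' ⟶ X) (q : X' ⟶ S') (M : X.Modules)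

/-- affine opens of `S'` over affine opens of `S` form a basis -/
lemma exists_affine_pair (V : S'.Opens) (y : S') (hy : y ∈ V) :
    ∃ W : S'.Opens, (IsAffineOpen W ∧ ∃ US : S.Opens, IsAffineOpen US ∧ W ≤ g ⁻¹ᵁ US) ∧ y ∈ W ∧ W ≤ V := by
  obtain ⟨US, hUS, hyUS, -⟩ := exists_isAffineOpen_mem_and_subset (U := (⊤ : S.Opens)) (x := g y) trivial
  obtain ⟨W, hW, hyW, hle⟩ := exists_isAffineOpen_mem_and_subset (U := g ⁻¹ᵁ US ⊓ V) (x := y) ⟨hyUS, hy⟩
  exact ⟨W, ⟨hW, US, hUS, fun z hz => (hle hz).1⟩, hyW, fun z hz => (hle hz).2⟩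

/-- the base change map of models is an isomorphism -/
theorem isIso_rc [M.IsQuasicoherent] [QuasiCompact f] [QuasiSeparated f] [Flat g] (H : IsPullback p q f g)
    (L : CrossLift p (FRes.ofMod M) (FRes.ofMod ((Scheme.Modules.pullback p).obj M)))
    (hL : L.φ 0 = (Scheme.Modules.pullbackPushforwardAdjunction p).unit.app M) (n : ℕ) :
    IsIso (L.rc f g q H.w n) :=
  isIso_of_basis_bijective _ _ (exists_affine_pair g) fun UT ⟨hUT, _, hUS, hT⟩ =>
    bijective_rc_app f n g p q M H L hL hUS hUT hT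

variable {f g p q}

lemma bc0Adj_app (w : p ≫ f = q ≫ g) {US : S.Opens} (m : Γ(M, f ⁻¹ᵁ US))
    (h : q ⁻¹ᵁ (g ⁻¹ᵁ US) ≤ p ⁻¹ᵁ (f ⁻¹ᵁ US)) :
    (CohBC.bc0Adj f g q p w M).app US m =
      rs ((Scheme.Modules.pullback p).obj M) h
        (((Scheme.Modules.pullbackPushforwardAdjunction p).unit.app M).app (f ⁻¹ᵁ US) m) := by
  simp [CohBC.bc0Adj]
  rfl

/-- the degree zero base change map, bijective where base change of sections is -/
theorem bijective_bc0_app [M.IsQuasicoherent] (H : IsPullback p q f g) [QuasiCompact f] [QuasiSeparated f]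
    {US : S.Opens} {UT : S'.Opens} (hUS : IsAffineOpen US) (hUT : IsAffineOpen UT) (hT : UT ≤ g ⁻¹ᵁ US)
    (hΦ : Function.Bijective (LFDesc.Φ f g p q M hT H.w (le_refl (f ⁻¹ᵁ US)))) :
    Function.Bijective ((CohBC.bc0 f g q p H.w M).app UT) := by
  let _ : Algebra Γ(S, US) Γ(S', UT) := (g.appLE US UT hT).hom.toAlgebra
  let N := (Scheme.Modules.pushforward f).obj M
  have hN : N.IsQuasicoherent := QCoh.isQuasicoherent_pushforward f M
  let _ := LimTop.secModule g N hT
  let P := Γ((Scheme.Modules.pullback g).obj N, UT)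
  have : IsScalarTower Γ(S, US) Γ(S', UT) P := IsScalarTower.of_algebraMap_smul fun _ _ => rfl
  let M' := (Scheme.Modules.pullback p).obj M
  have hle : q ⁻¹ᵁ UT ≤ LFDesc.over p q UT (f ⁻¹ᵁ US) := le_inf
    ((q.preimage_mono hT).trans (by rw [← Scheme.Hom.comp_preimage, ← H.w, Scheme.Hom.comp_preimage])) le_rfl
  let e : Γ(M', LFDesc.over p q UT (f ⁻¹ᵁ US)) →+ Γ(M', q ⁻¹ᵁ UT) := (rs M' hle).hom
  have he : Function.Bijective e :=
    Function.bijective_iff_has_inverse.2 ⟨rs M' inf_le_right,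
      fun z => (QCoh.res_res _ _ _ _).trans (QCoh.res_self _ _ _),
      fun z => (QCoh.res_res _ _ _ _).trans (QCoh.res_self _ _ _)⟩
  have happ : ∀ (b : Γ(S', UT)) (m : Γ(M, f ⁻¹ᵁ US)),
      (CohBC.bc0 f g q p H.w M).app UT (b • (LimTop.unitSec g N hT m : P)) =
        e (LFDesc.Φ f g p q M hT H.w (le_refl (f ⁻¹ᵁ US)) (b ⊗ₜ m)) := fun b m => by
    have hadj : (Scheme.Modules.pullbackPushforwardAdjunction g).unit.app N ≫
        (Scheme.Modules.pushforward g).map (CohBC.bc0 f g q p H.w M) = CohBC.bc0Adj f g q p H.w M := by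
      refine (Adjunction.homEquiv_unit _ _ _ _).symm.trans ?_
      exact Equiv.apply_symm_apply _ _
    rw [Scheme.Modules.Hom.app_smul, LimTop.unitSec_apply, QCoh.app_res, LFDesc.Φ_tmul]
    have h1 : (CohBC.bc0 f g q p H.w M).app (g ⁻¹ᵁ US)
        (((Scheme.Modules.pullbackPushforwardAdjunction g).unit.app N).app US m) =
        (CohBC.bc0Adj f g q p H.w M).app US m := by
      rw [← hadj]; rfl
    rw [h1, bc0Adj_app M H.w m (by rw [← Scheme.Hom.comp_preimage, ← H.w, Scheme.Hom.comp_preimage])]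
    have key : ∀ (m' : Γ(M', p ⁻¹ᵁ (f ⁻¹ᵁ US))) (h₂ : q ⁻¹ᵁ UT ≤ q ⁻¹ᵁ (g ⁻¹ᵁ US))
        (h₃ : q ⁻¹ᵁ (g ⁻¹ᵁ US) ≤ p ⁻¹ᵁ (f ⁻¹ᵁ US)),
        q.app UT b • rs M' h₂ (rs M' h₃ m') = rs M' hle (q.appLE UT (LFDesc.over p q UT (f ⁻¹ᵁ US)) inf_le_right b •
          rs M' inf_le_left m') := fun m' h₂ h₃ => by
      simp only [QCoh.res_smul, rr_appLE, QCoh.res_res, Scheme.Hom.appLE_eq_app]
    exact key _ (q.preimage_mono hT) _
  let τ : Γ(S', UT) ⊗[Γ(S, US)] LFDesc.Sec f M (le_refl (f ⁻¹ᵁ US)) →+ P :=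
    TensorProduct.liftAddHom
      (AddMonoidHom.mk' (fun b => AddMonoidHom.mk'
          (fun m => b • (LimTop.unitSec g N hT (show Γ(M, f ⁻¹ᵁ US) from m) : P))
          fun x y => (congrArg (b • ·) (map_add (LimTop.unitSec g N hT) (show Γ(N, US) from x) (show Γ(N, US) from y))).trans
            (smul_add b _ _))
        fun b b' => AddMonoidHom.ext fun x => add_smul b b' (LimTop.unitSec g N hT (show Γ(M, f ⁻¹ᵁ US) from x) : P))
      fun a b x => by
        have key : ∀ m : Γ(N, US), ((g.appLE US UT hT a * b) • LimTop.unitSec g N hT m : P) =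
            b • LimTop.unitSec g N hT (a • m) := fun m => by
          rw [LimTop.unitSec_smul, smul_smul, mul_comm]
        have h2 : (a • x : LFDesc.Sec f M (le_refl (f ⁻¹ᵁ US))) = (a • (show Γ(N, US) from x) : Γ(N, US)) :=
          congrArg (· • (show Γ(M, f ⁻¹ᵁ US) from x)) (congr($(Scheme.Hom.appLE_eq_app f) a))
        exact (key (show Γ(N, US) from x)).trans (congrArg (fun m => b • LimTop.unitSec g N hT m) h2.symm)
  have hτ : Function.Surjective τ := fun s => by
    induction s using (LimTop.isBaseChange_unitSec g N hT hUS hUT).inductionOn with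
    | zero => exact ⟨0, map_zero _⟩
    | tmul m => exact ⟨(1 : Γ(S', UT)) ⊗ₜ m, one_smul _ (LimTop.unitSec g N hT m : P)⟩
    | smul r m hm =>
      obtain ⟨t, rfl⟩ := hm
      refine ⟨r • t, ?_⟩
      induction t using TensorProduct.induction_on with
      | zero => simp
      | tmul b x => exact mul_smul r b _
      | add t t' h h' => rw [smul_add, map_add, h, h', map_add, smul_add]
    | add m m' hm hm' =>
      obtain ⟨t, rfl⟩ := hm
      obtain ⟨t', rfl⟩ := hm'
      exact ⟨t + t', map_add _ _ _⟩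
  let Ψ := e.comp (LFDesc.Φ f g p q M hT H.w (le_refl (f ⁻¹ᵁ US)))
  have hcomm : ∀ t, (CohBC.bc0 f g q p H.w M).app UT (τ t) = Ψ t := by
    intro t
    induction t using TensorProduct.induction_on with
    | zero => exact ((congrArg _ (map_zero τ)).trans (map_zero _)).trans (map_zero Ψ).symm
    | add t t' h h' =>
      exact (((congrArg _ (map_add τ t t')).trans (map_add _ _ _)).trans (congrArg₂ (· + ·) h h')).trans
        (map_add Ψ t t').symm
    | tmul b x => exact happ b x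
  have hΨ : Function.Bijective Ψ := he.comp hΦ
  refine ⟨?_, fun y => ?_⟩
  · rw [injective_iff_map_eq_zero]
    intro s hs
    obtain ⟨t, rfl⟩ := hτ s
    rw [hcomm] at hs
    rw [(injective_iff_map_eq_zero Ψ).1 hΨ.1 t hs, map_zero]
  · obtain ⟨t, ht⟩ := hΨ.2 y
    exact ⟨τ t, (hcomm t).trans ht⟩

variable (f g p q)

/-- degree zero flat base change -/
theorem isIso_bc0_of_flat [M.IsQuasicoherent] (H : IsPullback p q f g) [QuasiCompact f] [QuasiSeparated f] [Flat g] :
    IsIso (CohBC.bc0 f g q p H.w M) :=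
  isIso_of_basis_bijective _ _ (exists_affine_pair g) fun _ ⟨hUT, _, hUS, hT⟩ =>
    bijective_bc0_app M H hUS hUT hT (ParaFLib.QSepBC.Φ_bijective f g p q M hT H hUS hUT)

/-- affine base change -/
theorem isIso_bc0_of_affine [M.IsQuasicoherent] (H : IsPullback p q f g) [IsAffineHom f] :
    IsIso (CohBC.bc0 f g q p H.w M) :=
  isIso_of_basis_bijective _ _ (exists_affine_pair g) fun _ ⟨hUT, _, hUS, hT⟩ =>
    bijective_bc0_app M H hUS hUT hT
      (LFDesc.Φ_bijective_of_isAffineOpen f g p q M hT H hUS hUT (le_refl _) (hUS.preimage f))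

/-- flat base change for higher direct images -/
theorem nonempty_rpush_iso [M.IsQuasicoherent] [QuasiCompact f] [QuasiSeparated f] [Flat g]
    [HasInjectiveResolutions X.Modules] [HasInjectiveResolutions X'.Modules]
    (H : IsPullback p q f g) (i : ℕ) :
    Nonempty ((Scheme.Modules.pullback g).obj ((Coh.Rpush f i).obj M) ≅
      (Coh.Rpush q i).obj ((Scheme.Modules.pullback p).obj M)) := by
  cases i with
  | zero =>
    have := isIso_bc0_of_flat f g p q M H
    exact ⟨(Scheme.Modules.pullback g).mapIso ((Scheme.Modules.pushforward f).rightDerivedZeroIsoSelf.app M) ≪≫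
      asIso (CohBC.bc0 f g q p H.w M) ≪≫
      ((Scheme.Modules.pushforward q).rightDerivedZeroIsoSelf.app ((Scheme.Modules.pullback p).obj M)).symm⟩
  | succ n =>
    have : Flat p := MorphismProperty.of_isPullback H.flip ‹Flat g›
    let R := FRes.ofMod M
    let R' := FRes.ofMod ((Scheme.Modules.pullback p).obj M)
    let L : CrossLift p R R' :=
      CrossLift.mk' (p := p) (R := R) (R' := R') ((Scheme.Modules.pullbackPushforwardAdjunction p).unit.app M)
        (injective_push_ofMod_J p _)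
    have := isIso_rc f g p q M H L rfl n
    exact ⟨(Scheme.Modules.pullback g).mapIso (CohAff.FRes.rpushIsoRc f R n) ≪≫
      asIso (L.rc f g q H.w n) ≪≫ (CohAff.FRes.rpushIsoRc q R' n).symm⟩

end

end Groth.Agent.CohBase.FlatBC
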