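import Groth.Agent.CohAff.Classes
import Mathlib.CategoryTheory.Preadditive.Injective.Basic

/-!
# Comparison of flasque resolutions

A morphism on degree zero cocycles lifts to a resolution with injective terms, uniquely up to
coboundaries.
-/

universe u

open CategoryTheory CategoryTheory.Limits AlgebraicGeometry TopologicalSpace Opposite

namespace Groth.Agent.CohBase.FlatBC

open Groth.Agent.CohAff (FRes)

local notation "rr" => Groth.Agent.QCoh.rres

variable {X : Scheme.{u}}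

/-- morphisms of resolutions -/
structure Lift (R R' : FRes X) where
  /-- on cocycles -/
  φ : ∀ n, R.Z n ⟶ R'.Z n
  /-- on terms -/
  ψ : ∀ n, R.J n ⟶ R'.J n
  ι_comm : ∀ n, R.ι n ≫ ψ n = φ n ≫ R'.ι n
  p_comm : ∀ n, R.p n ≫ φ (n + 1) = ψ n ≫ R'.p n

namespace Lift

variable {R R' : FRes X}

noncomputable instance : Sub (Lift R R') where
  sub a b :=
    { φ := fun n => a.φ n - b.φ n
      ψ := fun n => a.ψ n - b.ψ n
      ι_comm := fun n => by simp only [Preadditive.comp_sub, Preadditive.sub_comp, a.ι_comm, b.ι_comm]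
      p_comm := fun n => by simp only [Preadditive.comp_sub, Preadditive.sub_comp, a.p_comm, b.p_comm] }

lemma sub_φ (a b : Lift R R') (n : ℕ) : (a - b).φ n = a.φ n - b.φ n := rfl

lemma exists_φ_succ (n : ℕ) (f : R.Z n ⟶ R'.Z n) (hJ : Injective (R'.J n)) :
    ∃ (g : R.J n ⟶ R'.J n) (f' : R.Z (n + 1) ⟶ R'.Z (n + 1)),
      R.ι n ≫ g = f ≫ R'.ι n ∧ R.p n ≫ f' = g ≫ R'.p n := by
  have hm : Mono (R.ι n) := (R.exact n).mono_f
  have he : Epi (R.p n) := (R.exact n).epi_g
  let g := Injective.factorThru (f ≫ R'.ι n) (R.ι n)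
  have hg : R.ι n ≫ g = f ≫ R'.ι n := Injective.comp_factorThru _ _
  have hz : R.ι n ≫ g ≫ R'.p n = 0 := by
    rw [← Category.assoc, hg, Category.assoc, R'.w, comp_zero]
  let c := CokernelCofork.IsColimit.desc' (R.exact n).gIsCokernel (g ≫ R'.p n) hz
  exact ⟨g, c.1, hg, c.2⟩

/-- the lifted cocycle maps -/
noncomputable def liftφ (f : R.Z 0 ⟶ R'.Z 0) (hJ : ∀ n, Injective (R'.J n)) :
    ∀ n, R.Z n ⟶ R'.Z n
  | 0 => f
  | n + 1 => (exists_φ_succ n (liftφ f hJ n) (hJ n)).choose_spec.choose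

/-- the lift of a morphism -/
noncomputable def mk' (f : R.Z 0 ⟶ R'.Z 0) (hJ : ∀ n, Injective (R'.J n)) : Lift R R' where
  φ := liftφ f hJ
  ψ n := (exists_φ_succ n (liftφ f hJ n) (hJ n)).choose
  ι_comm n := (exists_φ_succ n (liftφ f hJ n) (hJ n)).choose_spec.choose_spec.1
  p_comm n := (exists_φ_succ n (liftφ f hJ n) (hJ n)).choose_spec.choose_spec.2

lemma mk'_φ_zero (f : R.Z 0 ⟶ R'.Z 0) (hJ : ∀ n, Injective (R'.J n)) : (mk' f hJ).φ 0 = f := rfl

/-- a lift of zero factors through the differential -/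
theorem exists_factor (a : Lift R R') (ha : a.φ 0 = 0) (hJ : ∀ n, Injective (R'.J n)) :
    ∀ n, ∃ σ : R.Z (n + 1) ⟶ R'.J n, a.φ (n + 1) = σ ≫ R'.p n := by
  intro n
  induction n with
  | zero =>
    have he : Epi (R.p 0) := (R.exact 0).epi_g
    have hz : R.ι 0 ≫ a.ψ 0 = 0 := by rw [a.ι_comm, ha, zero_comp]
    let c := CokernelCofork.IsColimit.desc' (R.exact 0).gIsCokernel (a.ψ 0) hz
    have hc : R.p 0 ≫ c.1 = a.ψ 0 := c.2
    refine ⟨c.1, ?_⟩
    rw [← cancel_epi (R.p 0), a.p_comm, reassoc_of% hc]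
  | succ n ih =>
    obtain ⟨σ, hσ⟩ := ih
    have hm : Mono (R.ι (n + 1)) := (R.exact (n + 1)).mono_f
    have he : Epi (R.p (n + 1)) := (R.exact (n + 1)).epi_g
    let s := Injective.factorThru σ (R.ι (n + 1))
    have hs : R.ι (n + 1) ≫ s = σ := Injective.comp_factorThru _ _
    have hz : R.ι (n + 1) ≫ (a.ψ (n + 1) - s ≫ R'.p n ≫ R'.ι (n + 1)) = 0 := by
      rw [Preadditive.comp_sub, a.ι_comm, reassoc_of% hs, hσ, Category.assoc, sub_self]
    let c := CokernelCofork.IsColimit.desc' (R.exact (n + 1)).gIsCokernel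
      (a.ψ (n + 1) - s ≫ R'.p n ≫ R'.ι (n + 1)) hz
    have hc : R.p (n + 1) ≫ c.1 = a.ψ (n + 1) - s ≫ R'.p n ≫ R'.ι (n + 1) := c.2
    refine ⟨c.1, ?_⟩
    rw [← cancel_epi (R.p (n + 1)), a.p_comm, reassoc_of% hc, Preadditive.sub_comp]
    simp only [Category.assoc, R'.w, comp_zero, sub_zero]

/-- a lift of zero takes values in coboundaries -/
theorem ex_of_φ_zero (a : Lift R R') (ha : a.φ 0 = 0) (hJ : ∀ n, Injective (R'.J n)) (n : ℕ)
    (W : X.Opens) (z : Γ(R.Z n, W)) : R'.Ex n W ((a.φ n).app W z) := by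
  cases n with
  | zero =>
    rw [ha]
    rfl
  | succ n =>
    obtain ⟨σ, hσ⟩ := exists_factor a ha hJ n
    rw [hσ]
    exact ⟨σ.app W z, rfl⟩

/-- lifts agreeing in degree zero agree up to coboundaries -/
theorem ex_sub (a b : Lift R R') (h : a.φ 0 = b.φ 0) (hJ : ∀ n, Injective (R'.J n)) (n : ℕ)
    (W : X.Opens) (z : Γ(R.Z n, W)) : R'.Ex n W ((a.φ n).app W z - (b.φ n).app W z) := by
  exact ex_of_φ_zero (a - b) (by rw [sub_φ, h, sub_self]) hJ n W z

noncomputable instance : Add (Lift R R') where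
  add a b :=
    { φ := fun n => a.φ n + b.φ n
      ψ := fun n => a.ψ n + b.ψ n
      ι_comm := fun n => by simp only [Preadditive.comp_add, Preadditive.add_comp, a.ι_comm, b.ι_comm]
      p_comm := fun n => by simp only [Preadditive.comp_add, Preadditive.add_comp, a.p_comm, b.p_comm] }

lemma add_φ (a b : Lift R R') (n : ℕ) : (a + b).φ n = a.φ n + b.φ n := rfl

end Lift

/-- Multiplication by a global function. -/
noncomputable def smulEnd (M : X.Modules) (r : Γ(X, ⊤)) : M ⟶ M :=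
  ⟨PresheafOfModules.homMk (Coh.smulAb M r).hom fun U s m => by
    change rr (le_top : U.unop ≤ ⊤) r • ((show Γ(X, U.unop) from s) • (show Γ(M, U.unop) from m)) =
      (show Γ(X, U.unop) from s) • (rr (le_top : U.unop ≤ ⊤) r • (show Γ(M, U.unop) from m))
    rw [smul_smul, smul_smul, mul_comm]⟩

lemma smulEnd_app (M : X.Modules) (r : Γ(X, ⊤)) (W : X.Opens) (z : Γ(M, W)) :
    (smulEnd M r).app W z = rr (le_top : W ≤ ⊤) r • z := rfl

lemma smulEnd_comp {M N : X.Modules} (g : M ⟶ N) (r : Γ(X, ⊤)) :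
    smulEnd M r ≫ g = g ≫ smulEnd N r := by
  refine Scheme.Modules.hom_ext _ _ fun W => ?_
  ext z
  exact Scheme.Modules.Hom.app_smul g _ z

/-- multiplication as a morphism of resolutions -/
noncomputable def Lift.precompSmul {R R' : FRes X} (a : Lift R R') (r : Γ(X, ⊤)) : Lift R R' where
  φ n := smulEnd (R.Z n) r ≫ a.φ n
  ψ n := smulEnd (R.J n) r ≫ a.ψ n
  ι_comm n := by
    rw [← Category.assoc, ← smulEnd_comp, Category.assoc, a.ι_comm, Category.assoc]
  p_comm n := by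
    rw [← Category.assoc, ← smulEnd_comp, Category.assoc, a.p_comm, Category.assoc]

end Groth.Agent.CohBase.FlatBC
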