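import Groth.Agent.CohBase.FlatBC.Bij
import Groth.Agent.CohAff.ResOps

/-!
# Base change of cohomology along an affine morphism

`nonempty_linearEquiv`: for `p : X' ⟶ X` affine and a flat `A`-module `P` acting by morphisms
`M ⟶ p_* G`, bijectively on affine opens, `P ⊗[A] H^n(X, M) ≃ H^n(X', G)` for `X` qcqs.
-/

universe u

open CategoryTheory CategoryTheory.Limits AlgebraicGeometry TopologicalSpace Opposite
open scoped TensorProduct

namespace Groth.Agent.CohBase.FlatBC

open Groth.Agent.CohAff (FRes)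

local notation "rs" => Groth.Agent.QCoh.res
local notation "rr" => Groth.Agent.QCoh.rres

noncomputable section

variable {X : Scheme.{u}}

lemma injective_ofMod_J (M : X.Modules) (n : ℕ) : Injective ((FRes.ofMod M).J n) :=
  (injectiveResolution M).injective n

namespace Lift

/-- composition -/
def trans {R R' R'' : FRes X} (a : Lift R R') (b : Lift R' R'') : Lift R R'' where
  φ n := a.φ n ≫ b.φ n
  ψ n := a.ψ n ≫ b.ψ n
  ι_comm n := by rw [← Category.assoc, a.ι_comm, Category.assoc, b.ι_comm, Category.assoc]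
  p_comm n := by rw [← Category.assoc, a.p_comm, Category.assoc, b.p_comm, Category.assoc]

/-- the underlying morphism of resolutions of abelian sheaves -/
def toAbHom {R R' : FRes X} (a : Lift R R') : CohAff.AbRes.Hom R.toAbRes R'.toAbRes where
  φ n := (ModShf.toAbFunctor X).map (a.φ n)
  ψ n := (ModShf.toAbFunctor X).map (a.ψ n)
  ι_comm n := ((ModShf.toAbFunctor X).map_comp _ _).symm.trans
    ((congrArg (ModShf.toAbFunctor X).map (a.ι_comm n).symm).trans ((ModShf.toAbFunctor X).map_comp _ _))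
  p_comm n := ((ModShf.toAbFunctor X).map_comp _ _).symm.trans
    ((congrArg (ModShf.toAbFunctor X).map (a.p_comm n).symm).trans ((ModShf.toAbFunctor X).map_comp _ _))

end Lift

variable {A : Type u} [CommRing A] (ρ : A →+* Γ(X, ⊤))

lemma liftH_trans {R R' R'' : FRes X} (a : Lift R R') (b : Lift R' R'') (n : ℕ) (W : X.Opens)
    (x : H ρ R n W) : liftH ρ (a.trans b) n W x = liftH ρ b n W (liftH ρ a n W x) := by
  obtain ⟨z, rfl⟩ := cl_surjective ρ R n W x
  rfl

/-- a lift of an isomorphism is bijective on classes -/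
theorem liftH_bijective {R R' : FRes X} (a : Lift R R') [IsIso (a.φ 0)] (n : ℕ) (W : X.Opens) :
    Function.Bijective (liftH ρ a n W) := by
  let e := asIso ((ModShf.toAbFunctor X).map (a.φ 0))
  have hnat : ∀ z : Γ(R.Z n, W), R'.cls n W ((a.φ n).app W z) =
      _root_.CohTop.HUmap e.hom n W (R.cls n W z) :=
    fun z => a.toAbHom.cls_naturality n W z
  have hinv : ∀ x, _root_.CohTop.HUmap e.inv n W (_root_.CohTop.HUmap e.hom n W x) = x := fun x => by
    rw [← Groth.Agent.CohTop.Basic.HUmap_comp, e.hom_inv_id, Groth.Agent.CohTop.Basic.HUmap_id]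
  have hinv' : ∀ x, _root_.CohTop.HUmap e.hom n W (_root_.CohTop.HUmap e.inv n W x) = x := fun x => by
    rw [← Groth.Agent.CohTop.Basic.HUmap_comp, e.inv_hom_id, Groth.Agent.CohTop.Basic.HUmap_id]
  constructor
  · rw [injective_iff_map_eq_zero]
    intro x hx
    obtain ⟨z, rfl⟩ := cl_surjective ρ R n W x
    rw [liftH_cl, cl_eq_zero_iff, ← R'.cls_eq_zero_iff, hnat] at hx
    rw [cl_eq_zero_iff, ← R.cls_eq_zero_iff, ← hinv (R.cls n W z), hx, map_zero]
  · intro y
    obtain ⟨z', rfl⟩ := cl_surjective ρ R' n W y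
    obtain ⟨z, hz⟩ := R.cls_surjective n W (_root_.CohTop.HUmap e.inv n W (R'.cls n W z'))
    refine ⟨cl ρ R n W z, ?_⟩
    rw [liftH_cl, cl_eq_iff, ← R'.cls_eq_zero_iff, map_sub, hnat, hz, hinv', sub_self]

/-- cohomology classes as classes of cocycles -/
theorem exists_hhEquiv (σ : A →+* Coh.Γtop X) (hσ : ∀ a, (σ a : Γ(X, ⊤)) = ρ a) (M : X.Modules) (n : ℕ) :
    letI : Module A (Coh.HH X M n) := Module.compHom (Coh.HH X M n) σ
    Nonempty (H ρ (FRes.ofMod M) n ⊤ ≃ₗ[A] Coh.HH X M n) := by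
  letI : Module A (Coh.HH X M n) := Module.compHom (Coh.HH X M n) σ
  let R := FRes.ofMod M
  let L : Sc ρ (R.Z n) ⊤ →ₗ[A] Coh.HH X M n :=
    { toFun := fun z => R.clsTop n z
      map_add' := fun z z' => map_add (R.clsTop n) z z'
      map_smul' := fun a z => by
        have key : ∀ w : Γ(R.Z n, ⊤),
            R.clsTop n (rr (le_top : (⊤ : X.Opens) ≤ ⊤) (ρ a) • w) = σ a • R.clsTop n w := fun w => by
          rw [QCoh.rres_self, ← hσ]
          exact R.clsTop_smul n (σ a) w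
        exact key z }
  refine ⟨LinearEquiv.ofBijective ((exSub ρ R n ⊤).liftQ L fun z hz => (R.clsTop_eq_zero_iff n z).2 hz) ⟨?_, ?_⟩⟩
  · rw [injective_iff_map_eq_zero]
    intro x hx
    obtain ⟨z, rfl⟩ := cl_surjective ρ R n ⊤ x
    exact (cl_eq_zero_iff ρ R n ⊤ z).2 ((R.clsTop_eq_zero_iff n z).1 hx)
  · intro y
    obtain ⟨z, hz⟩ := R.clsTop_surjective n y
    exact ⟨cl ρ R n ⊤ z, hz⟩

variable {X' : Scheme.{u}} (p : X' ⟶ X) [IsAffineHom p]

lemma pushforward_map_smulEnd (G : X'.Modules) (r : Γ(X, ⊤)) :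
    (Scheme.Modules.pushforward p).map (smulEnd G (p.appTop r)) =
      smulEnd ((Scheme.Modules.pushforward p).obj G) r := by
  refine Scheme.Modules.hom_ext _ _ fun V => ?_
  ext z
  have key : ∀ w : Γ(G, p ⁻¹ᵁ V), rr (le_top : p ⁻¹ᵁ V ≤ ⊤) (p.appTop r) • w =
      p.app V (rr (le_top : V ≤ ⊤) r) • w := fun w => by
    congr 1
    exact (congr($(p.naturality (homOfLE (le_top : V ≤ ⊤)).op) r)).symm
  exact key z

section Main

variable {A' : Type u} [CommRing A'] [Algebra A A'] (ρ' : A' →+* Γ(X', ⊤))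
  {P : Type u} [AddCommGroup P] [Module A P] [Module A' P] [IsScalarTower A A' P]
  {M : X.Modules} {G : X'.Modules} (β : P →+ (M ⟶ (Scheme.Modules.pushforward p).obj G))

lemma isLinear_of_compat (hρ : ∀ a, ρ' (algebraMap A A' a) = p.appTop (ρ a))
    (hβ : ∀ (a' : A') (b : P), β (a' • b) = β b ≫ (Scheme.Modules.pushforward p).map (smulEnd G (ρ' a'))) :
    IsLinear ρ β := fun a b => by
  rw [← algebraMap_smul A' a b, hβ, hρ, pushforward_map_smulEnd, smulEnd_comp]

variable [G.IsQuasicoherent]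

/-- the resolution of `p_* G` pushed from `X'` -/
abbrev pushRes : FRes X := (FRes.ofMod G).pushAff p

/-- multiplication on the pushed resolution -/
def pushSmul (r : Γ(X', ⊤)) : Lift (pushRes p (G := G)) (pushRes p (G := G)) where
  φ n := (Scheme.Modules.pushforward p).map (smulEnd ((FRes.ofMod G).Z n) r)
  ψ n := (Scheme.Modules.pushforward p).map (smulEnd ((FRes.ofMod G).J n) r)
  ι_comm n := ((Scheme.Modules.pushforward p).map_comp _ _).symm.trans
    ((congrArg (Scheme.Modules.pushforward p).map (smulEnd_comp ((FRes.ofMod G).ι n) r).symm).trans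
      ((Scheme.Modules.pushforward p).map_comp _ _))
  p_comm n := ((Scheme.Modules.pushforward p).map_comp _ _).symm.trans
    ((congrArg (Scheme.Modules.pushforward p).map (smulEnd_comp ((FRes.ofMod G).p n) r).symm).trans
      ((Scheme.Modules.pushforward p).map_comp _ _))

/-- classes of the pushed resolution are classes upstairs -/
def pushH (n : ℕ) : H ρ (pushRes p (G := G)) n ⊤ →+ H ρ' (FRes.ofMod G) n ⊤ :=
  (QuotientAddGroup.map (exSub ρ (pushRes p (G := G)) n ⊤).toAddSubgroup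
    (exSub ρ' (FRes.ofMod G) n ⊤).toAddSubgroup (toSc ρ' ((FRes.ofMod G).Z n) ⊤)
    fun z hz => ((FRes.ofMod G).ex_pushAff_iff p n ⊤ z).1 hz : _)

lemma pushH_cl (n : ℕ) (z : Γ((pushRes p (G := G)).Z n, ⊤)) :
    pushH ρ p ρ' n (cl ρ (pushRes p (G := G)) n ⊤ z) = cl ρ' (FRes.ofMod G) n ⊤ z := rfl

lemma pushH_bijective (n : ℕ) : Function.Bijective (pushH (G := G) ρ p ρ' n) := by
  constructor
  · rw [injective_iff_map_eq_zero]
    intro x hx
    obtain ⟨z, rfl⟩ := cl_surjective ρ (pushRes p (G := G)) n ⊤ x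
    rw [pushH_cl, cl_eq_zero_iff] at hx
    exact (cl_eq_zero_iff ρ _ n ⊤ z).2 (((FRes.ofMod G).ex_pushAff_iff p n ⊤ z).2 hx)
  · intro y
    obtain ⟨z, rfl⟩ := cl_surjective ρ' (FRes.ofMod G) n ⊤ y
    exact ⟨cl ρ (pushRes p (G := G)) n ⊤ z, rfl⟩

lemma pushH_pushSmul (n : ℕ) (a' : A') (x : H ρ (pushRes p (G := G)) n ⊤) :
    pushH ρ p ρ' n (liftH ρ (pushSmul p (ρ' a')) n ⊤ x) = a' • pushH ρ p ρ' n x := by
  obtain ⟨z, rfl⟩ := cl_surjective ρ (pushRes p (G := G)) n ⊤ x
  rw [liftH_cl, pushH_cl, pushH_cl, ← cl_smul]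
  rfl

/-- Base change of cohomology classes along an affine morphism, from bijectivity of the comparison. -/
theorem nonempty_classEquiv_of_comp (hρ : ∀ a, ρ' (algebraMap A A' a) = p.appTop (ρ a))
    (hβ : ∀ (a' : A') (b : P), β (a' • b) = β b ≫ (Scheme.Modules.pushforward p).map (smulEnd G (ρ' a')))
    (β' : P →+ ((FRes.ofMod M).Z 0 ⟶ (FRes.ofMod ((Scheme.Modules.pushforward p).obj G)).Z 0))
    (hββ : β' = β) (hlin : IsLinear ρ β') (n : ℕ)
    (hcomp : Function.Bijective (comp ρ (injective_ofMod_J _) β' hlin n ⊤)) :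
    Nonempty (P ⊗[A] H ρ (FRes.ofMod M) n ⊤ ≃ₗ[A'] H ρ' (FRes.ofMod G) n ⊤) := by
  subst hββ
  let S := FRes.ofMod ((Scheme.Modules.pushforward p).obj G)
  have hJ : ∀ k, Injective (S.J k) := injective_ofMod_J _
  let a : Lift (pushRes p (G := G)) S :=
    Lift.mk' (R := pushRes p (G := G)) (R' := S) (𝟙 ((Scheme.Modules.pushforward p).obj G)) hJ
  have : IsIso (a.φ 0) := inferInstanceAs (IsIso (𝟙 ((Scheme.Modules.pushforward p).obj G)))
  let ea := LinearEquiv.ofBijective _ (liftH_bijective ρ a n ⊤)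
  let Ψ : P ⊗[A] H ρ (FRes.ofMod M) n ⊤ →+ H ρ' (FRes.ofMod G) n ⊤ :=
    (pushH ρ p ρ' n).comp (ea.symm.toLinearMap.toAddMonoidHom.comp (comp ρ hJ β' hlin n ⊤).toAddMonoidHom)
  have hΨ : Function.Bijective Ψ :=
    (pushH_bijective ρ p ρ' n).comp (ea.symm.bijective.comp hcomp)
  refine ⟨LinearEquiv.ofBijective
    { toFun := Ψ, map_add' := map_add Ψ, map_smul' := fun a' t => ?_ } hΨ⟩
  rw [RingHom.id_apply]
  induction t using TensorProduct.induction_on with
  | zero => simp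
  | add t t' h h' => rw [smul_add, map_add, h, h', map_add, smul_add]
  | tmul b x =>
    rw [TensorProduct.smul_tmul']
    change pushH ρ p ρ' n (ea.symm (liftH ρ (Lift.mk' (β' (a' • b)) hJ) n ⊤ x)) =
      a' • pushH ρ p ρ' n (ea.symm (liftH ρ (Lift.mk' (β' b) hJ) n ⊤ x))
    rw [← pushH_pushSmul]
    congr 1
    rw [LinearEquiv.symm_apply_eq]
    let τ : Lift S S := Lift.mk' (R := S) (R' := S)
      ((Scheme.Modules.pushforward p).map (smulEnd G (ρ' a'))) hJ
    have h1 : liftH ρ (Lift.mk' (β' (a' • b)) hJ) n ⊤ x =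
        liftH ρ τ n ⊤ (liftH ρ (Lift.mk' (β' b) hJ) n ⊤ x) := by
      rw [← liftH_trans]
      exact LinearMap.congr_fun (liftH_congr ρ hJ _ _ (hβ a' b) n ⊤) x
    have h2 : ∀ y, liftH ρ τ n ⊤ (ea y) = ea (liftH ρ (pushSmul p (ρ' a')) n ⊤ y) := fun y => by
      change liftH ρ τ n ⊤ (liftH ρ a n ⊤ y) = liftH ρ a n ⊤ (liftH ρ (pushSmul p (ρ' a')) n ⊤ y)
      rw [← liftH_trans, ← liftH_trans]
      exact LinearMap.congr_fun (liftH_congr ρ hJ _ _
        ((Category.id_comp _).trans (Category.comp_id _).symm) n ⊤) y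
    rw [h1, ← h2, LinearEquiv.apply_symm_apply]

variable [M.IsQuasicoherent] [CompactSpace X] [QuasiSeparatedSpace X] [Module.Flat A P]

/-- Base change of cohomology classes along an affine morphism. -/
theorem nonempty_classEquiv (hρ : ∀ a, ρ' (algebraMap A A' a) = p.appTop (ρ a))
    (hβ : ∀ (a' : A') (b : P), β (a' • b) = β b ≫ (Scheme.Modules.pushforward p).map (smulEnd G (ρ' a')))
    (h0 : ∀ W : X.Opens, IsAffineOpen W →
      Function.Bijective (TensorProduct.lift (ev ρ β (isLinear_of_compat ρ p ρ' β hρ hβ) W)))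
    (n : ℕ) : Nonempty (P ⊗[A] H ρ (FRes.ofMod M) n ⊤ ≃ₗ[A'] H ρ' (FRes.ofMod G) n ⊤) := by
  let S := FRes.ofMod ((Scheme.Modules.pushforward p).obj G)
  let β' : P →+ ((FRes.ofMod M).Z 0 ⟶ S.Z 0) := β
  have hlin : IsLinear ρ β' := isLinear_of_compat ρ p ρ' β hρ hβ
  have : (S.Z 0).IsQuasicoherent := QCoh.isQuasicoherent_pushforward p G
  exact nonempty_classEquiv_of_comp ρ p ρ' β hρ hβ β' rfl hlin n
    (comp_bijective ρ (injective_ofMod_J _) β' hlin h0 ⊤ isCompact_univ n)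

end Main

end

end Groth.Agent.CohBase.FlatBC
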