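import Groth.Agent.CohBase.FlatBC.Global

/-!
# The base change morphism of higher direct images for a flat base change
-/

universe u

open CategoryTheory CategoryTheory.Limits AlgebraicGeometry TopologicalSpace Opposite

namespace Groth.Agent.CohBase.FlatBC

open Groth.Agent.CohAff (FRes fresOf fresOfZ0Iso zModIso)

noncomputable section

section Comparison

universe v v' w w'

variable {B : Type w} [Category.{v} B] [Abelian B] {C : Type w'} [Category.{v'} C] [Abelian C]
  (Ψ : B ⥤ C) [Ψ.Additive] [PreservesFiniteLimits Ψ]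

lemma isIso_cyclesComparison (K : CochainComplex B ℕ) (i : ℕ) : IsIso (RDer.cyclesComparison Ψ K i) := by
  let ΨK := (Ψ.mapHomologicalComplex _).obj K
  let hk := KernelFork.mapIsLimit _ (K.cyclesIsKernel i ((ComplexShape.up ℕ).next i) rfl) Ψ
  let e := IsLimit.conePointUniqueUpToIso (ΨK.cyclesIsKernel i ((ComplexShape.up ℕ).next i) rfl) hk
  have he : e.hom = RDer.cyclesComparison Ψ K i := by
    refine Fork.IsLimit.hom_ext hk ?_
    exact (IsLimit.conePointUniqueUpToIso_hom_comp _ hk WalkingParallelPair.zero).trans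
      (RDer.cyclesComparison_i Ψ K i).symm
  exact he ▸ inferInstance

lemma toCycles_cyclesComparison_succ (K : CochainComplex B ℕ) (n : ℕ) :
    ((Ψ.mapHomologicalComplex (ComplexShape.up ℕ)).obj K).toCycles n (n + 1) ≫ RDer.cyclesComparison Ψ K (n + 1) =
      Ψ.map (K.toCycles n (n + 1)) := by
  have h := RDer.toCycles_cyclesComparison Ψ K (n + 1)
  rwa [CochainComplex.prev_nat_succ] at h

lemma cyclesMap_cyclesComparison {K L : CochainComplex B ℕ} (φ : K ⟶ L) (i : ℕ) :
    HomologicalComplex.cyclesMap ((Ψ.mapHomologicalComplex _).map φ) i ≫ RDer.cyclesComparison Ψ L i =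
      RDer.cyclesComparison Ψ K i ≫ Ψ.map (HomologicalComplex.cyclesMap φ i) := by
  rw [← cancel_mono (Ψ.map (L.iCycles i)), Category.assoc, Category.assoc, RDer.cyclesComparison_i]
  erw [HomologicalComplex.cyclesMap_i]
  rw [← Ψ.map_comp, HomologicalComplex.cyclesMap_i, Ψ.map_comp, RDer.cyclesComparison_i_assoc]
  rfl

variable {K : CochainComplex C ℕ} {L : CochainComplex B ℕ}
  (φ : K ⟶ (Ψ.mapHomologicalComplex (ComplexShape.up ℕ)).obj L)

lemma cyclesMap_cc_i (k : ℕ) :
    (HomologicalComplex.cyclesMap φ k ≫ RDer.cyclesComparison Ψ L k) ≫ Ψ.map (L.iCycles k) =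
      K.iCycles k ≫ φ.f k := by
  rw [Category.assoc, RDer.cyclesComparison_i]
  exact HomologicalComplex.cyclesMap_i φ k

lemma toCycles_cyclesMap_cc (k : ℕ) :
    K.toCycles k (k + 1) ≫ HomologicalComplex.cyclesMap φ (k + 1) ≫ RDer.cyclesComparison Ψ L (k + 1) =
      φ.f k ≫ Ψ.map (L.toCycles k (k + 1)) := by
  refine (cancel_mono (Ψ.map (L.iCycles (k + 1)))).1 ?_
  refine ((Category.assoc _ _ _).trans ((congrArg (_ ≫ ·) (cyclesMap_cc_i Ψ φ (k + 1))).trans ?_))
  refine (Category.assoc _ _ _).symm.trans ((congrArg (· ≫ _) (K.toCycles_i k (k + 1))).trans ?_)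
  refine (φ.comm k (k + 1)).symm.trans ?_
  exact (congrArg (φ.f k ≫ ·) ((congrArg Ψ.map (L.toCycles_i k (k + 1))).symm.trans (Ψ.map_comp _ _))).trans
    (Category.assoc _ _ _).symm

omit [Abelian B] [Ψ.Additive] [PreservesFiniteLimits Ψ] in
lemma map_inv_hom_cancel {Z Y T : B} {a : C} (e : Z ≅ Y) (x : a ⟶ Ψ.obj Y) (i : Y ⟶ T) :
    (x ≫ Ψ.map e.inv) ≫ Ψ.map (e.hom ≫ i) = x ≫ Ψ.map i := by simp

omit [Abelian B] [Ψ.Additive] [PreservesFiniteLimits Ψ] in
lemma inv_hom_map_cancel {Z Y : C} {Z' Y' : B} {a : C} (e : Z ≅ Y) (e' : Z' ≅ Y') (t : a ⟶ Y)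
    (x : Y ⟶ Ψ.obj Y') :
    (t ≫ e.inv) ≫ ((e.hom ≫ x) ≫ Ψ.map e'.inv) = (t ≫ x) ≫ Ψ.map e'.inv := by simp

end Comparison

section KeyAbs

universe v₁ v₂ v₃ v₄ u₁ u₂ u₃ u₄

variable {A : Type u₁} [Category.{v₁} A] [Abelian A] {B : Type u₂} [Category.{v₂} B] [Abelian B]
  {D : Type u₃} [Category.{v₃} D] [Abelian D] {C : Type u₄} [Category.{v₄} C] [Abelian C]
  (Pp : A ⥤ B) [Pp.Additive] [PreservesFiniteLimits Pp] (Pf : B ⥤ C) [Pf.Additive] [PreservesFiniteLimits Pf]
  (Pq : A ⥤ D) [Pq.Additive] [PreservesFiniteLimits Pq] (Pg : D ⥤ C) [Pg.Additive] [PreservesFiniteLimits Pg]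
  (e : Pp ⋙ Pf ⟶ Pq ⋙ Pg) {K : CochainComplex B ℕ} {L : CochainComplex A ℕ}
  (a : K ⟶ (Pp.mapHomologicalComplex (ComplexShape.up ℕ)).obj L) (i : ℕ)

lemma square_cycles :
    HomologicalComplex.cyclesMap ((Pf.mapHomologicalComplex _).map a) i ≫
      HomologicalComplex.cyclesMap ((NatTrans.mapHomologicalComplex e (ComplexShape.up ℕ)).app L) i ≫
      RDer.cyclesComparison Pg ((Pq.mapHomologicalComplex _).obj L) i ≫ Pg.map (RDer.cyclesComparison Pq L i) =
    RDer.cyclesComparison Pf K i ≫ Pf.map (HomologicalComplex.cyclesMap a i ≫ RDer.cyclesComparison Pp L i) ≫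
      e.app (L.cycles i) := by
  refine (cancel_mono (Pg.map (Pq.map (L.iCycles i)))).1 ?_
  simp only [Category.assoc]
  rw [← Functor.map_comp, RDer.cyclesComparison_i]
  erw [RDer.cyclesComparison_i]
  erw [HomologicalComplex.cyclesMap_i, HomologicalComplex.cyclesMap_i_assoc]
  symm
  refine (congrArg (fun x => RDer.cyclesComparison Pf K i ≫
    Pf.map (HomologicalComplex.cyclesMap a i ≫ RDer.cyclesComparison Pp L i) ≫ x)
      (e.naturality (L.iCycles i)).symm).trans ?_
  refine (congrArg (RDer.cyclesComparison Pf K i ≫ ·) ((Category.assoc _ _ _).symm.trans (congrArg (· ≫ _)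
    ((Pf.map_comp _ _).symm.trans ((congrArg Pf.map (cyclesMap_cc_i Pp a i)).trans (Pf.map_comp _ _)))))).trans ?_
  exact (congrArg (RDer.cyclesComparison Pf K i ≫ ·) (Category.assoc _ _ _)).trans ((Category.assoc _ _ _).symm.trans
    (congrArg (· ≫ _) (RDer.cyclesComparison_i Pf K i)))

lemma square_homology {Rf : C} {Rq : D} (πf : Pf.obj (K.cycles i) ⟶ Rf) (πq : Pq.obj (L.cycles i) ⟶ Rq)
    (hf : ((Pf.mapHomologicalComplex _).obj K).homology i ⟶ Rf)
    (hq : ((Pq.mapHomologicalComplex _).obj L).homology i ⟶ Rq)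
    (hhf : ((Pf.mapHomologicalComplex _).obj K).homologyπ i ≫ hf = RDer.cyclesComparison Pf K i ≫ πf)
    (hhq : ((Pq.mapHomologicalComplex _).obj L).homologyπ i ≫ hq = RDer.cyclesComparison Pq L i ≫ πq)
    (r : Rf ⟶ Pg.obj Rq)
    (hr : πf ≫ r = Pf.map (HomologicalComplex.cyclesMap a i ≫ RDer.cyclesComparison Pp L i) ≫ e.app (L.cycles i) ≫
      Pg.map πq) :
    HomologicalComplex.homologyMap ((Pf.mapHomologicalComplex _).map a) i ≫
      HomologicalComplex.homologyMap ((NatTrans.mapHomologicalComplex e (ComplexShape.up ℕ)).app L) i ≫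
      RDer.homologyComparison Pg ((Pq.mapHomologicalComplex _).obj L) i ≫ Pg.map hq = hf ≫ r := by
  refine (cancel_epi (((Pf.mapHomologicalComplex (ComplexShape.up ℕ)).obj K).homologyπ i)).1 ?_
  refine Eq.trans ?_ (((Category.assoc _ _ _).symm.trans (congrArg (· ≫ r) hhf)).trans
    ((Category.assoc _ _ _).trans (congrArg (RDer.cyclesComparison Pf K i ≫ ·) hr))).symm
  refine (HomologicalComplex.homologyπ_naturality_assoc _ _ _).trans ?_
  refine (congrArg (_ ≫ ·) (HomologicalComplex.homologyπ_naturality_assoc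
    ((NatTrans.mapHomologicalComplex e (ComplexShape.up ℕ)).app L) i _)).trans ?_
  refine (congrArg (fun x => _ ≫ _ ≫ x) ((RDer.homologyπ_homologyComparison_assoc _ _ _ _).trans
    (congrArg (_ ≫ ·) ((Pg.map_comp _ _).symm.trans ((congrArg Pg.map hhq).trans (Pg.map_comp _ _)))))).trans ?_
  have h := (square_cycles Pp Pf Pq Pg e a i) =≫ Pg.map πq
  simp only [Category.assoc] at h
  exact h

omit [Abelian C] in
lemma chase {X₁ X₂ X₃ X₄ X₅ Y₁ Y₂ Y₃ Z : C} {A₁ : X₂ ⟶ X₃} (e₁ : X₁ ≅ X₂) (e₂ : Y₁ ≅ X₃) {B₁ : X₃ ⟶ X₄}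
    (e₃ : Y₂ ≅ X₄) {C₁ : X₄ ⟶ X₅} (e₄ : Y₃ ≅ X₅) {D₁ : X₅ ⟶ Z} {A₂ : X₂ ⟶ X₄} (h : A₁ ≫ B₁ = A₂) :
    (e₁.hom ≫ A₁ ≫ e₂.inv) ≫ (e₂.hom ≫ B₁ ≫ e₃.inv) ≫ (e₃.hom ≫ C₁ ≫ e₄.inv) ≫ (e₄.hom ≫ D₁) =
      e₁.hom ≫ A₂ ≫ C₁ ≫ D₁ := by
  simp [← h]

end KeyAbs


variable {X S S' X' : Scheme.{u}} {f : X ⟶ S} {g : S' ⟶ S} {p : X' ⟶ X} {q : X' ⟶ S'}

/-- homology of the pushed resolution is the model -/
def homologyIsoRc (f : X ⟶ S) {M : X.Modules} (n : ℕ) :
    (((Scheme.Modules.pushforward f).mapHomologicalComplex (ComplexShape.up ℕ)).obj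
      (injectiveResolution M).cocomplex).homology (n + 1) ≅ (FRes.ofMod M).Rc f n :=
  IsColimit.coconePointUniqueUpToIso
      ((((Scheme.Modules.pushforward f).mapHomologicalComplex (ComplexShape.up ℕ)).obj
        (injectiveResolution M).cocomplex).homologyIsCokernel n (n + 1) (by simp))
      (cokernelIsCokernel _) ≪≫
    cokernel.mapIso _ ((FRes.ofMod M).pP f n) (Iso.refl _)
      (@asIso _ _ _ _ (RDer.cyclesComparison (Scheme.Modules.pushforward f) (injectiveResolution M).cocomplex (n + 1))
        (isIso_cyclesComparison _ _ _))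
      (by
        refine (toCycles_cyclesComparison_succ (Scheme.Modules.pushforward f) _ n).trans
          ((congrArg (Scheme.Modules.pushforward f).map ?_).trans (Category.id_comp _).symm)
        exact (Category.comp_id _).symm)

lemma homologyπ_homologyIsoRc (f : X ⟶ S) {M : X.Modules} (n : ℕ) :
    (((Scheme.Modules.pushforward f).mapHomologicalComplex (ComplexShape.up ℕ)).obj
      (injectiveResolution M).cocomplex).homologyπ (n + 1) ≫ (homologyIsoRc (M := M) f n).hom =
      RDer.cyclesComparison (Scheme.Modules.pushforward f) (injectiveResolution M).cocomplex (n + 1) ≫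
        cokernel.π ((FRes.ofMod M).pP f n) := by
  let K := ((Scheme.Modules.pushforward f).mapHomologicalComplex (ComplexShape.up ℕ)).obj
    (injectiveResolution M).cocomplex
  have h1 : K.homologyπ (n + 1) ≫ (IsColimit.coconePointUniqueUpToIso
      (K.homologyIsCokernel n (n + 1) (by simp)) (cokernelIsCokernel _)).hom = cokernel.π (K.toCycles n (n + 1)) :=
    IsColimit.comp_coconePointUniqueUpToIso_hom (K.homologyIsCokernel n (n + 1) (by simp))
      (cokernelIsCokernel _) WalkingParallelPair.one
  refine ((Category.assoc _ _ _).symm.trans (congrArg (· ≫ _) h1)).trans ?_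
  exact cokernel.π_desc (f := K.toCycles n (n + 1)) _ _

variable (M : X.Modules)

/-- a chain map over the unit gives a cross lift -/
def crossOfChainMap (a : (injectiveResolution M).cocomplex ⟶
      ((Scheme.Modules.pushforward p).mapHomologicalComplex (ComplexShape.up ℕ)).obj
        (injectiveResolution ((Scheme.Modules.pullback p).obj M)).cocomplex) :
    CrossLift p (FRes.ofMod M) (FRes.ofMod ((Scheme.Modules.pullback p).obj M)) where
  φ k := ((zModIso M k).hom ≫ HomologicalComplex.cyclesMap a k ≫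
    RDer.cyclesComparison (Scheme.Modules.pushforward p) (injectiveResolution ((Scheme.Modules.pullback p).obj M)).cocomplex k) ≫
    (Scheme.Modules.pushforward p).map (zModIso ((Scheme.Modules.pullback p).obj M) k).inv
  ψ k := a.f k
  ι_comm k := by
    refine Eq.trans ?_ (map_inv_hom_cancel (Scheme.Modules.pushforward p)
      (zModIso ((Scheme.Modules.pullback p).obj M) k) _
      ((injectiveResolution ((Scheme.Modules.pullback p).obj M)).cocomplex.iCycles k)).symm
    exact (Category.assoc _ _ _).trans ((congrArg (_ ≫ ·) (cyclesMap_cc_i _ a k).symm).trans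
      (Category.assoc _ _ _).symm)
  p_comm k := by
    refine (inv_hom_map_cancel (Scheme.Modules.pushforward p) (zModIso M (k + 1))
      (zModIso ((Scheme.Modules.pullback p).obj M) (k + 1)) _ _).trans ?_
    exact (congrArg (· ≫ _) (toCycles_cyclesMap_cc _ a k)).trans
      ((Category.assoc _ _ _).trans (congrArg (_ ≫ ·) (Functor.map_comp _ _ _).symm))

lemma crossOfChainMap_φ_zero (a : (injectiveResolution M).cocomplex ⟶
      ((Scheme.Modules.pushforward p).mapHomologicalComplex (ComplexShape.up ℕ)).obj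
        (injectiveResolution ((Scheme.Modules.pullback p).obj M)).cocomplex)
    (ha : (injectiveResolution M).ι.f 0 ≫ a.f 0 = (Scheme.Modules.pullbackPushforwardAdjunction p).unit.app M ≫
      (Scheme.Modules.pushforward p).map ((injectiveResolution ((Scheme.Modules.pullback p).obj M)).ι.f 0)) :
    (crossOfChainMap M a).φ 0 = (Scheme.Modules.pullbackPushforwardAdjunction p).unit.app M := by
  have hm : Mono ((Scheme.Modules.pushforward p).map
      ((injectiveResolution ((Scheme.Modules.pullback p).obj M)).ι.f 0)) := inferInstance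
  have hι : ∀ {Z : Scheme.{u}} (N : Z.Modules), (zModIso N 0).hom ≫ (injectiveResolution N).cocomplex.iCycles 0 =
      (injectiveResolution N).ι.f 0 := fun N =>
    IsLimit.conePointUniqueUpToIso_inv_comp ((injectiveResolution N).cocomplex.cyclesIsKernel 0 1 (by simp))
      (ModShf.AcyclicRes.Res.isLimitKernelFork ⟨(injectiveResolution N).cocomplex, (injectiveResolution N).ι, inferInstance⟩)
      WalkingParallelPair.zero
  refine hm.right_cancellation _ _ ?_
  refine (congrArg (fun x => (crossOfChainMap M a).φ 0 ≫ (Scheme.Modules.pushforward p).map x)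
    (hι ((Scheme.Modules.pullback p).obj M)).symm).trans ?_
  refine (map_inv_hom_cancel (Scheme.Modules.pushforward p) (zModIso ((Scheme.Modules.pullback p).obj M) 0) _
    ((injectiveResolution ((Scheme.Modules.pullback p).obj M)).cocomplex.iCycles 0)).trans ?_
  refine ((Category.assoc _ _ _).trans ((congrArg (_ ≫ ·) (cyclesMap_cc_i _ a 0)).trans
    (Category.assoc _ _ _).symm)).trans ?_
  exact (congrArg (· ≫ a.f 0) (hι M)).trans ha

variable [HasInjectiveResolutions X.Modules] [HasInjectiveResolutions X'.Modules]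
  [PreservesFiniteLimits (Scheme.Modules.pullback p)]

variable (p) in
/-- the composite chain map behind the base change morphism -/
def bcChain : (injectiveResolution M).cocomplex ⟶
    ((Scheme.Modules.pushforward p).mapHomologicalComplex (ComplexShape.up ℕ)).obj
      (injectiveResolution ((Scheme.Modules.pullback p).obj M)).cocomplex :=
  InjectiveResolution.desc ((Scheme.Modules.pullbackPushforwardAdjunction p).unit.app M)
      (injectiveResolution ((Scheme.Modules.pushforward p).obj ((Scheme.Modules.pullback p).obj M)))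
      (injectiveResolution M) ≫
    RDer.descToInjectives (𝟙 _)
      (injectiveResolution ((Scheme.Modules.pushforward p).obj ((Scheme.Modules.pullback p).obj M))).cocomplex
      (injectiveResolution ((Scheme.Modules.pushforward p).obj ((Scheme.Modules.pullback p).obj M))).ι
      (((Scheme.Modules.pushforward p).mapHomologicalComplex (ComplexShape.up ℕ)).obj
        (injectiveResolution ((Scheme.Modules.pullback p).obj M)).cocomplex)
      (RDer.mapAug (Scheme.Modules.pushforward p) (injectiveResolution ((Scheme.Modules.pullback p).obj M)).ι)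

lemma bcChain_zero : (injectiveResolution M).ι.f 0 ≫ (bcChain p M).f 0 =
    (Scheme.Modules.pullbackPushforwardAdjunction p).unit.app M ≫
      (Scheme.Modules.pushforward p).map ((injectiveResolution ((Scheme.Modules.pullback p).obj M)).ι.f 0) := by
  have h1 := HomologicalComplex.congr_hom (InjectiveResolution.desc_commutes
    ((Scheme.Modules.pullbackPushforwardAdjunction p).unit.app M)
    (injectiveResolution ((Scheme.Modules.pushforward p).obj ((Scheme.Modules.pullback p).obj M))) (injectiveResolution M)) 0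
  rw [HomologicalComplex.comp_f, HomologicalComplex.comp_f] at h1
  rw [bcChain, HomologicalComplex.comp_f]
  erw [reassoc_of% h1]
  erw [RDer.ι_descToInjectives_f_zero]
  exact congrArg (_ ≫ ·) (Category.id_comp _)

variable (w : p ≫ f = q ≫ g)

/-- the base change morphism in adjoint form, on the models -/
theorem bcQAdj_comp (n : ℕ) :
    CohBC.bcQAdj f g q p w (n + 1) M ≫ (Scheme.Modules.pushforward g).map
        (((injectiveResolution ((Scheme.Modules.pullback p).obj M)).isoRightDerivedObj
          (Scheme.Modules.pushforward q) (n + 1)).hom ≫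
          (homologyIsoRc (M := (Scheme.Modules.pullback p).obj M) q n).hom) =
      (((injectiveResolution M).isoRightDerivedObj (Scheme.Modules.pushforward f) (n + 1)).hom ≫
          (homologyIsoRc (M := M) f n).hom) ≫
        (crossOfChainMap M (bcChain p M)).rcAdj f g q w n := by
  let Pg := Scheme.Modules.pushforward g
  have key := square_homology (Scheme.Modules.pushforward p) (Scheme.Modules.pushforward f)
    (Scheme.Modules.pushforward q) Pg (pushSquare f g q w).hom (bcChain p M) (n + 1)
    (cokernel.π ((FRes.ofMod M).pP f n)) (cokernel.π ((FRes.ofMod ((Scheme.Modules.pullback p).obj M)).pP q n))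
    (homologyIsoRc (M := M) f n).hom (homologyIsoRc (M := (Scheme.Modules.pullback p).obj M) q n).hom
    (homologyπ_homologyIsoRc f n) (homologyπ_homologyIsoRc q n)
    ((crossOfChainMap M (bcChain p M)).rcAdj f g q w n) (by
      refine (cokernel.π_desc _ _ _).trans ?_
      refine congrArg (fun x => (Scheme.Modules.pushforward f).map x ≫ _) ?_
      exact ((congrArg (_ ≫ ·) ((Scheme.Modules.pushforward p).map_id _)).trans (Category.comp_id _)).trans
        (Category.id_comp _))
  have h1 := (Scheme.Modules.pushforward f).rightDerived_map_eq (n + 1)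
    ((Scheme.Modules.pullbackPushforwardAdjunction p).unit.app M)
    (P := injectiveResolution M)
    (Q := injectiveResolution ((Scheme.Modules.pushforward p).obj ((Scheme.Modules.pullback p).obj M)))
    _ (InjectiveResolution.desc_commutes _ _ _)
  have hsq : (CohBC.RpushSquareIso f g q p w (n + 1)).hom.app ((Scheme.Modules.pullback p).obj M) = _ :=
    InjectiveResolution.rightDerived_app_eq (pushSquare f g q w).hom
      (injectiveResolution ((Scheme.Modules.pullback p).obj M)) (n + 1)
  have hab : (HomologicalComplex.homologyFunctor S.Modules (ComplexShape.up ℕ) (n + 1)).map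
      (((Scheme.Modules.pushforward f).mapHomologicalComplex _).map (bcChain p M)) = _ :=
    (congrArg _ ((Scheme.Modules.pushforward f).mapHomologicalComplex (ComplexShape.up ℕ) |>.map_comp _ _)).trans
      (Functor.map_comp _ _ _)
  refine ((congrArg (· ≫ _) (congrArg₂ (fun x y => x ≫ _ ≫ y ≫ _) h1 hsq)).trans ?_)
  refine ((congrArg (· ≫ _) (chase _ _ _ _ hab.symm)).trans ?_)
  simp only [Category.assoc]
  rw [← Functor.map_comp]
  erw [Iso.inv_hom_id_assoc]
  exact congrArg (_ ≫ ·) key

omit w in
theorem isIso_bcQ [M.IsQuasicoherent] [QuasiCompact f] [QuasiSeparated f] [Flat g] (H : IsPullback p q f g) :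
    ∀ i : ℕ, IsIso (CohBC.bcQ f g q p H.w i M)
  | 0 => by
    have := isIso_bc0_of_flat f g p q M H
    have h := CohBC.bcQ_zero_compat f g q p H.w M
    have : IsIso ((Scheme.Modules.pullback g).map ((Scheme.Modules.pushforward f).toRightDerivedZero.app M) ≫
        CohBC.bcQ f g q p H.w 0 M) := by rw [h]; infer_instance
    exact IsIso.of_isIso_comp_left ((Scheme.Modules.pullback g).map
      ((Scheme.Modules.pushforward f).toRightDerivedZero.app M)) _
  | n + 1 => by
    let L := crossOfChainMap M (bcChain p M)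
    have := isIso_rc f g p q M H L (crossOfChainMap_φ_zero M _ (bcChain_zero M)) n
    let γ := (injectiveResolution M).isoRightDerivedObj (Scheme.Modules.pushforward f) (n + 1) ≪≫
      homologyIsoRc (M := M) f n
    let γ' := (injectiveResolution ((Scheme.Modules.pullback p).obj M)).isoRightDerivedObj (Scheme.Modules.pushforward q) (n + 1) ≪≫
      homologyIsoRc (M := ((Scheme.Modules.pullback p).obj M)) q n
    have h : CohBC.bcQ f g q p H.w (n + 1) M ≫ γ'.hom =
        (Scheme.Modules.pullback g).map γ.hom ≫ L.rc f g q H.w n := by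
      rw [CohBC.bcQ, CrossLift.rc, ← Adjunction.homEquiv_naturality_right_symm,
        ← Adjunction.homEquiv_naturality_left_symm]
      exact congrArg _ (bcQAdj_comp M H.w n)
    have : IsIso (CohBC.bcQ f g q p H.w (n + 1) M ≫ γ'.hom) := by rw [h]; infer_instance
    exact IsIso.of_isIso_comp_right _ γ'.hom

end

end Groth.Agent.CohBase.FlatBC
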