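import Groth.Agent.CohBase.FlatBC.Mods
import Mathlib.Algebra.FiveLemma
import Mathlib.LinearAlgebra.TensorProduct.Prod
import Mathlib.RingTheory.Flat.Basic

/-!
# The base change theorem for cohomology of quasi-coherent modules

A flat `A`-module `P` of morphisms `R.Z 0 ⟶ R'.Z 0` whose evaluation is bijective over affine opens
evaluates bijectively on cohomology over every quasi-compact open of a quasi-separated scheme.
-/

universe u

open CategoryTheory CategoryTheory.Limits AlgebraicGeometry TopologicalSpace Opposite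
open scoped TensorProduct

namespace Groth.Agent.CohBase.FlatBC

open Groth.Agent.CohAff (FRes)

local notation "rs" => Groth.Agent.QCoh.res
local notation "rr" => Groth.Agent.QCoh.rres

noncomputable section

variable {X : Scheme.{u}} {A : Type u} [CommRing A] (ρ : A →+* Γ(X, ⊤))
  {P : Type u} [AddCommGroup P] [Module A P]

/-- an `A`-linear family of morphisms, evaluated on sections -/
def IsLinear {M N : X.Modules} (β : P →+ (M ⟶ N)) : Prop :=
  ∀ (a : A) (b : P), β (a • b) = smulEnd M (ρ a) ≫ β b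

variable {M N : X.Modules} (β : P →+ (M ⟶ N))

lemma isLinear_of_app (h : ∀ (a : A) (b : P) (W : X.Opens) (z : Γ(M, W)),
    (β (a • b)).app W z = rr (le_top : W ≤ ⊤) (ρ a) • (β b).app W z) : IsLinear ρ β := fun a b => by
  refine Scheme.Modules.hom_ext _ _ fun W => ?_
  ext z
  exact (h a b W z).trans (Scheme.Modules.Hom.app_smul (β b) _ z).symm

/-- evaluation on sections over `W` -/
def ev (hβ : IsLinear ρ β) (W : X.Opens) : P →ₗ[A] Sc ρ M W →ₗ[A] Sc ρ N W where
  toFun b := scMap ρ (β b) W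
  map_add' b b' := by
    refine LinearMap.ext fun z => ?_
    change (β (b + b')).app W z = (β b).app W z + (β b').app W z
    rw [map_add]
    rfl
  map_smul' a b := by
    refine LinearMap.ext fun z => ?_
    have key : ∀ w : Γ(M, W), (β (a • b)).app W w = rr (le_top : W ≤ ⊤) (ρ a) • (β b).app W w := fun w => by
      rw [hβ]
      exact Scheme.Modules.Hom.app_smul (β b) _ w
    exact key z

section Classes

variable {R R' : FRes X}

/-- the action of a lift on classes -/
def liftH (a : Lift R R') (n : ℕ) (W : X.Opens) : H ρ R n W →ₗ[A] H ρ R' n W :=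
  (exSub ρ R n W).mapQ (exSub ρ R' n W) (scMap ρ (a.φ n) W) fun z hz => by
    cases n with
    | zero =>
      have hz' : (show Γ(R.Z 0, W) from z) = 0 := hz
      change (a.φ 0).app W (show Γ(R.Z 0, W) from z) = 0
      rw [hz', map_zero]
    | succ n =>
      obtain ⟨e, he⟩ := hz
      refine ⟨(a.ψ n).app W e, ?_⟩
      change _ = (a.φ (n + 1)).app W (show Γ(R.Z (n + 1), W) from z)
      rw [← show (R.p n).app W e = (show Γ(R.Z (n + 1), W) from z) from he]
      exact congr($(congrArg (fun g => Scheme.Modules.Hom.app g W) (a.p_comm n)) e).symm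

lemma liftH_cl (a : Lift R R') (n : ℕ) (W : X.Opens) (z : Γ(R.Z n, W)) :
    liftH ρ a n W (cl ρ R n W z) = cl ρ R' n W ((a.φ n).app W z) := rfl

lemma liftH_congr (hJ : ∀ n, Injective (R'.J n)) (a b : Lift R R') (h : a.φ 0 = b.φ 0) (n : ℕ)
    (W : X.Opens) : liftH ρ a n W = liftH ρ b n W := by
  refine LinearMap.ext fun x => ?_
  obtain ⟨z, rfl⟩ := cl_surjective ρ R n W x
  rw [liftH_cl, liftH_cl, cl_eq_iff]
  exact Lift.ex_sub a b h hJ n W z

lemma liftH_hres (a : Lift R R') (n : ℕ) {U V : X.Opens} (h : V ≤ U) (x : H ρ R n U) :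
    hres ρ R' n h (liftH ρ a n U x) = liftH ρ a n V (hres ρ R n h x) := by
  obtain ⟨z, rfl⟩ := cl_surjective ρ R n U x
  rw [liftH_cl, hres_cl, hres_cl, liftH_cl, QCoh.app_res]

lemma liftH_mvδ (a : Lift R R') (n : ℕ) (U V : X.Opens) (x : H ρ R n (U ⊓ V)) :
    mvδ ρ R' n U V (liftH ρ a n _ x) = liftH ρ a (n + 1) _ (mvδ ρ R n U V x) := by
  obtain ⟨c, rfl⟩ := cl_surjective ρ R n _ x
  obtain ⟨z, hz⟩ := exists_isMV R n U V c
  rw [liftH_cl, mvδ_cl ρ R hz, liftH_cl]
  obtain ⟨e, he, h₁, h₂⟩ := hz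
  refine mvδ_cl ρ R' ⟨(a.ψ n).app U e, ?_, ?_, ?_⟩
  · rw [← QCoh.app_res, he]
    exact congr($(congrArg (fun g => Scheme.Modules.Hom.app g (U ⊓ V)) (a.ι_comm n)) c)
  · rw [← QCoh.app_res, h₁]
    exact congr($(congrArg (fun g => Scheme.Modules.Hom.app g U) (a.p_comm n)) e)
  · rw [← QCoh.app_res, h₂, map_zero]

variable (hJ : ∀ n, Injective (R'.J n)) (β : P →+ (R.Z 0 ⟶ R'.Z 0)) (hβ : IsLinear ρ β)

/-- evaluation on classes -/
def evH (n : ℕ) (W : X.Opens) : P →ₗ[A] H ρ R n W →ₗ[A] H ρ R' n W where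
  toFun b := liftH ρ (Lift.mk' (β b) hJ) n W
  map_add' b b' := by
    rw [liftH_congr ρ hJ (Lift.mk' (β (b + b')) hJ) (Lift.mk' (β b) hJ + Lift.mk' (β b') hJ)
      (by rw [Lift.add_φ, Lift.mk'_φ_zero, Lift.mk'_φ_zero, Lift.mk'_φ_zero, map_add]) n W]
    refine LinearMap.ext fun x => ?_
    obtain ⟨z, rfl⟩ := cl_surjective ρ R n W x
    rw [LinearMap.add_apply, liftH_cl, liftH_cl, liftH_cl, Lift.add_φ, ← map_add]
    rfl
  map_smul' a b := by
    rw [liftH_congr ρ hJ (Lift.mk' (β (a • b)) hJ) ((Lift.mk' (β b) hJ).precompSmul (ρ a)) (hβ a b) n W]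
    refine LinearMap.ext fun x => ?_
    obtain ⟨z, rfl⟩ := cl_surjective ρ R n W x
    rw [RingHom.id_apply, LinearMap.smul_apply, liftH_cl, liftH_cl, ← cl_smul]
    exact congrArg _ (Scheme.Modules.Hom.app_smul _ _ z)

/-- the base change map on classes -/
def comp (n : ℕ) (W : X.Opens) : P ⊗[A] H ρ R n W →ₗ[A] H ρ R' n W :=
  TensorProduct.lift (evH ρ hJ β hβ n W)

lemma comp_hres (n : ℕ) {U V : X.Opens} (h : V ≤ U) :
    (hres ρ R' n h).comp (comp ρ hJ β hβ n U) =
      (comp ρ hJ β hβ n V).comp ((hres ρ R n h).lTensor P) :=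
  TensorProduct.ext' fun b x => liftH_hres ρ _ n h x

lemma comp_mvδ (n : ℕ) (U V : X.Opens) :
    (mvδ ρ R' n U V).comp (comp ρ hJ β hβ n (U ⊓ V)) =
      (comp ρ hJ β hβ (n + 1) (U ⊔ V)).comp ((mvδ ρ R n U V).lTensor P) :=
  TensorProduct.ext' fun b x => liftH_mvδ ρ _ n U V x

/-- the base change map on pairs -/
def compPair (n : ℕ) (U V : X.Opens) :
    P ⊗[A] (H ρ R n U × H ρ R n V) →ₗ[A] H ρ R' n U × H ρ R' n V :=
  ((comp ρ hJ β hβ n U).prodMap (comp ρ hJ β hβ n V)).comp
    (TensorProduct.prodRight A A P (H ρ R n U) (H ρ R n V)).toLinearMap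

lemma comp_diag (n : ℕ) (U V : X.Opens) :
    (diag ρ R' n U V).comp (comp ρ hJ β hβ n (U ⊔ V)) =
      (compPair ρ hJ β hβ n U V).comp ((diag ρ R n U V).lTensor P) :=
  TensorProduct.ext' fun b x => Prod.ext (liftH_hres ρ _ n _ x) (liftH_hres ρ _ n _ x)

lemma comp_diff (n : ℕ) (U V : X.Opens) :
    (diff ρ R' n U V).comp (compPair ρ hJ β hβ n U V) =
      (comp ρ hJ β hβ n (U ⊓ V)).comp ((diff ρ R n U V).lTensor P) :=
  TensorProduct.ext' fun b x => by
    change hres ρ R' n inf_le_left (liftH ρ _ n U x.1) - hres ρ R' n inf_le_right (liftH ρ _ n V x.2) =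
      liftH ρ _ n (U ⊓ V) (hres ρ R n inf_le_left x.1 - hres ρ R n inf_le_right x.2)
    rw [liftH_hres, liftH_hres, map_sub]
    rfl

lemma compPair_bijective {n : ℕ} {U V : X.Opens} (hU : Function.Bijective (comp ρ hJ β hβ n U))
    (hV : Function.Bijective (comp ρ hJ β hβ n V)) : Function.Bijective (compPair ρ hJ β hβ n U V) :=
  (hU.prodMap hV).comp (LinearEquiv.bijective _)

variable [Module.Flat A P]

theorem comp_bijective_sup {U V : X.Opens}
    (hU : ∀ n, Function.Bijective (comp ρ hJ β hβ n U))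
    (hV : ∀ n, Function.Bijective (comp ρ hJ β hβ n V))
    (hUV : ∀ n, Function.Bijective (comp ρ hJ β hβ n (U ⊓ V))) :
    ∀ n, Function.Bijective (comp ρ hJ β hβ n (U ⊔ V))
  | 0 => AddMonoidHom.bijective_of_bijective_of_injective_of_left_exact
      ((diag ρ R 0 U V).lTensor P).toAddMonoidHom ((diff ρ R 0 U V).lTensor P).toAddMonoidHom
      (diag ρ R' 0 U V).toAddMonoidHom (diff ρ R' 0 U V).toAddMonoidHom
      (comp ρ hJ β hβ 0 (U ⊔ V)).toAddMonoidHom (compPair ρ hJ β hβ 0 U V).toAddMonoidHom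
      (comp ρ hJ β hβ 0 (U ⊓ V)).toAddMonoidHom
      (AddMonoidHom.ext fun t => LinearMap.congr_fun (comp_diag ρ hJ β hβ 0 U V) t)
      (AddMonoidHom.ext fun t => LinearMap.congr_fun (comp_diff ρ hJ β hβ 0 U V) t)
      (Module.Flat.lTensor_exact P (exact_diag_diff ρ R 0 U V))
      (exact_diag_diff ρ R' 0 U V)
      (compPair_bijective ρ hJ β hβ (hU 0) (hV 0)) (hUV 0).1
      (Module.Flat.lTensor_preserves_injective_linearMap _ (diag_zero_injective ρ R U V))
      (diag_zero_injective ρ R' U V)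
  | n + 1 => AddMonoidHom.bijective_of_surjective_of_bijective_of_bijective_of_injective
      ((diff ρ R n U V).lTensor P).toAddMonoidHom ((mvδ ρ R n U V).lTensor P).toAddMonoidHom
      ((diag ρ R (n + 1) U V).lTensor P).toAddMonoidHom ((diff ρ R (n + 1) U V).lTensor P).toAddMonoidHom
      (diff ρ R' n U V).toAddMonoidHom (mvδ ρ R' n U V).toAddMonoidHom
      (diag ρ R' (n + 1) U V).toAddMonoidHom (diff ρ R' (n + 1) U V).toAddMonoidHom
      (compPair ρ hJ β hβ n U V).toAddMonoidHom (comp ρ hJ β hβ n (U ⊓ V)).toAddMonoidHom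
      (comp ρ hJ β hβ (n + 1) (U ⊔ V)).toAddMonoidHom (compPair ρ hJ β hβ (n + 1) U V).toAddMonoidHom
      (comp ρ hJ β hβ (n + 1) (U ⊓ V)).toAddMonoidHom
      (AddMonoidHom.ext fun t => LinearMap.congr_fun (comp_diff ρ hJ β hβ n U V) t)
      (AddMonoidHom.ext fun t => LinearMap.congr_fun (comp_mvδ ρ hJ β hβ n U V) t)
      (AddMonoidHom.ext fun t => LinearMap.congr_fun (comp_diag ρ hJ β hβ (n + 1) U V) t)
      (AddMonoidHom.ext fun t => LinearMap.congr_fun (comp_diff ρ hJ β hβ (n + 1) U V) t)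
      (Module.Flat.lTensor_exact P (exact_diff_mvδ ρ R n U V))
      (Module.Flat.lTensor_exact P (exact_mvδ_diag ρ R n U V))
      (Module.Flat.lTensor_exact P (exact_diag_diff ρ R (n + 1) U V))
      (exact_diff_mvδ ρ R' n U V) (exact_mvδ_diag ρ R' n U V) (exact_diag_diff ρ R' (n + 1) U V)
      (compPair_bijective ρ hJ β hβ (hU n) (hV n)).2 (hUV n)
      (compPair_bijective ρ hJ β hβ (hU (n + 1)) (hV (n + 1))) (hUV (n + 1)).1

omit [Module.Flat A P] in
theorem comp_bijective_of_isAffineOpen [(R.Z 0).IsQuasicoherent] [(R'.Z 0).IsQuasicoherent]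
    {W : X.Opens} (hW : IsAffineOpen W)
    (h0 : Function.Bijective (TensorProduct.lift (ev ρ β hβ W))) :
    ∀ n, Function.Bijective (comp ρ hJ β hβ n W)
  | 0 => by
    let q := (exSub ρ R 0 W).mkQ
    let q' := (exSub ρ R' 0 W).mkQ
    have hq : Function.Bijective q := ⟨by
      rw [injective_iff_map_eq_zero]
      exact fun z hz => (cl_eq_zero_iff ρ R 0 W z).1 hz, (exSub ρ R 0 W).mkQ_surjective⟩
    have hq' : Function.Bijective q' := ⟨by
      rw [injective_iff_map_eq_zero]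
      exact fun z hz => (cl_eq_zero_iff ρ R' 0 W z).1 hz, (exSub ρ R' 0 W).mkQ_surjective⟩
    have e : (comp ρ hJ β hβ 0 W).comp (q.lTensor P) = q'.comp (TensorProduct.lift (ev ρ β hβ W)) :=
      TensorProduct.ext' fun b z => rfl
    have hc : Function.Bijective ((comp ρ hJ β hβ 0 W).comp (q.lTensor P)) := e ▸ hq'.comp h0
    have hl : Function.Bijective (q.lTensor P) :=
      ((LinearEquiv.ofBijective q hq).lTensor P).bijective
    exact (Function.Bijective.of_comp_iff _ hl).1 hc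
  | n + 1 => by
    have h : ∀ (T : FRes X) [(T.Z 0).IsQuasicoherent], Subsingleton (H ρ T (n + 1) W) := fun T _ =>
      subsingleton_of_forall_eq 0 fun x => by
        obtain ⟨z, rfl⟩ := cl_surjective ρ T (n + 1) W x
        exact (cl_eq_zero_iff ρ T (n + 1) W z).2 (CohAff.FRes.van_succ_of_isAffineOpen hW n z)
    have := h R
    have := h R'
    refine ⟨fun a b _ => ?_, fun y => ⟨0, Subsingleton.elim _ _⟩⟩
    have : Subsingleton (P ⊗[A] H ρ R (n + 1) W) := inferInstance
    exact Subsingleton.elim a b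

/-- The base change theorem on cohomology classes. -/
theorem comp_bijective [CompactSpace X] [QuasiSeparatedSpace X] [(R.Z 0).IsQuasicoherent]
    [(R'.Z 0).IsQuasicoherent]
    (h0 : ∀ W : X.Opens, IsAffineOpen W → Function.Bijective (TensorProduct.lift (ev ρ β hβ W)))
    (W : X.Opens) (hW : IsCompact (W : Set X)) (n : ℕ) : Function.Bijective (comp ρ hJ β hβ n W) := by
  refine CohAff.compact_le_induction (X₀ := ⊤) (by simpa using isQuasiSeparated_univ_iff.2 ‹QuasiSeparatedSpace X›)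
    (fun W _ => ∀ n, Function.Bijective (comp ρ hJ β hβ n W)) ?_ ?_ W le_top hW n
  · exact fun W _ hW => comp_bijective_of_isAffineOpen ρ hJ β hβ hW (h0 W hW)
  · exact fun U V _ _ _ hU hV hUV => comp_bijective_sup ρ hJ β hβ hU hV hUV

end Classes

end

end Groth.Agent.CohBase.FlatBC
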