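import Groth.Agent.CohBase.FlatBC.Affine

/-!
# Base change for a given comparison of resolutions
-/

universe u

open CategoryTheory CategoryTheory.Limits AlgebraicGeometry TopologicalSpace Opposite
open scoped TensorProduct

namespace Groth.Agent.CohBase.FlatBC

open Groth.Agent.CohAff (FRes)

local notation "rs" => Groth.Agent.QCoh.res
local notation "rr" => Groth.Agent.QCoh.rres

noncomputable section

variable {X X' : Scheme.{u}} (p : X' ⟶ X) [IsAffineHom p] {A B : Type u} [CommRing A] [CommRing B]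
  [Algebra A B] (ρ : A →+* Γ(X, ⊤)) (ρ' : B →+* Γ(X', ⊤))
  {R : FRes X} {R' : FRes X'} [(R'.Z 0).IsQuasicoherent] (φ : Lift R (R'.pushAff p))

/-- multiplication on a pushed resolution -/
def upSmul (r : Γ(X', ⊤)) : Lift (R'.pushAff p) (R'.pushAff p) where
  φ n := (Scheme.Modules.pushforward p).map (smulEnd (R'.Z n) r)
  ψ n := (Scheme.Modules.pushforward p).map (smulEnd (R'.J n) r)
  ι_comm n := ((Scheme.Modules.pushforward p).map_comp _ _).symm.trans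
    ((congrArg (Scheme.Modules.pushforward p).map (smulEnd_comp (R'.ι n) r).symm).trans
      ((Scheme.Modules.pushforward p).map_comp _ _))
  p_comm n := ((Scheme.Modules.pushforward p).map_comp _ _).symm.trans
    ((congrArg (Scheme.Modules.pushforward p).map (smulEnd_comp (R'.p n) r).symm).trans
      ((Scheme.Modules.pushforward p).map_comp _ _))

/-- classes of a pushed resolution upstairs -/
def upH (n : ℕ) : H ρ (R'.pushAff p) n ⊤ →+ H ρ' R' n ⊤ :=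
  QuotientAddGroup.map (exSub ρ (R'.pushAff p) n ⊤).toAddSubgroup
    (exSub ρ' R' n ⊤).toAddSubgroup (toSc ρ' (R'.Z n) ⊤)
    fun z hz => (R'.ex_pushAff_iff p n ⊤ z).1 hz

lemma upH_cl (n : ℕ) (z : Γ((R'.pushAff p).Z n, ⊤)) :
    upH p ρ ρ' n (cl ρ (R'.pushAff p) n ⊤ z) = cl ρ' R' n ⊤ z := rfl

lemma upH_bijective (n : ℕ) : Function.Bijective (upH (R' := R') p ρ ρ' n) := by
  constructor
  · rw [injective_iff_map_eq_zero]
    intro x hx
    obtain ⟨z, rfl⟩ := cl_surjective ρ (R'.pushAff p) n ⊤ x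
    rw [upH_cl, cl_eq_zero_iff] at hx
    exact (cl_eq_zero_iff ρ _ n ⊤ z).2 ((R'.ex_pushAff_iff p n ⊤ z).2 hx)
  · intro y
    obtain ⟨z, rfl⟩ := cl_surjective ρ' R' n ⊤ y
    exact ⟨cl ρ (R'.pushAff p) n ⊤ z, rfl⟩

lemma upH_upSmul (n : ℕ) (b : B) (x : H ρ (R'.pushAff p) n ⊤) :
    upH p ρ ρ' n (liftH ρ (upSmul p (ρ' b)) n ⊤ x) = b • upH p ρ ρ' n x := by
  obtain ⟨z, rfl⟩ := cl_surjective ρ (R'.pushAff p) n ⊤ x
  rw [liftH_cl, upH_cl, upH_cl, ← cl_smul]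
  rfl

variable {p ρ ρ'} (hρ : ∀ a, ρ' (algebraMap A B a) = p.appTop (ρ a))

include hρ in
lemma upH_smul (n : ℕ) (a : A) (x : H ρ (R'.pushAff p) n ⊤) :
    upH p ρ ρ' n (a • x) = algebraMap A B a • upH p ρ ρ' n x := by
  obtain ⟨z, rfl⟩ := cl_surjective ρ (R'.pushAff p) n ⊤ x
  rw [← cl_smul, upH_cl, upH_cl, ← cl_smul, hρ]
  have key : ∀ w : Γ(R'.Z n, (⊤ : X'.Opens)), (show Γ(X', ⊤) from p.app ⊤ (rr (le_top : (⊤ : X.Opens) ≤ ⊤) (ρ a))) • w =
      rr (le_top : (⊤ : X'.Opens) ≤ ⊤) (p.appTop (ρ a)) • w := fun w => by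
    congr 1
    exact congr($(p.naturality (homOfLE (le_top : (⊤ : X.Opens) ≤ ⊤)).op) (ρ a))
  exact congrArg _ (key z)

/-- `b ⊗ x ↦ b • φ x` -/
def baseMap (n : ℕ) : B ⊗[A] H ρ R n ⊤ →+ H ρ' R' n ⊤ :=
  TensorProduct.liftAddHom
    (AddMonoidHom.mk' (fun b => AddMonoidHom.mk' (fun x => b • upH p ρ ρ' n (liftH ρ φ n ⊤ x))
        fun x y => by simp only [map_add, smul_add])
      fun b b' => AddMonoidHom.ext fun x => add_smul b b' (upH p ρ ρ' n (liftH ρ φ n ⊤ x)))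
    fun a b x => by
      change (a • b) • upH p ρ ρ' n (liftH ρ φ n ⊤ x) = b • upH p ρ ρ' n (liftH ρ φ n ⊤ (a • x))
      rw [map_smul, upH_smul hρ, smul_smul, mul_comm, Algebra.smul_def]

lemma baseMap_tmul (n : ℕ) (b : B) (x : H ρ R n ⊤) :
    baseMap φ hρ n (b ⊗ₜ x) = b • upH p ρ ρ' n (liftH ρ φ n ⊤ x) := rfl

variable (p ρ') in
/-- the family of morphisms in degree zero -/
def baseBeta : B →+ (R.Z 0 ⟶ (Scheme.Modules.pushforward p).obj (R'.Z 0)) :=
  AddMonoidHom.mk' (fun b => φ.φ 0 ≫ (Scheme.Modules.pushforward p).map (smulEnd (R'.Z 0) (ρ' b)))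
    fun b b' => by
      rw [map_add]
      refine Scheme.Modules.hom_ext _ _ fun W => ?_
      ext z
      have key : ∀ w : Γ(R'.Z 0, p ⁻¹ᵁ W), rr (le_top : p ⁻¹ᵁ W ≤ ⊤) (ρ' b + ρ' b') • w =
          rr (le_top : p ⁻¹ᵁ W ≤ ⊤) (ρ' b) • w + rr (le_top : p ⁻¹ᵁ W ≤ ⊤) (ρ' b') • w := fun w => by
        rw [map_add, add_smul]
      exact key _

include hρ in
lemma baseBeta_isLinear : IsLinear ρ (baseBeta p ρ' φ) := fun a b => by
  refine Scheme.Modules.hom_ext _ _ fun W => ?_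
  ext z
  have key : ∀ w : Γ(R.Z 0, W),
      rr (le_top : p ⁻¹ᵁ W ≤ ⊤) (ρ' (a • b)) • (show Γ(R'.Z 0, p ⁻¹ᵁ W) from (φ.φ 0).app W w) =
      rr (le_top : p ⁻¹ᵁ W ≤ ⊤) (ρ' b) •
        (show Γ(R'.Z 0, p ⁻¹ᵁ W) from (φ.φ 0).app W (rr (le_top : W ≤ ⊤) (ρ a) • w)) := fun w => by
    rw [Scheme.Modules.Hom.app_smul]
    change _ = rr (le_top : p ⁻¹ᵁ W ≤ ⊤) (ρ' b) •
      (p.app W (rr (le_top : W ≤ ⊤) (ρ a)) • (show Γ(R'.Z 0, p ⁻¹ᵁ W) from (φ.φ 0).app W w))
    rw [smul_smul, Algebra.smul_def, map_mul, hρ, map_mul, mul_comm]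
    congr 2
    exact (congr($(p.naturality (homOfLE (le_top : W ≤ ⊤)).op) (ρ a))).symm
  exact key z

theorem baseMap_bijective [CompactSpace X] [QuasiSeparatedSpace X] [(R.Z 0).IsQuasicoherent]
    [Module.Flat A B]
    (h0 : ∀ W : X.Opens, IsAffineOpen W →
      Function.Bijective (TensorProduct.lift (ev ρ (baseBeta p ρ' φ) (baseBeta_isLinear φ hρ) W)))
    (n : ℕ) : Function.Bijective (baseMap φ hρ n) := by
  let N := (Scheme.Modules.pushforward p).obj (R'.Z 0)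
  let S := FRes.ofMod N
  have hJ : ∀ k, Injective (S.J k) := injective_ofMod_J _
  have : (S.Z 0).IsQuasicoherent := QCoh.isQuasicoherent_pushforward p (R'.Z 0)
  let β : B →+ (R.Z 0 ⟶ S.Z 0) := baseBeta p ρ' φ
  have hlin : IsLinear ρ β := baseBeta_isLinear φ hρ
  have hcomp : Function.Bijective (comp ρ hJ β hlin n ⊤) :=
    comp_bijective ρ hJ β hlin h0 ⊤ isCompact_univ n
  let a : Lift (R'.pushAff p) S := Lift.mk' (R := R'.pushAff p) (R' := S) (𝟙 N) hJ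
  have : IsIso (a.φ 0) := inferInstanceAs (IsIso (𝟙 N))
  let ea := LinearEquiv.ofBijective _ (liftH_bijective ρ a n ⊤)
  have e : ∀ t, baseMap φ hρ n t = upH p ρ ρ' n (ea.symm (comp ρ hJ β hlin n ⊤ t)) := by
    intro t
    induction t using TensorProduct.induction_on with
    | zero => simp
    | add t t' h h' => simp only [map_add, h, h']
    | tmul b x =>
      rw [baseMap_tmul, ← upH_upSmul]
      congr 1
      rw [LinearEquiv.eq_symm_apply]
      change liftH ρ a n ⊤ (liftH ρ (upSmul p (ρ' b)) n ⊤ (liftH ρ φ n ⊤ x)) =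
        liftH ρ (Lift.mk' (β b) hJ) n ⊤ x
      rw [← liftH_trans, ← liftH_trans]
      exact LinearMap.congr_fun (liftH_congr ρ hJ _ _
        ((Category.assoc _ _ _).symm.trans (Category.comp_id _)) n ⊤) x
  rw [show ⇑(baseMap φ hρ n) = (upH p ρ ρ' n) ∘ ea.symm ∘ comp ρ hJ β hlin n ⊤ from funext e]
  exact (upH_bijective p ρ ρ' n).comp (ea.symm.bijective.comp hcomp)

end

end Groth.Agent.CohBase.FlatBC
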