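import Groth.Prelude.Def_CohBC2
import Groth.Agent.CohBase.FlatBC.LiftBij
import Groth.Agent.LimTop.PullSec

/-!
# Comparison of resolutions across a morphism

For `p : X' ⟶ X` with exact inverse image, a morphism `R.Z 0 ⟶ p_* R'.Z 0` lifts to the resolutions; it
induces maps on models of higher direct images and restricts to open subschemes.
-/

universe u

open CategoryTheory CategoryTheory.Limits AlgebraicGeometry TopologicalSpace Opposite

namespace Groth.Agent.CohBase.FlatBC

open Groth.Agent.CohAff (FRes)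

local notation "rs" => Groth.Agent.QCoh.res
local notation "rr" => Groth.Agent.QCoh.rres

noncomputable section

variable {X X' : Scheme.{u}} (p : X' ⟶ X)

/-- morphisms of resolutions over `p` -/
structure CrossLift (R : FRes X) (R' : FRes X') where
  /-- on cocycles -/
  φ : ∀ n, R.Z n ⟶ (Scheme.Modules.pushforward p).obj (R'.Z n)
  /-- on terms -/
  ψ : ∀ n, R.J n ⟶ (Scheme.Modules.pushforward p).obj (R'.J n)
  ι_comm : ∀ n, R.ι n ≫ ψ n = φ n ≫ (Scheme.Modules.pushforward p).map (R'.ι n)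
  p_comm : ∀ n, R.p n ≫ φ (n + 1) = ψ n ≫ (Scheme.Modules.pushforward p).map (R'.p n)

variable {p} {R : FRes X} {R' : FRes X'}

lemma exists_cross_succ (n : ℕ) (f : R.Z n ⟶ (Scheme.Modules.pushforward p).obj (R'.Z n))
    (hJ : Injective ((Scheme.Modules.pushforward p).obj (R'.J n))) :
    ∃ (g : R.J n ⟶ (Scheme.Modules.pushforward p).obj (R'.J n))
      (f' : R.Z (n + 1) ⟶ (Scheme.Modules.pushforward p).obj (R'.Z (n + 1))),
      R.ι n ≫ g = f ≫ (Scheme.Modules.pushforward p).map (R'.ι n) ∧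
        R.p n ≫ f' = g ≫ (Scheme.Modules.pushforward p).map (R'.p n) := by
  have hm : Mono (R.ι n) := (R.exact n).mono_f
  have he : Epi (R.p n) := (R.exact n).epi_g
  let g := Injective.factorThru (f ≫ (Scheme.Modules.pushforward p).map (R'.ι n)) (R.ι n)
  have hg : R.ι n ≫ g = f ≫ (Scheme.Modules.pushforward p).map (R'.ι n) := Injective.comp_factorThru _ _
  have hz : R.ι n ≫ g ≫ (Scheme.Modules.pushforward p).map (R'.p n) = 0 := by
    rw [← Category.assoc, hg, Category.assoc, ← Functor.map_comp, R'.w, Functor.map_zero, comp_zero]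
  let c := CokernelCofork.IsColimit.desc' (R.exact n).gIsCokernel (g ≫ (Scheme.Modules.pushforward p).map (R'.p n)) hz
  exact ⟨g, c.1, hg, c.2⟩

/-- the lifted cocycle maps -/
def crossφ (f : R.Z 0 ⟶ (Scheme.Modules.pushforward p).obj (R'.Z 0))
    (hJ : ∀ n, Injective ((Scheme.Modules.pushforward p).obj (R'.J n))) :
    ∀ n, R.Z n ⟶ (Scheme.Modules.pushforward p).obj (R'.Z n)
  | 0 => f
  | n + 1 => (exists_cross_succ n (crossφ f hJ n) (hJ n)).choose_spec.choose

/-- the lift of a morphism over `p` -/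
def CrossLift.mk' (f : R.Z 0 ⟶ (Scheme.Modules.pushforward p).obj (R'.Z 0))
    (hJ : ∀ n, Injective ((Scheme.Modules.pushforward p).obj (R'.J n))) : CrossLift p R R' where
  φ := crossφ f hJ
  ψ n := (exists_cross_succ n (crossφ f hJ n) (hJ n)).choose
  ι_comm n := (exists_cross_succ n (crossφ f hJ n) (hJ n)).choose_spec.choose_spec.1
  p_comm n := (exists_cross_succ n (crossφ f hJ n) (hJ n)).choose_spec.choose_spec.2

lemma CrossLift.mk'_φ_zero (f : R.Z 0 ⟶ (Scheme.Modules.pushforward p).obj (R'.Z 0))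
    (hJ : ∀ n, Injective ((Scheme.Modules.pushforward p).obj (R'.J n))) :
    (CrossLift.mk' f hJ).φ 0 = f := rfl

variable (p) in
lemma injective_push_ofMod_J [PreservesFiniteLimits (Scheme.Modules.pullback p)] (N : X'.Modules) (n : ℕ) :
    Injective ((Scheme.Modules.pushforward p).obj ((FRes.ofMod N).J n)) :=
  Adjunction.map_injective (Scheme.Modules.pullbackPushforwardAdjunction p) _ (injective_ofMod_J N n)

section Restrict

variable (p) (U : X.Opens) (U' : X'.Opens) (h : U' ≤ p ⁻¹ᵁ U)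

/-- `(p_* N)|_U ⟶ p₀_* (N|_{U'})` -/
def pushRestrict : Scheme.Modules.pushforward p ⋙ Scheme.Modules.restrictFunctor U.ι ⟶
    Scheme.Modules.restrictFunctor U'.ι ⋙ Scheme.Modules.pushforward (p.resLE U U' h) :=
  Functor.whiskerRight
      (Functor.whiskerRight (Scheme.Modules.restrictAdjunction U'.ι).unit (Scheme.Modules.pushforward p) ≫
        Functor.whiskerLeft (Scheme.Modules.restrictFunctor U'.ι)
          (Scheme.Modules.pushforwardComp U'.ι p ≪≫
            Scheme.Modules.pushforwardCongr (Scheme.Hom.resLE_comp_ι p h).symm ≪≫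
            (Scheme.Modules.pushforwardComp (p.resLE U U' h) U.ι).symm).hom)
      (Scheme.Modules.restrictFunctor U.ι) ≫
    Functor.whiskerLeft (Scheme.Modules.restrictFunctor U'.ι ⋙ Scheme.Modules.pushforward (p.resLE U U' h))
      (Scheme.Modules.restrictAdjunction U.ι).counit

lemma image_le (W : (U : Scheme.{u}).Opens) :
    U'.ι ''ᵁ ((p.resLE U U' h) ⁻¹ᵁ W) ≤ p ⁻¹ᵁ (U.ι ''ᵁ W) := by
  rw [Scheme.Hom.resLE_preimage, Scheme.Hom.image_preimage_eq_opensRange_inf]
  exact inf_le_right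

lemma restrict_map_app {Y Z : Scheme.{u}} (j : Y ⟶ Z) [IsOpenImmersion j] {M N : Z.Modules} (a : M ⟶ N)
    (W : Y.Opens) : ((Scheme.Modules.restrictFunctor j).map a).app W = a.app (j ''ᵁ W) := rfl

lemma pushRestrict_app (N : X'.Modules) (W : (U : Scheme.{u}).Opens) (s : Γ(N, p ⁻¹ᵁ (U.ι ''ᵁ W))) :
    ((pushRestrict p U U' h).app N).app W s = rs N (image_le p U U' h W) s := by
  simp [pushRestrict, restrict_map_app]
  have i₁ : (U'.ι ''ᵁ (p.resLE U U' h ⁻¹ᵁ U.ι ⁻¹ᵁ (U.ι ''ᵁ W))) ≤ U'.ι ''ᵁ (U'.ι ⁻¹ᵁ p ⁻¹ᵁ (U.ι ''ᵁ W)) := by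
    rw [← Scheme.Hom.comp_preimage, Scheme.Hom.resLE_comp_ι, Scheme.Hom.comp_preimage]
  have i₂ : (U'.ι ''ᵁ (p.resLE U U' h ⁻¹ᵁ W)) ≤ U'.ι ''ᵁ (p.resLE U U' h ⁻¹ᵁ U.ι ⁻¹ᵁ (U.ι ''ᵁ W)) := by
    rw [Scheme.Hom.preimage_image_eq]
  change rs N i₂ (rs N i₁ (rs N (U'.ι.image_preimage_le _) s)) = _
  rw [QCoh.res_res, QCoh.res_res]

variable {p U U' h} [IsAffineHom (p.resLE U U' h)] [(R'.Z 0).IsQuasicoherent]

variable (p U U' h) in
/-- restriction of a cross lift, as a lift of resolutions on `U` -/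
def CrossLift.restrict (L : CrossLift p R R') :
    Lift (R.restrict U.ι) ((R'.restrict U'.ι).pushAff (p.resLE U U' h)) where
  φ n := (Scheme.Modules.restrictFunctor U.ι).map (L.φ n) ≫ (pushRestrict p U U' h).app (R'.Z n)
  ψ n := (Scheme.Modules.restrictFunctor U.ι).map (L.ψ n) ≫ (pushRestrict p U U' h).app (R'.J n)
  ι_comm n :=
    ((Category.assoc _ _ _).symm.trans ((congrArg (· ≫ (pushRestrict p U U' h).app (R'.J n))
      (((Scheme.Modules.restrictFunctor U.ι).map_comp _ _).symm.trans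
        ((congrArg (Scheme.Modules.restrictFunctor U.ι).map (L.ι_comm n)).trans
          ((Scheme.Modules.restrictFunctor U.ι).map_comp _ _)))).trans ((Category.assoc _ _ _).trans
      ((congrArg (_ ≫ ·) ((pushRestrict p U U' h).naturality (R'.ι n))).trans (Category.assoc _ _ _).symm))) :)
  p_comm n :=
    ((Category.assoc _ _ _).symm.trans ((congrArg (· ≫ (pushRestrict p U U' h).app (R'.Z (n + 1)))
      (((Scheme.Modules.restrictFunctor U.ι).map_comp _ _).symm.trans
        ((congrArg (Scheme.Modules.restrictFunctor U.ι).map (L.p_comm n)).trans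
          ((Scheme.Modules.restrictFunctor U.ι).map_comp _ _)))).trans ((Category.assoc _ _ _).trans
      ((congrArg (_ ≫ ·) ((pushRestrict p U U' h).naturality (R'.p n))).trans (Category.assoc _ _ _).symm))) :)

end Restrict

section Model

variable {S S' : Scheme.{u}} (f : X ⟶ S) (g : S' ⟶ S) (q : X' ⟶ S') (w : p ≫ f = q ≫ g)

/-- `f_* p_* ≅ g_* q_*` -/
def pushSquare : Scheme.Modules.pushforward p ⋙ Scheme.Modules.pushforward f ≅
    Scheme.Modules.pushforward q ⋙ Scheme.Modules.pushforward g :=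
  Scheme.Modules.pushforwardComp p f ≪≫ Scheme.Modules.pushforwardCongr w ≪≫
    (Scheme.Modules.pushforwardComp q g).symm

/-- the map on models of higher direct images, in adjoint form -/
def CrossLift.rcAdj (L : CrossLift p R R') (n : ℕ) :
    R.Rc f n ⟶ (Scheme.Modules.pushforward g).obj (R'.Rc q n) :=
  cokernel.desc (R.pP f n)
    ((Scheme.Modules.pushforward f).map (L.φ (n + 1)) ≫ (pushSquare f g q w).hom.app (R'.Z (n + 1)) ≫
      (Scheme.Modules.pushforward g).map (cokernel.π (R'.pP q n))) (by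
    have h0 : (Scheme.Modules.pushforward g).map (R'.pP q n) ≫
        (Scheme.Modules.pushforward g).map (cokernel.π (R'.pP q n)) = 0 := by
      rw [← Functor.map_comp, cokernel.condition, Functor.map_zero]
    rw [← Category.assoc, ← Functor.map_comp, L.p_comm, Functor.map_comp, Category.assoc]
    erw [reassoc_of% ((pushSquare f g q w).hom.naturality (R'.p n))]
    refine (congrArg (fun t => _ ≫ _ ≫ t) h0).trans ?_
    rw [comp_zero, comp_zero])

lemma CrossLift.rcAdj_π' (L : CrossLift p R R') (n : ℕ) (V : S.Opens) (z : Γ(R.Z (n + 1), f ⁻¹ᵁ V))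
    (h : q ⁻¹ᵁ (g ⁻¹ᵁ V) ≤ p ⁻¹ᵁ (f ⁻¹ᵁ V)) :
    (L.rcAdj f g q w n).app V (R.π' f n V z) =
      R'.π' q n (g ⁻¹ᵁ V) (rs (R'.Z (n + 1)) h ((L.φ (n + 1)).app (f ⁻¹ᵁ V) z)) := by
  change ((cokernel.π (R.pP f n) ≫ L.rcAdj f g q w n).app V) z = _
  rw [CrossLift.rcAdj, cokernel.π_desc]
  simp [pushSquare]
  rfl

variable (L : CrossLift p R R') (n : ℕ)

/-- the map on models of higher direct images -/
def CrossLift.rc : (Scheme.Modules.pullback g).obj (R.Rc f n) ⟶ R'.Rc q n :=
  ((Scheme.Modules.pullbackPushforwardAdjunction g).homEquiv _ _).symm (L.rcAdj f g q w n)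

lemma CrossLift.rc_unitSec {US : S.Opens} {UT : S'.Opens} (hT : UT ≤ g ⁻¹ᵁ US) (m : Γ(R.Rc f n, US)) :
    (L.rc f g q w n).app UT (LimTop.unitSec g (R.Rc f n) hT m) =
      rs (R'.Rc q n) hT ((L.rcAdj f g q w n).app US m) := by
  have hadj : (Scheme.Modules.pullbackPushforwardAdjunction g).unit.app _ ≫
      (Scheme.Modules.pushforward g).map (L.rc f g q w n) = L.rcAdj f g q w n := by
    refine (Adjunction.homEquiv_unit _ _ _ _).symm.trans ?_
    exact Equiv.apply_symm_apply _ _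
  rw [← hadj, LimTop.unitSec_apply, QCoh.app_res]
  rfl

end Model

end

end Groth.Agent.CohBase.FlatBC
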