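import Groth.Agent.CohDerLib.QC.FreeMV
import Groth.Agent.CohDerLib.QC.QFlasque
import Groth.Agent.LFDesc.BaseChange

/-!
# Generators of free modules on opens under inverse image
-/

set_option autoImplicit false

universe u

open CategoryTheory CategoryTheory.Limits AlgebraicGeometry TopologicalSpace Opposite
open Groth.Agent.KFlat.QCohAcy (free)
open Groth.Agent.CohDerLib.QC (sec freeMap)

namespace Groth.Agent.CohBase.FlatBC.D

noncomputable section

local notation "rs" => Groth.Agent.QCoh.res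
local notation "rr" => Groth.Agent.QCoh.rres

variable {X Y : Scheme.{u}}

/-- the generator of `free W` -/
def gen (W : X.Opens) : Γ(free W, W) := sec W (free W) (𝟙 _)

lemma sec_eq {W : X.Opens} {M : X.Modules} (φ : free W ⟶ M) : sec W M φ = φ.app W (gen W) :=
  (congrArg (sec W M) (Category.id_comp φ).symm).trans (CohDerLib.QC.sec_comp W (𝟙 _) φ)

lemma hom_ext_gen {W : X.Opens} {M : X.Modules} {φ ψ : free W ⟶ M}
    (h : φ.app W (gen W) = ψ.app W (gen W)) : φ = ψ :=
  (sec W M).injective (by rw [sec_eq, sec_eq, h])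

/-- a map out of `free W` by its value at the generator -/
def mk {W : X.Opens} {M : X.Modules} (m : Γ(M, W)) : free W ⟶ M := (sec W M).symm m

@[simp]
lemma mk_gen {W : X.Opens} {M : X.Modules} (m : Γ(M, W)) : (mk m).app W (gen W) = m := by
  rw [← sec_eq, mk, Equiv.apply_symm_apply]

lemma freeMap_gen {U W : X.Opens} (h : W ≤ U) :
    (freeMap h).app W (gen W) = rs (free U) h (gen U) := by
  rw [← sec_eq]
  exact Equiv.apply_symm_apply _ _

/-- multiplication on `free W` -/
def smulFree {W : X.Opens} (r : Γ(X, W)) : free W ⟶ free W := mk (r • gen W)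

lemma smulFree_comp_gen {W : X.Opens} (r : Γ(X, W)) {M : X.Modules} (φ : free W ⟶ M) :
    (smulFree r ≫ φ).app W (gen W) = r • φ.app W (gen W) := by
  refine (congrArg (φ.app W) (mk_gen (r • gen W))).trans ?_
  exact Scheme.Modules.Hom.app_smul φ r _

/-- `Γ(X, W)` acts on `free W` -/
def smulHom (W : X.Opens) : Γ(X, W) →+* (End (free W))ᵐᵒᵖ where
  toFun r := MulOpposite.op (smulFree r)
  map_one' := congrArg MulOpposite.op (hom_ext_gen (by simp [smulFree]))
  map_mul' r r' := by
    refine congrArg MulOpposite.op (hom_ext_gen ?_)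
    change _ = ((smulFree r ≫ smulFree r' : free W ⟶ free W)).app W (gen W)
    rw [smulFree_comp_gen]
    simp only [smulFree, mk_gen, mul_smul]
  map_zero' := congrArg MulOpposite.op (hom_ext_gen (by simp [smulFree]))
  map_add' r r' := by
    refine congrArg MulOpposite.op (hom_ext_gen ?_)
    change _ = ((smulFree r + smulFree r' : free W ⟶ free W)).app W (gen W)
    rw [Scheme.Modules.Hom.add_app, AddCommGrpCat.hom_add_apply]
    simp only [smulFree, mk_gen, add_smul]

lemma smulFree_freeMap {U W : X.Opens} (h : W ≤ U) (r : Γ(X, U)) :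
    smulFree (rr h r) ≫ freeMap h = freeMap h ≫ smulFree r := by
  refine hom_ext_gen ?_
  rw [smulFree_comp_gen, freeMap_gen]
  refine Eq.trans ?_ (congrArg ((smulFree r).app W) (freeMap_gen h)).symm
  rw [QCoh.app_res, smulFree, mk_gen, QCoh.res_smul]

variable (p : Y ⟶ X)

/-- `free W' ⟶ p^* free W`, generator to `c` times generator -/
def gB {W : X.Opens} {W' : Y.Opens} (h : W' ≤ p ⁻¹ᵁ W) (c : Γ(Y, W')) :
    free W' ⟶ (Scheme.Modules.pullback p).obj (free W) :=
  mk (c • LimTop.unitSec p (free W) h (gen W))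

lemma gB_comp_gen {W : X.Opens} {W' : Y.Opens} (h : W' ≤ p ⁻¹ᵁ W) (c : Γ(Y, W')) {M : X.Modules}
    (φ : free W ⟶ M) :
    (gB p h c ≫ (Scheme.Modules.pullback p).map φ).app W' (gen W') =
      c • LimTop.unitSec p M h (φ.app W (gen W)) := by
  refine (congrArg (((Scheme.Modules.pullback p).map φ).app W') (mk_gen _)).trans ?_
  exact (Scheme.Modules.Hom.app_smul _ c _).trans (congrArg (c • ·) (LimTop.unitSec_map p (free W) h φ _))

lemma gB_add {W : X.Opens} {W' : Y.Opens} (h : W' ≤ p ⁻¹ᵁ W) (c c' : Γ(Y, W')) :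
    gB p h (c + c') = gB p h c + gB p h c' := by
  refine hom_ext_gen ?_
  rw [Scheme.Modules.Hom.add_app, AddCommGrpCat.hom_add_apply]
  simp only [gB, mk_gen, add_smul]

lemma smulFree_gB {W : X.Opens} {W' : Y.Opens} (h : W' ≤ p ⁻¹ᵁ W) (c c' : Γ(Y, W')) :
    smulFree c ≫ gB p h c' = gB p h (c * c') := by
  refine hom_ext_gen ?_
  rw [smulFree_comp_gen]
  simp only [gB, mk_gen, mul_smul]

lemma gB_smulFree {W : X.Opens} {W' : Y.Opens} (h : W' ≤ p ⁻¹ᵁ W) (c : Γ(Y, W')) (r : Γ(X, W)) :
    gB p h c ≫ (Scheme.Modules.pullback p).map (smulFree r) = gB p h (p.appLE W W' h r * c) := by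
  refine hom_ext_gen ?_
  rw [gB_comp_gen]
  simp only [smulFree, gB, mk_gen, LimTop.unitSec_smul, smul_smul, mul_comm c]

lemma freeMap_gB {W U : X.Opens} {W' U' : Y.Opens} (hWU : W ≤ U) (hW : W' ≤ p ⁻¹ᵁ W) (hU : U' ≤ p ⁻¹ᵁ U)
    (h' : W' ≤ U') (c : Γ(Y, U')) :
    freeMap h' ≫ gB p hU c = gB p hW (rr h' c) ≫ (Scheme.Modules.pullback p).map (freeMap hWU) := by
  refine hom_ext_gen ?_
  rw [gB_comp_gen, freeMap_gen, LimTop.unitSec_res]
  refine (congrArg ((gB p hU c).app W') (freeMap_gen h')).trans ?_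
  rw [QCoh.app_res, gB, mk_gen, QCoh.res_smul, LimTop.res_unitSec]

end

end Groth.Agent.CohBase.FlatBC.D
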