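import Groth.Agent.CohBase.FlatBC.DSingle
import Groth.Agent.CohBase.FlatBC.DGen
import Groth.Agent.KFlat.LpullComp
import Groth.Agent.KFlat.RGamma
import Groth.Agent.KFlat.FlatPull

/-!
# Derived inverse images of single free modules
-/

set_option autoImplicit false
set_option backward.isDefEq.respectTransparency false
set_option backward.isDefEq.respectTransparency.types false

universe u

open CategoryTheory CategoryTheory.Limits AlgebraicGeometry DerivedCategory
open Groth.Agent.KFlat.QCohAcy (free)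
open Groth.Agent.KFlat.Pull

attribute [local instance] HasDerivedCategory.standard

namespace Groth.Agent.CohBase.FlatBC.D

noncomputable section

variable {X Y Z : Scheme.{u}}

/-- `M ↦ M[-n]` -/
abbrev singleFunctorQ {Z : Scheme.{u}} (n : ℤ) : Z.Modules ⥤ DCoh.D Z :=
  HomologicalComplex.single Z.Modules (ComplexShape.up ℤ) n ⋙ Q

@[reassoc]
lemma mapS_comp' {Z : Scheme.{u}} (n : ℤ) {M N P : Z.Modules} (φ : M ⟶ N) (ψ : N ⟶ P) :
    mapS n (φ ≫ ψ) = mapS n φ ≫ mapS n ψ := (singleFunctorQ n).map_comp φ ψ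

lemma eqToHom_app_naturality {C D : Type*} [Category C] [Category D] {F G : C ⥤ D} (α : F ⟶ G) {A B : C}
    (e : A = B) {T : D} (h₁ : G.obj A = T) (h₂ : F.obj A = F.obj B) (h₃ : G.obj B = T) :
    α.app A ≫ eqToHom h₁ = eqToHom h₂ ≫ α.app B ≫ eqToHom h₃ := by
  subst e; simp

/-- `h^*` on complexes, of a single module -/
abbrev pullSingle (h : X ⟶ Y) (n : ℤ) (M : Y.Modules) :
    (pullCx h).obj ((HomologicalComplex.single Y.Modules (ComplexShape.up ℤ) n).obj M) ≅
      (HomologicalComplex.single X.Modules (ComplexShape.up ℤ) n).obj ((Scheme.Modules.pullback h).obj M) :=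
  singleMap (Scheme.Modules.pullback h) n M

/-- `Lh^* (M[-n]) ⟶ (h^* M)[-n]` -/
def tau (h : X ⟶ Y) [DCoh.HasLpull h] (n : ℤ) (M : Y.Modules) :
    (DCoh.Lpull h).obj (S n M) ⟶ S n ((Scheme.Modules.pullback h).obj M) :=
  (toPull h).app _ ≫ Q.map (pullSingle h n M).hom

lemma tau_naturality (h : X ⟶ Y) [DCoh.HasLpull h] (n : ℤ) {M N : Y.Modules} (φ : M ⟶ N) :
    (DCoh.Lpull h).map (mapS n φ) ≫ tau h n N = tau h n M ≫ mapS n ((Scheme.Modules.pullback h).map φ) := by
  rw [tau, tau, Category.assoc]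
  erw [(toPull h).naturality_assoc]
  congr 1
  refine ((Q.map_comp _ _).symm.trans (congrArg Q.map ?_)).trans (Q.map_comp _ _)
  exact (HomologicalComplex.singleMapHomologicalComplex (Scheme.Modules.pullback h) (ComplexShape.up ℤ) n).hom.naturality φ

lemma isIso_tau_free (h : X ⟶ Y) [DCoh.HasLpull h] (n : ℤ) (W : Y.Opens) : IsIso (tau h n (free W)) := by
  have := isIso_toPull h (P := (HomologicalComplex.single Y.Modules (ComplexShape.up ℤ) n).obj (free W))
    (Groth.Agent.KFlat.isKFlat_single (O := Y.sheaf) (Groth.Agent.KFlat.tensorMono_freeU _) n)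
  rw [tau]
  infer_instance

lemma toPull_comp (h : X ⟶ Y) (k : Y ⟶ Z) [DCoh.HasLpull h] [DCoh.HasLpull k] [DCoh.HasLpull (h ≫ k)]
    (K : CochainComplex Z.Modules ℤ) :
    (lpullCompIso h k).hom.app (Q.obj K) ≫ (toPull (h ≫ k)).app K =
      (DCoh.Lpull h).map ((toPull k).app K) ≫ (toPull h).app ((pullCx k).obj K) ≫ Q.map ((pullCxComp h k).hom.app K) := by
  have hq : ∀ {U V : Scheme.{u}} (r : U ⟶ V) [DCoh.HasLpull r] (L : CochainComplex V.Modules ℤ),
      (lpullIso r).hom.app L ≫ Q.map ((pullCx r).map ((resYπ V).app L)) = (toPull r).app L := fun {U V} r _ L => by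
    have e : (lpullIso r).hom.app L =
        (DCoh.Lpull r).map ((resQIso (Y := V)).inv.app L) ≫ (toPull r).app ((resY V).obj L) := by
      simp [lpullIso]
    rw [e, Category.assoc]
    erw [← (toPull r).naturality ((resYπ V).app L)]
    change _ ≫ (DCoh.Lpull r).map (Q.map ((resYπ V).app L)) ≫ _ = _
    rw [← Functor.map_comp_assoc]
    have e2 : (resQIso (Y := V)).inv.app L ≫ Q.map ((resYπ V).app L) = 𝟙 _ := by
      have : (resQIso (Y := V)).hom.app L = Q.map ((resYπ V).app L) := by simp [resQIso]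
      rw [← this, Iso.inv_hom_id_app]
    rw [e2, CategoryTheory.Functor.map_id, Category.id_comp]
    rfl
  have hc : (lpullCompIso h k).hom.app (Q.obj K) = (DCoh.Lpull h).map ((lpullIso k).hom.app K) ≫
      (toPull h).app ((pullCx k).obj ((resY Z).obj K)) ≫ Q.map ((pullCxComp h k).hom.app ((resY Z).obj K)) ≫
        (lpullIso (h ≫ k)).inv.app K := by
    simp [lpullCompIso, lpullCompQIso]
  rw [hc, Category.assoc, Category.assoc, Category.assoc, ← hq k K, ← hq (h ≫ k) K]
  erw [Iso.inv_hom_id_app_assoc]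
  rw [Functor.map_comp, Category.assoc]
  congr 1
  erw [(toPull h).naturality_assoc ((pullCx k).map ((resYπ Z).app K))]
  congr 1
  refine (Q.map_comp _ _).symm.trans ((congrArg Q.map ?_).trans (Q.map_comp _ _))
  exact ((pullCxComp h k).hom.naturality ((resYπ Z).app K)).symm

lemma pullCxComp_single (h : X ⟶ Y) (k : Y ⟶ Z) (n : ℤ) (M : Z.Modules) :
    (pullCxComp h k).hom.app _ ≫ (pullSingle (h ≫ k) n M).hom =
      (pullCx h).map (pullSingle k n M).hom ≫ (pullSingle h n ((Scheme.Modules.pullback k).obj M)).hom ≫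
        (HomologicalComplex.single X.Modules (ComplexShape.up ℤ) n).map
          ((Scheme.Modules.pullbackComp h k).hom.app M) := by
  refine HomologicalComplex.hom_ext _ _ fun i => ?_
  by_cases hi : i = n
  · subst hi
    simp [pullCxComp, pullSingle, singleMap, HomologicalComplex.singleMapHomologicalComplex,
      HomologicalComplex.single_map_f_self, HomologicalComplex.singleObjXSelf, HomologicalComplex.singleObjXIsoOfEq,
      eqToHom_map]
    exact eqToHom_app_naturality (Scheme.Modules.pullbackComp h k).hom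
      (HomologicalComplex.single_obj_X_self (ComplexShape.up ℤ) i M) _ _ _
  · exact (HomologicalComplex.isZero_single_obj_X (ComplexShape.up ℤ) n _ i hi).eq_of_tgt _ _

lemma tau_comp (h : X ⟶ Y) (k : Y ⟶ Z) [DCoh.HasLpull h] [DCoh.HasLpull k] [DCoh.HasLpull (h ≫ k)]
    (n : ℤ) (M : Z.Modules) :
    (lpullCompIso h k).hom.app (S n M) ≫ tau (h ≫ k) n M =
      (DCoh.Lpull h).map (tau k n M) ≫ tau h n ((Scheme.Modules.pullback k).obj M) ≫
        mapS n ((Scheme.Modules.pullbackComp h k).hom.app M) := by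
  rw [tau, ← Category.assoc]
  erw [toPull_comp]
  rw [tau, tau, Functor.map_comp, Category.assoc, Category.assoc, Category.assoc]
  congr 1
  rw [Category.assoc]
  erw [(toPull h).naturality_assoc (pullSingle k n M).hom]
  congr 1
  refine ((Q.map_comp _ _).symm.trans (congrArg Q.map (pullCxComp_single h k n M))).trans ?_
  simp [mapS, pullQ, Q.map_comp]

/-- equal morphisms have the same derived inverse image -/
def lpullCongr {h h' : X ⟶ Y} (e : h = h') [DCoh.HasLpull h] [DCoh.HasLpull h'] : DCoh.Lpull h ≅ DCoh.Lpull h' :=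
  eqToIso (by subst e; rfl)

lemma tau_congr {h h' : X ⟶ Y} (e : h = h') [DCoh.HasLpull h] [DCoh.HasLpull h'] (n : ℤ) (M : Y.Modules) :
    (lpullCongr e).hom.app (S n M) ≫ tau h' n M = tau h n M ≫ mapS n ((Scheme.Modules.pullbackCongr e).hom.app M) := by
  subst e
  simp [lpullCongr, mapS, Scheme.Modules.pullbackCongr]

/-- derived inverse image along a composite named `r` -/
def lpullCompIso' (h : X ⟶ Y) (k : Y ⟶ Z) (r : X ⟶ Z) (e : h ≫ k = r) [DCoh.HasLpull h] [DCoh.HasLpull k]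
    [DCoh.HasLpull r] : DCoh.Lpull k ⋙ DCoh.Lpull h ≅ DCoh.Lpull r :=
  haveI := hasLpull (h ≫ k)
  lpullCompIso h k ≪≫ lpullCongr e

/-- inverse image along a composite named `r` -/
def pullbackComp' (h : X ⟶ Y) (k : Y ⟶ Z) (r : X ⟶ Z) (e : h ≫ k = r) :
    Scheme.Modules.pullback k ⋙ Scheme.Modules.pullback h ≅ Scheme.Modules.pullback r :=
  Scheme.Modules.pullbackComp h k ≪≫ Scheme.Modules.pullbackCongr e

lemma tau_comp' (h : X ⟶ Y) (k : Y ⟶ Z) (r : X ⟶ Z) (e : h ≫ k = r) [DCoh.HasLpull h] [DCoh.HasLpull k]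
    [DCoh.HasLpull r] (n : ℤ) (M : Z.Modules) :
    (lpullCompIso' h k r e).hom.app (S n M) ≫ tau r n M =
      (DCoh.Lpull h).map (tau k n M) ≫ tau h n ((Scheme.Modules.pullback k).obj M) ≫
        mapS n ((pullbackComp' h k r e).hom.app M) := by
  subst e
  simp only [lpullCompIso', pullbackComp', Scheme.Modules.pullbackCongr, lpullCongr, eqToIso_refl, Iso.trans_refl]
  exact tau_comp h k n M

variable {X' B₁ B₀ : Scheme.{u}} (f : X ⟶ B₀) (g : B₁ ⟶ B₀) (p : X' ⟶ X) (q : X' ⟶ B₁) 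
  [DCoh.HasLpull f] [DCoh.HasLpull g] [DCoh.HasLpull p] [DCoh.HasLpull q]

variable (r : X' ⟶ B₀) (e₁ : q ≫ g = r) (e₂ : p ≫ f = r) [DCoh.HasLpull r]

/-- `Lq^* Lg^* = Lp^* Lf^*` -/
def squareIso : DCoh.Lpull g ⋙ DCoh.Lpull q ≅ DCoh.Lpull f ⋙ DCoh.Lpull p :=
  lpullCompIso' q g r e₁ ≪≫ (lpullCompIso' p f r e₂).symm

/-- `q^* g^* = p^* f^*` -/
def moduleSquareIso : Scheme.Modules.pullback g ⋙ Scheme.Modules.pullback q ≅
    Scheme.Modules.pullback f ⋙ Scheme.Modules.pullback p :=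
  pullbackComp' q g r e₁ ≪≫ (pullbackComp' p f r e₂).symm

omit [DCoh.HasLpull f] [DCoh.HasLpull g] [DCoh.HasLpull p] [DCoh.HasLpull q] [DCoh.HasLpull r] in
lemma chase_square {C : Type*} [Category C] {X₁ X₃ X₄ T₃ T₄ U₀ U V₀ : C} {A : X₁ ⟶ X₃}
    (K : X₄ ≅ X₃) {t₃ : X₃ ⟶ T₃} {u₁ : X₁ ⟶ U₀} {u₂ : U₀ ⟶ U} {a : U ⟶ T₃}
    {v₁ : X₄ ⟶ V₀} {v₂ : V₀ ⟶ T₄} {c : T₄ ⟶ T₃} (ci : T₃ ⟶ T₄) (hci : c ≫ ci = 𝟙 _)
    (hA : A ≫ t₃ = u₁ ≫ u₂ ≫ a) (hK : K.hom ≫ t₃ = v₁ ≫ v₂ ≫ c) :
    (A ≫ K.inv) ≫ v₁ ≫ v₂ = u₁ ≫ u₂ ≫ a ≫ ci := by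
  have h : K.inv ≫ v₁ ≫ v₂ = t₃ ≫ ci := by
    rw [Iso.inv_comp_eq, reassoc_of% hK, hci, Category.comp_id]
  simp only [Category.assoc, h]
  rw [reassoc_of% hA]

lemma tau_square (n : ℤ) (M : B₀.Modules) :
    (squareIso f g p q r e₁ e₂).hom.app (S n M) ≫ (DCoh.Lpull p).map (tau f n M) ≫
        tau p n ((Scheme.Modules.pullback f).obj M) =
      (DCoh.Lpull q).map (tau g n M) ≫ tau q n ((Scheme.Modules.pullback g).obj M) ≫
        mapS n ((moduleSquareIso f g p q r e₁ e₂).hom.app M) := by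
  have h1 : (squareIso f g p q r e₁ e₂).hom.app (S n M) =
      (lpullCompIso' q g r e₁).hom.app (S n M) ≫ ((lpullCompIso' p f r e₂).app (S n M)).inv := rfl
  have h2 : (moduleSquareIso f g p q r e₁ e₂).hom.app M =
      (pullbackComp' q g r e₁).hom.app M ≫ ((pullbackComp' p f r e₂).app M).inv := rfl
  rw [h1, h2, mapS_comp']
  have hci : mapS n ((pullbackComp' p f r e₂).app M).hom ≫ mapS n ((pullbackComp' p f r e₂).app M).inv = 𝟙 _ := by
    rw [← mapS_comp', Iso.hom_inv_id]
    exact (singleFunctorQ n).map_id _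
  exact chase_square ((lpullCompIso' p f r e₂).app (S n M)) _ hci (tau_comp' q g r e₁ n M) (tau_comp' p f r e₂ n M)

variable [Flat p]

lemma isIso_toPull_flat (K : CochainComplex X.Modules ℤ) : IsIso ((toPull p).app K) := by
  have hq : QuasiIso ((resYπ X).app K) := quasiIso_resYπ K
  have h1 : IsIso ((toPull p).app ((resY X).obj K)) := isIso_toPull p (isKFlat_resY K)
  have h2 : IsIso ((DCoh.Lpull p).map (Q.map ((resYπ X).app K))) := inferInstance
  have h3 : IsIso ((pullQ p).map ((resYπ X).app K)) := by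
    change IsIso (Q.map (((Scheme.Modules.pullback p).mapHomologicalComplex (ComplexShape.up ℤ)).map ((resYπ X).app K)))
    infer_instance
  have e := (toPull p).naturality ((resYπ X).app K)
  have : IsIso ((Q ⋙ DCoh.Lpull p).map ((resYπ X).app K) ≫ (toPull p).app K) := by
    erw [e]
    exact IsIso.comp_isIso' h1 h3
  exact @IsIso.of_isIso_comp_left _ _ _ _ _ _ _ h2 this

/-- for flat `p`, `Lp^*` is `p^*` -/
def pullDIso : DCoh.Lpull p ≅ (Scheme.Modules.pullback p).mapDerivedCategory :=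
  haveI : IsIso (toPull p) := @NatIso.isIso_of_isIso_app _ _ _ _ _ _ _ (isIso_toPull_flat p)
  Localization.liftNatIso Q (HomologicalComplex.quasiIso X.Modules (ComplexShape.up ℤ))
    (Q ⋙ DCoh.Lpull p) (Q ⋙ (Scheme.Modules.pullback p).mapDerivedCategory) _ _
    (asIso (toPull p) ≪≫ (Scheme.Modules.pullback p).mapDerivedCategoryFactors.symm)

lemma pullDIso_hom_single (n : ℤ) (M : X.Modules) :
    (pullDIso p).hom.app (S n M) ≫ (mapSIso (Scheme.Modules.pullback p) n M).hom = tau p n M := by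
  have e : (pullDIso p).hom.app (S n M) = (toPull p).app _ ≫
      (Scheme.Modules.pullback p).mapDerivedCategoryFactors.inv.app ((HomologicalComplex.single X.Modules (ComplexShape.up ℤ) n).obj M) := by
    simp [pullDIso]
    erw [Localization.liftNatTrans_app]
    simp
    rfl
  rw [e, mapSIso, Iso.trans_hom, Category.assoc]
  erw [Iso.inv_hom_id_app_assoc]
  rfl

instance isIso_tau_flat (n : ℤ) (M : X.Modules) : IsIso (tau p n M) := by
  rw [← pullDIso_hom_single p n M]
  infer_instance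

end

end Groth.Agent.CohBase.FlatBC.D
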