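import Groth.Agent.CohBase.FlatBC.DMV
import Groth.Agent.CohBase.FlatBC.DTau
import Groth.Agent.CohBase.FlatBC.Global
import Groth.Agent.CohDerLib.QC.PushQCoh
import Groth.Agent.KFlat.DerivedAdj
import Groth.Prelude.Def_DCoh3

/-!
# Flat base change for derived direct images of objects with quasi-coherent cohomology
-/

set_option autoImplicit false
set_option backward.isDefEq.respectTransparency false
set_option backward.isDefEq.respectTransparency.types false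
set_option linter.style.haveILetI false

universe u

open CategoryTheory CategoryTheory.Limits AlgebraicGeometry TopologicalSpace DerivedCategory
open Groth.Agent.KFlat.QCohAcy (free)
open scoped TensorProduct

attribute [local instance] HasDerivedCategory.standard

namespace Groth.Agent.CohBase.FlatBC.D

noncomputable section

variable {X Y Z : Scheme.{u}}

lemma unitSec_comp' (h : X ⟶ Y) (k : Y ⟶ Z) (r : X ⟶ Z) (e : h ≫ k = r) (M : Z.Modules) {U : Z.Opens}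
    {W : Y.Opens} {V : X.Opens} (h₁ : W ≤ k ⁻¹ᵁ U) (h₂ : V ≤ h ⁻¹ᵁ W) (h₃ : V ≤ r ⁻¹ᵁ U) (m : Γ(M, U)) :
    ((pullbackComp' h k r e).hom.app M).app V
        (LimTop.unitSec h ((Scheme.Modules.pullback k).obj M) h₂ (LimTop.unitSec k M h₁ m)) =
      LimTop.unitSec r M h₃ m := by
  subst e
  simp only [pullbackComp', Scheme.Modules.pullbackCongr, eqToIso_refl, Iso.trans_refl]
  exact LimTop.unitSec_comp k M h₁ h h₂ m

/-- `O_{h⁻¹W} ⟶ h^* O_W` -/
def aMap (h : X ⟶ Y) (W : Y.Opens) : free (h ⁻¹ᵁ W) ⟶ (Scheme.Modules.pullback h).obj (free W) :=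
  gB h le_rfl 1

instance isIso_aMap (h : X ⟶ Y) (W : Y.Opens) : IsIso (aMap h W) := by
  let adj := Scheme.Modules.pullbackPushforwardAdjunction h
  let b : (Scheme.Modules.pullback h).obj (free W) ⟶ free (h ⁻¹ᵁ W) :=
    (adj.homEquiv _ _).symm (mk (M := (Scheme.Modules.pushforward h).obj (free (h ⁻¹ᵁ W))) (gen (h ⁻¹ᵁ W)))
  have hb : b.app (h ⁻¹ᵁ W) ((adj.unit.app (free W)).app W (gen W)) = gen (h ⁻¹ᵁ W) := by
    have e : adj.unit.app (free W) ≫ (Scheme.Modules.pushforward h).map b =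
        mk (M := (Scheme.Modules.pushforward h).obj (free (h ⁻¹ᵁ W))) (gen (h ⁻¹ᵁ W)) :=
      (adj.homEquiv_unit _ _ b).symm.trans (Equiv.apply_symm_apply _ _)
    have e2 := congrArg (fun φ : free W ⟶ _ => φ.app W (gen W)) e
    exact e2.trans (mk_gen _)
  have ha : (aMap h W).app (h ⁻¹ᵁ W) (gen (h ⁻¹ᵁ W)) = (adj.unit.app (free W)).app W (gen W) := by
    rw [aMap, gB, mk_gen, one_smul, LimTop.unitSec_apply]
    exact QCoh.res_self _ _ _
  refine ⟨b, hom_ext_gen ?_, ?_⟩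
  · change b.app _ ((aMap h W).app _ (gen _)) = gen _
    rw [ha, hb]
  · refine (adj.homEquiv _ _).injective (hom_ext_gen ?_)
    rw [adj.homEquiv_unit, adj.homEquiv_unit, CategoryTheory.Functor.map_id]
    erw [Category.comp_id]
    change (aMap h W).app (h ⁻¹ᵁ W) (b.app (h ⁻¹ᵁ W) ((adj.unit.app (free W)).app W (gen W))) = _
    rw [hb, ha]
    rfl

lemma smulFree_aMap (h : X ⟶ Y) (W : Y.Opens) (r : Γ(Y, W)) :
    smulFree (h.appLE W (h ⁻¹ᵁ W) le_rfl r) ≫ aMap h W = aMap h W ≫ (Scheme.Modules.pullback h).map (smulFree r) := by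
  rw [aMap, smulFree_gB, gB_smulFree]

variable {B₀ B₁ X' : Scheme.{u}} {f : X ⟶ B₀} {g : B₁ ⟶ B₀} {p : X' ⟶ X} {q : X' ⟶ B₁} [Flat g] [Flat p]

lemma module_square (r : X' ⟶ B₀) (e₁ : q ≫ g = r) (e₂ : p ≫ f = r) {V : B₀.Opens} {V' : B₁.Opens}
    (hT : V' ≤ g ⁻¹ᵁ V) (hle : q ⁻¹ᵁ V' ≤ p ⁻¹ᵁ (f ⁻¹ᵁ V)) (b : Γ(B₁, V')) :
    aMap q V' ≫ (Scheme.Modules.pullback q).map (gB g hT b) ≫ (moduleSquareIso f g p q r e₁ e₂).hom.app (free V) =
      gB p hle (q.appLE V' (q ⁻¹ᵁ V') le_rfl b) ≫ (Scheme.Modules.pullback p).map (aMap f V) := by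
  have hr : q ⁻¹ᵁ V' ≤ r ⁻¹ᵁ V := by
    rw [← e₁, Scheme.Hom.comp_preimage]
    exact q.preimage_mono hT
  have ea : ∀ {A₁ A₂ : Scheme.{u}} (k : A₁ ⟶ A₂) (W : A₂.Opens),
      (aMap k W).app (k ⁻¹ᵁ W) (gen (k ⁻¹ᵁ W)) = LimTop.unitSec k (free W) le_rfl (gen W) := fun k W =>
    (mk_gen _).trans (one_smul _ _)
  have eι : (moduleSquareIso f g p q r e₁ e₂).hom.app (free V) =
      (pullbackComp' q g r e₁).hom.app (free V) ≫ ((pullbackComp' p f r e₂).app (free V)).inv := rfl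
  rw [eι]
  refine (cancel_mono ((pullbackComp' p f r e₂).app (free V)).hom).1 ?_
  rw [Category.assoc, Category.assoc, Category.assoc, Iso.inv_hom_id, Category.comp_id]
  refine hom_ext_gen ?_
  rw [Scheme.Modules.Hom.comp_app, Scheme.Modules.Hom.comp_app, Scheme.Modules.Hom.comp_app,
    Scheme.Modules.Hom.comp_app]
  simp only [ConcreteCategory.comp_apply]
  rw [ea q V', LimTop.unitSec_map]
  have hg : (gB g hT b).app V' (gen V') = b • LimTop.unitSec g (free V) hT (gen V) := mk_gen _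
  rw [hg, LimTop.unitSec_smul, Scheme.Modules.Hom.app_smul]
  erw [unitSec_comp' q g r e₁ (free V) hT (le_refl (q ⁻¹ᵁ V')) hr (gen V)]
  have hp : (gB p hle (q.appLE V' (q ⁻¹ᵁ V') le_rfl b)).app (q ⁻¹ᵁ V') (gen (q ⁻¹ᵁ V')) =
      q.appLE V' (q ⁻¹ᵁ V') le_rfl b • LimTop.unitSec p (free (f ⁻¹ᵁ V)) hle (gen (f ⁻¹ᵁ V)) := mk_gen _
  rw [hp, Scheme.Modules.Hom.app_smul]
  erw [LimTop.unitSec_map p _ hle (aMap f V), ea f V]
  rw [Scheme.Modules.Hom.app_smul, Iso.app_hom]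
  erw [unitSec_comp' p f r e₂ (free V) (le_refl (f ⁻¹ᵁ V)) hle hr (gen V)]

omit [Flat g] [Flat p] in
lemma chase_pullD {C D : Type*} [Category C] [Category D] {F F' : C ⥤ D} (e : F ≅ F') {M T : C} {N : D}
    (α : F'.obj M ≅ N) (τ : F.obj M ⟶ N) [IsIso τ] (he : e.hom.app M ≫ α.hom = τ) (l : M ⟶ T) :
    α.inv ≫ F'.map l ≫ e.inv.app T = inv τ ≫ F.map l := by
  subst he
  simp [IsIso.inv_comp]

omit [Flat g] [Flat p] in
lemma sq_natural {C₀ C₁ CX C' : Type*} [Category C₀] [Category C₁] [Category CX] [Category C'] {G : C₀ ⥤ C₁}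
    {Q' : C₁ ⥤ C'} {F : C₀ ⥤ CX} {P : CX ⥤ C'} (c : G ⋙ Q' ≅ F ⋙ P) {T T' : C₀} (k : T ⟶ T') :
    Q'.map (G.map k) ≫ c.hom.app T' = c.hom.app T ≫ P.map (F.map k) := c.hom.naturality k

omit [Flat g] [Flat p] in
lemma chase_transport {C₀ C₁ CX C' : Type*} [Category C₀] [Category C₁] [Category CX] [Category C'] {G : C₀ ⥤ C₁}
    {Q' : C₁ ⥤ C'} {F : C₀ ⥤ CX} {P : CX ⥤ C'} {R : CX ⥤ C₀} (c : G ⋙ Q' ≅ F ⋙ P) (adj : F ⊣ R) {E : CX}
    {M₀ : C₀} {M₁ M₁' : C₁} {MX MX' : CX} {N₀ N₁ N₁' N'' NX' : C'}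
    (τg : G.obj M₀ ⟶ M₁) [IsIso τg] (τf : F.obj M₀ ⟶ MX) [IsIso τf] (τp : P.obj MX ⟶ N₀) [IsIso τp]
    (τq₁ : Q'.obj M₁ ⟶ N₁) (τq : Q'.obj M₁' ⟶ N₁') (τp' : P.obj MX' ⟶ NX') [IsIso τp']
    {ι : N₁ ⟶ N₀} (hs : c.hom.app M₀ ≫ P.map τf ≫ τp = Q'.map τg ≫ τq₁ ≫ ι)
    {gg : M₁' ⟶ M₁} {gg' : N₁' ⟶ N₁} (hq : Q'.map gg ≫ τq₁ = τq ≫ gg')
    {af : MX' ⟶ MX} {af' : NX' ⟶ N₀} (hp : P.map af ≫ τp = τp' ≫ af')
    (aq : N'' ⟶ N₁') [IsIso aq] {gp : N'' ⟶ NX'} (hm : aq ≫ gg' ≫ ι = gp ≫ af') (k : M₀ ⟶ R.obj E) :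
    Q'.map (gg ≫ inv τg ≫ G.map k) ≫ c.hom.app (R.obj E) ≫ P.map (adj.counit.app E) =
      (τq ≫ inv aq) ≫ gp ≫ inv τp' ≫ P.map ((af ≫ inv τf) ≫ (adj.homEquiv _ _).symm k) := by
  have h1 : Q'.map (inv τg) ≫ c.hom.app M₀ = τq₁ ≫ ι ≫ inv τp ≫ P.map (inv τf) := by
    rw [← cancel_mono (P.map τf ≫ τp), Category.assoc, hs]
    simp [← Functor.map_comp_assoc]
  have h2 : inv τp' ≫ P.map af = af' ≫ inv τp := by
    rw [IsIso.inv_comp_eq, ← Category.assoc, IsIso.eq_comp_inv, hp]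
  simp only [Functor.map_comp, Category.assoc, adj.homEquiv_counit]
  rw [reassoc_of% sq_natural c k, reassoc_of% h1, reassoc_of% hq, reassoc_of% h2, ← reassoc_of% hm,
    IsIso.inv_hom_id_assoc]

variable (H : IsPullback p q f g) [QuasiCompact f] [QuasiSeparated f]
  [DCoh.HasLpull f] [DCoh.HasLpull g] [DCoh.HasLpull p] [DCoh.HasLpull q] [DCoh.HasRpush f]
  (r : X' ⟶ B₀) (e₁ : q ≫ g = r) (e₂ : p ≫ f = r) [DCoh.HasLpull r]
  (adjf : DCoh.Lpull f ⊣ DCoh.Rpush f) (E : DCoh.D X)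

/-- the transposed base change morphism `Lq^* Lg^* Rf_* E ⟶ Lp^* E` -/
def bcTr : (DCoh.Lpull q).obj ((DCoh.Lpull g).obj ((DCoh.Rpush f).obj E)) ⟶ (DCoh.Lpull p).obj E :=
  (squareIso f g p q r e₁ e₂).hom.app ((DCoh.Rpush f).obj E) ≫ (DCoh.Lpull p).map (adjf.counit.app E)

include H in
/-- the transpose is bijective on maps out of free modules -/
theorem bijective_bcTr {V : B₀.Opens} {V' : B₁.Opens} (hV : IsAffineOpen V) (hV' : IsAffineOpen V')
    (hT : V' ≤ g ⁻¹ᵁ V) (hE : DCoh.IsQCohD E) (n : ℤ) :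
    Function.Bijective fun x : S n (free V') ⟶ (DCoh.Lpull g).obj ((DCoh.Rpush f).obj E) =>
      (DCoh.Lpull q).map x ≫ bcTr r e₁ e₂ adjf E := by
  letI := alg g hT
  let K := (DCoh.Rpush f).obj E
  have hK : DCoh.IsQCohD K := CohDerLib.QC.isQCohD_Rpush f E hE
  have Hg : IsPullback g (𝟙 B₁) (𝟙 B₀) g := IsPullback.of_vert_isIso ⟨by simp⟩
  have hg₂ : V' ≤ (𝟙 B₁ : B₁ ⟶ B₁) ⁻¹ᵁ V' := le_of_eq rfl
  have hover : V' = LFDesc.over g (𝟙 B₁) V' V := (inf_eq_right.2 hT).symm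
  let Og := (freeM (𝟙 B₀) g g (𝟙 B₁) Hg.w hT (le_of_eq rfl : V ≤ (𝟙 B₀ : B₀ ⟶ B₀) ⁻¹ᵁ V) hT hg₂).obj n
  have hg : Function.Bijective (Ψ Og K) :=
    bijective_Ψ_free hT Hg hV hV' hV.isQuasiSeparated (le_of_eq rfl) hV.isCompact V' hT hg₂ hover n K hK
  have hle : q ⁻¹ᵁ V' ≤ p ⁻¹ᵁ (f ⁻¹ᵁ V) :=
    (q.preimage_mono hT).trans (by rw [← Scheme.Hom.comp_preimage, ← H.w, Scheme.Hom.comp_preimage])
  let Op := (freeM f g p q H.w hT (le_refl (f ⁻¹ᵁ V)) hle (le_refl (q ⁻¹ᵁ V'))).obj n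
  have hp : Function.Bijective (Ψ Op E) :=
    bijective_Ψ_free hT H hV hV' (Scheme.Hom.isQuasiSeparated_preimage f hV.isQuasiSeparated) le_rfl
      (f.isCompact_preimage hV.isCompact) _ hle le_rfl (inf_eq_right.2 hle).symm n E hE
  haveI := isIso_tau_free f n V
  haveI := isIso_tau_free q n V'
  have : ∀ {Z : Scheme.{u}} {M N : Z.Modules} (φ : M ⟶ N) [IsIso φ], IsIso (mapS n φ) := fun φ _ =>
    (singleFunctorQ n).map_isIso φ
  -- transport of the sources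
  let u : S n (free (f ⁻¹ᵁ V)) ⟶ (DCoh.Lpull f).obj (S n (free V)) := mapS n (aMap f V) ≫ inv (tau f n (free V))
  have : IsIso u := inferInstanceAs (IsIso (_ ≫ _))
  let θ : Hm Og K →ₗ[Γ(B₀, V)] Hm Op E :=
    { toFun := fun k => (u ≫ (adjf.homEquiv _ _).symm (k : S n (free V) ⟶ K) : S n (free (f ⁻¹ᵁ V)) ⟶ E)
      map_add' := fun k k' => by
        change u ≫ (adjf.homEquiv _ _).symm ((k : S n (free V) ⟶ K) + k') = _
        haveI : (DCoh.Lpull f).Additive := adjf.left_adjoint_additive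
        rw [adjf.homEquiv_counit, Functor.map_add, Preadditive.add_comp, Preadditive.comp_add]
        rw [← adjf.homEquiv_counit, ← adjf.homEquiv_counit]
      map_smul' := fun a k => by
        change u ≫ (adjf.homEquiv _ _).symm
            (mapS n (smulFree ((𝟙 B₀ : B₀ ⟶ B₀).appLE V V (le_of_eq rfl) a)) ≫ (k : S n (free V) ⟶ K)) =
          mapS n (smulFree (f.appLE V (f ⁻¹ᵁ V) le_rfl a)) ≫ u ≫ (adjf.homEquiv _ _).symm (k : S n (free V) ⟶ K)
        rw [adjf.homEquiv_naturality_left_symm, ← Category.assoc, ← Category.assoc (mapS n _)]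
        congr 1
        have ha : (𝟙 B₀ : B₀ ⟶ B₀).appLE V V (le_of_eq rfl) a = a := by
          simp [Scheme.Hom.appLE]
          erw [CategoryTheory.Functor.map_id]
          rfl
        rw [ha]
        simp only [u, Category.assoc]
        rw [← cancel_mono (tau f n (free V))]
        simp only [Category.assoc, tau_naturality, IsIso.inv_hom_id, Category.comp_id, IsIso.inv_hom_id_assoc]
        rw [← mapS_comp', ← mapS_comp', smulFree_aMap] }
  have hθ : Function.Bijective θ := by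
    refine ⟨fun k k' hk => (adjf.homEquiv _ _).symm.injective ((cancel_epi u).1 hk), fun y => ?_⟩
    exact ⟨(adjf.homEquiv _ _) (inv u ≫ (y : S n (free (f ⁻¹ᵁ V)) ⟶ E)), by
      change u ≫ (adjf.homEquiv _ _).symm _ = _
      exact (congrArg (u ≫ ·) (Equiv.symm_apply_apply _ _)).trans (IsIso.hom_inv_id_assoc u _)⟩
  let ι₁ : (S n (free V') ⟶ (pullD g).obj K) → (S n (free V') ⟶ (DCoh.Lpull g).obj K) := fun x =>
    x ≫ (pullDIso g).inv.app K
  have hι₁ : Function.Bijective ι₁ := (((pullDIso g).symm.app K).homToEquiv (Z := S n (free V'))).bijective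
  let v : (DCoh.Lpull q).obj (S n (free V')) ⟶ S n (free (q ⁻¹ᵁ V')) := tau q n (free V') ≫ inv (mapS n (aMap q V'))
  have : IsIso v := inferInstanceAs (IsIso (_ ≫ _))
  let ι₂ : (S n (free (q ⁻¹ᵁ V')) ⟶ (pullD p).obj E) →+ ((DCoh.Lpull q).obj (S n (free V')) ⟶ (DCoh.Lpull p).obj E) :=
    AddMonoidHom.mk' (fun y => v ≫ y ≫ (pullDIso p).inv.app E) fun y y' => by
      rw [Preadditive.add_comp, Preadditive.comp_add]
  have hι₂ : Function.Bijective ι₂ := by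
    refine ⟨fun y y' hy => (cancel_mono ((pullDIso p).inv.app E)).1 ((cancel_epi v).1 hy),
      fun z => ⟨inv v ≫ z ≫ (pullDIso p).hom.app E, ?_⟩⟩
    change v ≫ (inv v ≫ z ≫ (pullDIso p).hom.app E) ≫ (pullDIso p).inv.app E = z
    simp
  let Ω := fun x : S n (free V') ⟶ (DCoh.Lpull g).obj K => (DCoh.Lpull q).map x ≫ bcTr r e₁ e₂ adjf E
  haveI : (DCoh.Lpull q).Additive :=
    haveI := KFlat.RPush.hasRpush q
    (KFlat.DerivedAdj.adj q).left_adjoint_additive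
  have key : ∀ t, Ω (ι₁ (Ψ Og K t)) = ι₂ (Ψ Op E (LinearMap.lTensor Γ(B₁, V') θ t)) := fun t => by
    induction t using TensorProduct.induction_on with
    | zero =>
      rw [map_zero, map_zero, map_zero, map_zero]
      simp [Ω, ι₁]
    | add x y hx hy =>
      rw [map_add, map_add, map_add, map_add, ← hx, ← hy]
      simp [Ω, ι₁]
    | tmul b k =>
      let k₀ : S n (free V) ⟶ K := k
      let kf := (adjf.homEquiv _ _).symm k₀
      have hb : (𝟙 B₁ : B₁ ⟶ B₁).appLE V' V' hg₂ b = b := by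
        simp [Scheme.Hom.appLE]
        erw [CategoryTheory.Functor.map_id]
        rfl
      have eg := chase_pullD (pullDIso g) (mapSIso (Scheme.Modules.pullback g) n (free V)) _
        (pullDIso_hom_single g n (free V)) k₀
      have ep := chase_pullD (pullDIso p) (mapSIso (Scheme.Modules.pullback p) n (free (f ⁻¹ᵁ V))) _
        (pullDIso_hom_single p n (free (f ⁻¹ᵁ V))) (u ≫ kf)
      have hmod : mapS n (aMap q V') ≫ mapS n ((Scheme.Modules.pullback q).map (gB g hT b)) ≫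
          mapS n ((moduleSquareIso f g p q r e₁ e₂).hom.app (free V)) =
          mapS n (gB p hle (q.appLE V' (q ⁻¹ᵁ V') le_rfl b)) ≫ mapS n ((Scheme.Modules.pullback p).map (aMap f V)) := by
        rw [← mapS_comp', ← mapS_comp', ← mapS_comp', module_square r e₁ e₂ hT hle b]
      have main := chase_transport (squareIso f g p q r e₁ e₂) adjf (tau g n (free V)) (tau f n (free V))
        (tau p n ((Scheme.Modules.pullback f).obj (free V))) (tau q n ((Scheme.Modules.pullback g).obj (free V)))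
        (tau q n (free V')) (tau p n (free (f ⁻¹ᵁ V))) (tau_square f g p q r e₁ e₂ n (free V))
        (tau_naturality q n (gB g hT b)) (tau_naturality p n (aMap f V)) (mapS n (aMap q V')) hmod k₀
      change (DCoh.Lpull q).map (((mapS n (gB g hT ((𝟙 B₁ : B₁ ⟶ B₁).appLE V' V' hg₂ b)) ≫
            (mapSIso (Scheme.Modules.pullback g) n (free V)).inv) ≫ (pullD g).map k₀) ≫ (pullDIso g).inv.app K) ≫
          bcTr r e₁ e₂ adjf E =
        v ≫ ((mapS n (gB p hle (q.appLE V' (q ⁻¹ᵁ V') le_rfl b)) ≫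
            (mapSIso (Scheme.Modules.pullback p) n (free (f ⁻¹ᵁ V))).inv) ≫ (pullD p).map (u ≫ kf)) ≫
          (pullDIso p).inv.app E
      rw [hb]
      simp only [Category.assoc, eg, ep, bcTr]
      simp only [v, u, kf, Category.assoc] at main ⊢
      exact main
  have hl : Function.Bijective (LinearMap.lTensor Γ(B₁, V') θ) :=
    (LinearEquiv.lTensor Γ(B₁, V') (LinearEquiv.ofBijective θ hθ)).bijective
  refine (Function.Bijective.of_comp_iff Ω (hι₁.comp hg)).1 ?_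
  rw [show Ω ∘ (ι₁ ∘ Ψ Og K) = ι₂ ∘ (Ψ Op E ∘ LinearMap.lTensor Γ(B₁, V') θ) from funext key]
  exact hι₂.comp (hp.comp hl)

include H in
/-- the base change morphism of derived direct images is an isomorphism -/
theorem isIso_bc [DCoh.HasRpush q] (adjq : DCoh.Lpull q ⊣ DCoh.Rpush q) (hE : DCoh.IsQCohD E) :
    IsIso ((adjq.homEquiv _ _) (bcTr r e₁ e₂ adjf E)) := by
  have : QuasiCompact q := MorphismProperty.of_isPullback H ‹QuasiCompact f›
  have : QuasiSeparated q := MorphismProperty.of_isPullback H ‹QuasiSeparated f›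
  let η := (adjq.homEquiv _ _) (bcTr r e₁ e₂ adjf E)
  have hL : DCoh.IsQCohD ((DCoh.Lpull g).obj ((DCoh.Rpush f).obj E)) :=
    KFlat.QCohModel.isQCohD_Lpull g _ (CohDerLib.QC.isQCohD_Rpush f E hE)
  have hR : DCoh.IsQCohD ((DCoh.Rpush q).obj ((DCoh.Lpull p).obj E)) :=
    CohDerLib.QC.isQCohD_Rpush q _ (KFlat.QCohModel.isQCohD_Lpull p E hE)
  rw [DerivedCategory.isIso_iff]
  intro n
  refine isIso_of_basis_bijective _ _ (exists_affine_pair g) ?_
  rintro V' ⟨hV', V, hV, hT⟩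
  have hb : Function.Bijective fun x : S n (free V') ⟶ (DCoh.Lpull g).obj ((DCoh.Rpush f).obj E) =>
      x ≫ η := by
    have h := bijective_bcTr H r e₁ e₂ adjf E hV hV' hT hE n
    have : (fun x : S n (free V') ⟶ (DCoh.Lpull g).obj ((DCoh.Rpush f).obj E) => x ≫ η) =
        (adjq.homEquiv _ _) ∘ fun x => (DCoh.Lpull q).map x ≫ bcTr r e₁ e₂ adjf E :=
      funext fun x => (adjq.homEquiv_naturality_left x (bcTr r e₁ e₂ adjf E)).symm
    rw [this]
    exact (Equiv.bijective _).comp h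
  let σ : ∀ T : DCoh.D B₁, (S n (free V') ⟶ T) → Γ(DCoh.HD T n, V') := fun T x =>
    (φH n (free V') T x).app V' (gen V')
  have hσ : ∀ T, DCoh.IsQCohD T → Function.Bijective (σ T) := fun T hT => by
    have h : σ T = CohDerLib.QC.sec V' _ ∘ φH n (free V') T := funext fun k => (sec_eq _).symm
    rw [h]
    exact (Equiv.bijective _).comp (φH_bijective hV' T hT n)
  have hc : ((homologyFunctor B₁.Modules n).map η).app V' ∘ σ _ = σ _ ∘ fun x => x ≫ η := funext fun x => by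
    change _ = (φH n (free V') _ (x ≫ η)).app V' (gen V')
    rw [φH_comp]
    rfl
  refine (Function.Bijective.of_comp_iff _ (hσ _ hL)).1 ?_
  rw [hc]
  exact (hσ _ hR).comp hb

end

end Groth.Agent.CohBase.FlatBC.D
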