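import Mathlib.CategoryTheory.Triangulated.Pretriangulated
import Mathlib.CategoryTheory.Triangulated.Functor
import Mathlib.CategoryTheory.Preadditive.Opposite
import Mathlib.RingTheory.Flat.Basic

/-!
# A five lemma for base change of morphism groups in triangulated categories

An `Obj` records an object `L` with an action of `A`, an object `L'` of the target category and
`B`-indexed maps `L' ⟶ Φ L`; it gives `B ⊗_A Hom(L, E) ⟶ Hom(L', Φ E)`.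
-/

set_option autoImplicit false
set_option linter.unusedSectionVars false

open CategoryTheory Category Limits Pretriangulated
open scoped TensorProduct

namespace Groth.Agent.CohBase.FlatBC.D

noncomputable section

universe w v v' u u'

variable {C : Type u} [Category.{v} C] [Preadditive C] [HasZeroObject C] [HasShift C ℤ]
  [∀ n : ℤ, (shiftFunctor C n).Additive] [Pretriangulated C]
  {C' : Type u'} [Category.{v'} C'] [Preadditive C'] [HasZeroObject C'] [HasShift C' ℤ]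
  [∀ n : ℤ, (shiftFunctor C' n).Additive] [Pretriangulated C']
  (Φ : C ⥤ C') [Φ.CommShift ℤ] [Φ.IsTriangulated] [Φ.Additive]
  (A B : Type w) [CommRing A] [CommRing B] [Algebra A B]

/-- test objects -/
structure Obj where
  /-- source object -/
  L : C
  /-- target object -/
  L' : C'
  /-- the scalars -/
  ρ : A →+* (End L)ᵐᵒᵖ
  /-- the comparison -/
  γ : B →+ (L' ⟶ Φ.obj L)
  bal : ∀ (a : A) (b : B), γ (a • b) = γ b ≫ Φ.map ((ρ a).unop : L ⟶ L)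

variable {Φ A B}

/-- maps out of a test object -/
def Hm (O : Obj Φ A B) (E : C) : Type v := O.L ⟶ E

instance (O : Obj Φ A B) (E : C) : AddCommGroup (Hm O E) := inferInstanceAs (AddCommGroup (O.L ⟶ E))

instance (O : Obj Φ A B) (E : C) : Module A (Hm O E) :=
  letI : Module (End O.L)ᵐᵒᵖ (Hm O E) := inferInstanceAs (Module (End O.L)ᵐᵒᵖ (O.L ⟶ E))
  Module.compHom (Hm O E) O.ρ

lemma smul_def (O : Obj Φ A B) {E : C} (a : A) (k : O.L ⟶ E) :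
    ((a • (show Hm O E from k) : Hm O E) : O.L ⟶ E) = ((O.ρ a).unop : O.L ⟶ O.L) ≫ k := rfl

/-- the base change map on morphism groups -/
def Ψ (O : Obj Φ A B) (E : C) : B ⊗[A] Hm O E →+ (O.L' ⟶ Φ.obj E) :=
  TensorProduct.liftAddHom
    (AddMonoidHom.mk' (fun b => AddMonoidHom.mk' (fun (k : Hm O E) => O.γ b ≫ Φ.map (k : O.L ⟶ E))
      fun k k' => by
        exact (congrArg (O.γ b ≫ ·) (Φ.map_add (f := (k : O.L ⟶ E)) (g := k'))).trans (Preadditive.comp_add _ _ _ _ _ _))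
      fun b b' => AddMonoidHom.ext fun (k : O.L ⟶ E) => by
        change O.γ (b + b') ≫ Φ.map k = O.γ b ≫ Φ.map k + O.γ b' ≫ Φ.map k
        rw [map_add, Preadditive.add_comp])
    fun a b k => by
      change O.γ (a • b) ≫ Φ.map (k : O.L ⟶ E) = O.γ b ≫ Φ.map (((O.ρ a).unop : O.L ⟶ O.L) ≫ k)
      rw [O.bal, Φ.map_comp, assoc]

lemma Ψ_tmul (O : Obj Φ A B) {E : C} (b : B) (k : O.L ⟶ E) :
    Ψ O E (b ⊗ₜ[A] (k : Hm O E)) = O.γ b ≫ Φ.map k := rfl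

/-- morphisms of test objects -/
structure Mor (O₁ O₂ : Obj Φ A B) where
  /-- on sources -/
  f : O₁.L ⟶ O₂.L
  /-- on targets -/
  f' : O₁.L' ⟶ O₂.L'
  equiv : ∀ a : A, ((O₁.ρ a).unop : O₁.L ⟶ O₁.L) ≫ f = f ≫ (O₂.ρ a).unop
  comm : ∀ b : B, O₁.γ b ≫ Φ.map f = f' ≫ O₂.γ b

/-- precomposition -/
def Mor.pre {O₁ O₂ : Obj Φ A B} (m : Mor O₁ O₂) (E : C) : Hm O₂ E →ₗ[A] Hm O₁ E where
  toFun k := (m.f ≫ (k : O₂.L ⟶ E) : O₁.L ⟶ E)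
  map_add' _ _ := Preadditive.comp_add _ _ _ _ _ _
  map_smul' a k := by
    change m.f ≫ ((O₂.ρ a).unop : O₂.L ⟶ O₂.L) ≫ (k : O₂.L ⟶ E) = ((O₁.ρ a).unop : O₁.L ⟶ O₁.L) ≫ m.f ≫ k
    rw [← assoc, ← m.equiv, assoc]

lemma Ψ_pre {O₁ O₂ : Obj Φ A B} (m : Mor O₁ O₂) (E : C) (t : B ⊗[A] Hm O₂ E) :
    Ψ O₁ E (LinearMap.lTensor B (m.pre E) t) = m.f' ≫ Ψ O₂ E t := by
  induction t using TensorProduct.induction_on with
  | zero => simp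
  | add x y hx hy => rw [map_add, map_add, map_add, Preadditive.comp_add, hx, hy]
  | tmul b k =>
    change O₁.γ b ≫ Φ.map (m.f ≫ (k : O₂.L ⟶ E)) = m.f' ≫ O₂.γ b ≫ Φ.map (k : O₂.L ⟶ E)
    rw [Φ.map_comp, ← assoc, m.comm, assoc]

/-- shifting a test object -/
def Obj.sh (O : Obj Φ A B) : Obj Φ A B where
  L := O.L⟦(1 : ℤ)⟧
  L' := O.L'⟦(1 : ℤ)⟧
  ρ :=
    { toFun := fun a => MulOpposite.op ((((O.ρ a).unop : O.L ⟶ O.L))⟦(1 : ℤ)⟧')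
      map_one' := by rw [map_one]; exact congrArg MulOpposite.op ((shiftFunctor C (1 : ℤ)).map_id _)
      map_mul' := fun a a' => by
        rw [map_mul]
        exact congrArg MulOpposite.op ((shiftFunctor C (1 : ℤ)).map_comp _ _)
      map_zero' := by rw [map_zero]; exact congrArg MulOpposite.op ((shiftFunctor C (1 : ℤ)).map_zero _ _)
      map_add' := fun a a' => by
        rw [map_add]
        exact congrArg MulOpposite.op ((shiftFunctor C (1 : ℤ)).map_add) }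
  γ := AddMonoidHom.mk' (fun b => (O.γ b)⟦(1 : ℤ)⟧' ≫ (Φ.commShiftIso (1 : ℤ)).inv.app O.L)
    fun b b' => by rw [map_add, Functor.map_add, Preadditive.add_comp]
  bal a b := by
    change (O.γ (a • b))⟦(1 : ℤ)⟧' ≫ _ = ((O.γ b)⟦(1 : ℤ)⟧' ≫ _) ≫ Φ.map ((((O.ρ a).unop : O.L ⟶ O.L))⟦(1 : ℤ)⟧')
    rw [O.bal, Functor.map_comp, assoc, assoc]
    congr 1
    exact Φ.commShiftIso_inv_naturality _ _

/-- shifting a morphism -/
def Mor.sh {O₁ O₂ : Obj Φ A B} (m : Mor O₁ O₂) : Mor O₁.sh O₂.sh where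
  f := m.f⟦(1 : ℤ)⟧'
  f' := m.f'⟦(1 : ℤ)⟧'
  equiv a := by
    change (((O₁.ρ a).unop : O₁.L ⟶ O₁.L))⟦(1 : ℤ)⟧' ≫ m.f⟦(1 : ℤ)⟧' = m.f⟦(1 : ℤ)⟧' ≫ _
    rw [← Functor.map_comp, m.equiv]
    exact Functor.map_comp _ _ _
  comm b := by
    change ((O₁.γ b)⟦(1 : ℤ)⟧' ≫ _) ≫ Φ.map (m.f⟦(1 : ℤ)⟧') = m.f'⟦(1 : ℤ)⟧' ≫ (O₂.γ b)⟦(1 : ℤ)⟧' ≫ _
    rw [assoc, ← Φ.commShiftIso_inv_naturality, ← Functor.map_comp_assoc, ← Functor.map_comp_assoc, m.comm]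

/-- `Hom(L⟦1⟧, E) = Hom(L, E⟦-1⟧)` -/
theorem bijective_Ψ_sh (O : Obj Φ A B) (E : C) (h : Function.Bijective (Ψ O (E⟦(-1 : ℤ)⟧))) :
    Function.Bijective (Ψ O.sh E) := by
  let c : (E⟦(-1 : ℤ)⟧)⟦(1 : ℤ)⟧ ≅ E := (shiftFunctorCompIsoId C (-1 : ℤ) 1 (by simp)).app E
  let α : Hm O (E⟦(-1 : ℤ)⟧) →ₗ[A] Hm O.sh E :=
    { toFun := fun k => ((k : O.L ⟶ E⟦(-1 : ℤ)⟧)⟦(1 : ℤ)⟧' ≫ c.hom : O.L⟦(1 : ℤ)⟧ ⟶ E)
      map_add' := fun k k' => (congrArg (· ≫ c.hom) (Functor.map_add _)).trans (Preadditive.add_comp _ _ _ _ _ _)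
      map_smul' := fun a k => (congrArg (· ≫ c.hom) (Functor.map_comp _ _ _)).trans (assoc _ _ _) }
  have hα : Function.Bijective α := by
    refine ⟨fun k k' hkk => ?_, fun y => ?_⟩
    · exact (shiftFunctor C (1 : ℤ)).map_injective ((cancel_mono c.hom).1 hkk)
    · obtain ⟨k, hk⟩ := (shiftFunctor C (1 : ℤ)).map_surjective ((y : O.L⟦(1 : ℤ)⟧ ⟶ E) ≫ c.inv)
      exact ⟨k, (congrArg (· ≫ c.hom) hk).trans ((assoc _ _ _).trans ((congrArg ((y : O.L⟦(1 : ℤ)⟧ ⟶ E) ≫ ·) c.inv_hom_id).trans (comp_id _)))⟩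
  let β : (O.L' ⟶ Φ.obj (E⟦(-1 : ℤ)⟧)) →+ (O.sh.L' ⟶ Φ.obj E) :=
    AddMonoidHom.mk' (fun y => y⟦(1 : ℤ)⟧' ≫ (Φ.commShiftIso (1 : ℤ)).inv.app _ ≫ Φ.map c.hom) fun y y' =>
      (congrArg (· ≫ _) (Functor.map_add _)).trans (Preadditive.add_comp _ _ _ _ _ _)
  have hβ : Function.Bijective β := by
    refine ⟨fun y y' hy => ?_, fun z => ?_⟩
    · exact (shiftFunctor C' (1 : ℤ)).map_injective
        ((cancel_mono ((Φ.commShiftIso (1 : ℤ)).inv.app _ ≫ Φ.map c.hom)).1 hy)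
    · obtain ⟨k, hk⟩ := (shiftFunctor C' (1 : ℤ)).map_surjective
        ((show O.L'⟦(1 : ℤ)⟧ ⟶ Φ.obj E from z) ≫ Φ.map c.inv ≫ (Φ.commShiftIso (1 : ℤ)).hom.app _)
      refine ⟨k, ?_⟩
      change k⟦(1 : ℤ)⟧' ≫ _ = z
      rw [hk]
      simp [← Φ.map_comp_assoc, ← Φ.map_comp]
  let e := LinearEquiv.ofBijective α hα
  have key : ∀ t, Ψ O.sh E (LinearMap.lTensor B α t) = β (Ψ O (E⟦(-1 : ℤ)⟧) t) := fun t => by
    induction t using TensorProduct.induction_on with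
    | zero => simp only [map_zero]
    | add x y hx hy =>
      rw [map_add, map_add, map_add, map_add, hx, hy]
    | tmul b k =>
      change ((O.γ b)⟦(1 : ℤ)⟧' ≫ _) ≫ Φ.map ((k : O.L ⟶ E⟦(-1 : ℤ)⟧)⟦(1 : ℤ)⟧' ≫ c.hom) =
        (O.γ b ≫ Φ.map (k : O.L ⟶ E⟦(-1 : ℤ)⟧))⟦(1 : ℤ)⟧' ≫ _ ≫ _
      rw [Φ.map_comp, assoc, ← Φ.commShiftIso_inv_naturality_assoc, Functor.map_comp, assoc]
  have hl : Function.Bijective (LinearMap.lTensor B α) := (LinearEquiv.lTensor B e).bijective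
  exact (Function.Bijective.of_comp_iff _ hl).1 (by
    rw [show (Ψ O.sh E : B ⊗[A] Hm O.sh E → _) ∘ LinearMap.lTensor B α = β ∘ Ψ O (E⟦(-1 : ℤ)⟧) from funext key]
    exact hβ.comp h)

/-- a split sum of test objects -/
theorem bijective_Ψ_sum {O₁ O₂ O : Obj Φ A B} (i₁ : Mor O₁ O) (i₂ : Mor O₂ O) (p₁ : Mor O O₁) (p₂ : Mor O O₂)
    (h : p₁.f ≫ i₁.f + p₂.f ≫ i₂.f = 𝟙 _) (h' : p₁.f' ≫ i₁.f' + p₂.f' ≫ i₂.f' = 𝟙 _)
    (h₁₁ : i₁.f' ≫ p₁.f' = 𝟙 _) (h₂₂ : i₂.f' ≫ p₂.f' = 𝟙 _)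
    (h₁₂ : i₁.f' ≫ p₂.f' = 0) (h₂₁ : i₂.f' ≫ p₁.f' = 0) (E : C)
    (hb₁ : Function.Bijective (Ψ O₁ E)) (hb₂ : Function.Bijective (Ψ O₂ E)) : Function.Bijective (Ψ O E) := by
  have hid : (p₁.pre E).comp (i₁.pre E) + (p₂.pre E).comp (i₂.pre E) = LinearMap.id := by
    ext (k : O.L ⟶ E)
    change p₁.f ≫ i₁.f ≫ k + p₂.f ≫ i₂.f ≫ k = k
    rw [← assoc, ← assoc, ← Preadditive.add_comp, h, id_comp]
  have hy : ∀ y : O.L' ⟶ Φ.obj E, p₁.f' ≫ i₁.f' ≫ y + p₂.f' ≫ i₂.f' ≫ y = y := fun y => by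
    rw [← assoc, ← assoc, ← Preadditive.add_comp, h', id_comp]
  refine ⟨?_, fun y => ?_⟩
  · rw [injective_iff_map_eq_zero]
    intro t ht
    have e₁ : LinearMap.lTensor B (i₁.pre E) t = 0 :=
      hb₁.1 (by rw [Ψ_pre, ht, comp_zero, map_zero])
    have e₂ : LinearMap.lTensor B (i₂.pre E) t = 0 :=
      hb₂.1 (by rw [Ψ_pre, ht, comp_zero, map_zero])
    have ht' : LinearMap.lTensor B (p₁.pre E) (LinearMap.lTensor B (i₁.pre E) t) +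
        LinearMap.lTensor B (p₂.pre E) (LinearMap.lTensor B (i₂.pre E) t) = t := by
      rw [← LinearMap.lTensor_comp_apply, ← LinearMap.lTensor_comp_apply, ← LinearMap.add_apply,
        ← LinearMap.lTensor_add, hid, LinearMap.lTensor_id, LinearMap.id_apply]
    rw [← ht', e₁, e₂, map_zero, map_zero, add_zero]
  · obtain ⟨t₁, ht₁⟩ := hb₁.2 (i₁.f' ≫ y)
    obtain ⟨t₂, ht₂⟩ := hb₂.2 (i₂.f' ≫ y)
    exact ⟨LinearMap.lTensor B (p₁.pre E) t₁ + LinearMap.lTensor B (p₂.pre E) t₂, by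
      rw [map_add, Ψ_pre, Ψ_pre, ht₁, ht₂, hy y]⟩

/-- the five lemma -/
theorem bijective_Ψ_triangle [Module.Flat A B] {O₁ O₂ O₃ : Obj Φ A B} (m₁ : Mor O₁ O₂) (m₂ : Mor O₂ O₃)
    (m₃ : Mor O₃ O₁.sh)
    (hT : Triangle.mk m₁.f m₂.f (m₃.f : O₃.L ⟶ O₁.L⟦(1 : ℤ)⟧) ∈ distTriang C)
    (hT' : Triangle.mk m₁.f' m₂.f' (m₃.f' : O₃.L' ⟶ O₁.L'⟦(1 : ℤ)⟧) ∈ distTriang C') (E : C)
    (h₁ : Function.Bijective (Ψ O₁ E)) (h₂ : Function.Bijective (Ψ O₂ E))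
    (h₁' : Function.Bijective (Ψ O₁.sh E)) (h₂' : Function.Bijective (Ψ O₂.sh E)) :
    Function.Bijective (Ψ O₃ E) := by
  have hR := rot_of_distTriang _ hT
  have hR' := rot_of_distTriang _ hT'
  -- exactness of precomposition
  have e₂ : Function.Exact (m₂.pre E) (m₁.pre E) := fun (k : O₂.L ⟶ E) => by
    constructor
    · intro hk
      obtain ⟨g, hg⟩ := Triangle.yoneda_exact₂ _ hT k hk
      exact ⟨g, hg.symm⟩
    · rintro ⟨g, rfl⟩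
      change m₁.f ≫ m₂.f ≫ (g : O₃.L ⟶ E) = 0
      exact (assoc _ _ _).symm.trans ((congrArg (· ≫ (g : O₃.L ⟶ E)) (comp_distTriang_mor_zero₁₂ _ hT)).trans zero_comp)
  have e₃ : Function.Exact (m₃.pre E) (m₂.pre E) := fun (k : O₃.L ⟶ E) => by
    constructor
    · intro hk
      obtain ⟨g, hg⟩ := Triangle.yoneda_exact₃ _ hT k hk
      exact ⟨g, hg.symm⟩
    · rintro ⟨g, rfl⟩
      change m₂.f ≫ m₃.f ≫ (g : O₁.L⟦(1 : ℤ)⟧ ⟶ E) = 0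
      exact (assoc _ _ _).symm.trans ((congrArg (· ≫ (g : O₁.L⟦(1 : ℤ)⟧ ⟶ E)) (comp_distTriang_mor_zero₂₃ _ hT)).trans zero_comp)
  have z₃₁ : (m₃.pre E).comp (m₁.sh.pre E) = 0 := by
    ext (k : O₂.L⟦(1 : ℤ)⟧ ⟶ E)
    change m₃.f ≫ m₁.f⟦(1 : ℤ)⟧' ≫ k = 0
    exact (assoc _ _ _).symm.trans ((congrArg (· ≫ k) (comp_distTriang_mor_zero₃₁ _ hT)).trans zero_comp)
  refine ⟨?_, fun y => ?_⟩
  · rw [injective_iff_map_eq_zero]
    intro t ht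
    have h0 : LinearMap.lTensor B (m₂.pre E) t = 0 := h₂.1 (by rw [Ψ_pre, ht, comp_zero, map_zero])
    obtain ⟨u, rfl⟩ := (Module.Flat.lTensor_exact B e₃ t).1 h0
    rw [Ψ_pre] at ht
    obtain ⟨z, hz⟩ := Triangle.yoneda_exact₃ _ hR' (Ψ O₁.sh E u) ht
    obtain ⟨v, hv⟩ := h₂'.2 (-z)
    have hu : u = LinearMap.lTensor B (m₁.sh.pre E) v := h₁'.1 (by
      rw [Ψ_pre, hv, hz]
      exact (Preadditive.neg_comp _ _).trans (Preadditive.comp_neg _ _).symm)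
    rw [hu, ← LinearMap.lTensor_comp_apply, z₃₁, LinearMap.lTensor_zero, LinearMap.zero_apply]
  · obtain ⟨t₂, ht₂⟩ := h₂.2 (m₂.f' ≫ y)
    have h0 : LinearMap.lTensor B (m₁.pre E) t₂ = 0 := h₁.1 (by
      rw [Ψ_pre, ht₂, map_zero]
      exact (assoc _ _ _).symm.trans ((congrArg (· ≫ y) (comp_distTriang_mor_zero₁₂ _ hT')).trans zero_comp))
    obtain ⟨t₃, rfl⟩ := (Module.Flat.lTensor_exact B e₂ t₂).1 h0
    rw [Ψ_pre] at ht₂
    obtain ⟨z, hz⟩ := Triangle.yoneda_exact₃ _ hT' (y - Ψ O₃ E t₃) (by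
      change m₂.f' ≫ _ = 0
      rw [Preadditive.comp_sub, ht₂, sub_self])
    obtain ⟨u, hu⟩ := h₁'.2 z
    refine ⟨t₃ + LinearMap.lTensor B (m₃.pre E) u, ?_⟩
    rw [map_add, Ψ_pre, hu]
    exact ((congrArg (Ψ O₃ E t₃ + ·) hz.symm).trans (add_sub_cancel _ _))

end

end Groth.Agent.CohBase.FlatBC.D
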