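import Groth.Agent.KFlat.MapHomology
import Groth.Agent.KFlat.TruncHom
import Groth.Agent.KFlat.QCohAcy
import Mathlib.Algebra.Homology.SingleHomology

/-!
# A single object in the derived category and exact functors: cohomology compatibility
-/

set_option autoImplicit false
set_option backward.isDefEq.respectTransparency false
set_option backward.isDefEq.respectTransparency.types false

open CategoryTheory Limits DerivedCategory HomologicalComplex

namespace Groth.Agent.CohBase.FlatBC.D

noncomputable section

universe w w' v v' u u'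

section Complex

variable {A : Type u} [Category.{v} A] [Abelian A]

/-- left homology data of a complex concentrated in degree `n` -/
def singleHD (n : ℤ) (M : A) : (((single A (ComplexShape.up ℤ) n).obj M).sc n).LeftHomologyData :=
  ShortComplex.LeftHomologyData.ofZeros _ (single_obj_d (V := A) (c := ComplexShape.up ℤ) n M _ _) (single_obj_d (V := A) (c := ComplexShape.up ℤ) n M _ _)

lemma homologyπ_comp_homologyIso {S : ShortComplex A} (h : S.LeftHomologyData) :
    S.homologyπ ≫ h.homologyIso.hom = h.cyclesIso.hom ≫ h.π := by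
  simp [ShortComplex.LeftHomologyData.homologyIso, ShortComplex.LeftHomologyData.leftHomologyπ_comp_leftHomologyIso_hom]

end Complex

variable {A : Type u} [Category.{v} A] [Abelian A] {B : Type u'} [Category.{v'} B] [Abelian B]
  (F : A ⥤ B) [F.Additive]

/-- the complex `F (M[-n])` is `(F M)[-n]` -/
abbrev singleMap (n : ℤ) (M : A) :
    (F.mapHomologicalComplex (ComplexShape.up ℤ)).obj ((single A (ComplexShape.up ℤ) n).obj M) ≅
      (single B (ComplexShape.up ℤ) n).obj (F.obj M) :=
  (HomologicalComplex.singleMapHomologicalComplex F (ComplexShape.up ℤ) n).app M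

variable [PreservesFiniteLimits F] [PreservesFiniteColimits F]

lemma cxIso_single (n : ℤ) (M : A) :
    (KFlat.MapHomology.cxIso F n).hom.app ((single A (ComplexShape.up ℤ) n).obj M) ≫
        F.map (singleObjHomologySelfIso (ComplexShape.up ℤ) n M).hom =
      homologyMap (singleMap F n M).hom n ≫ (singleObjHomologySelfIso (ComplexShape.up ℤ) n (F.obj M)).hom := by
  let K := (single A (ComplexShape.up ℤ) n).obj M
  let h := singleHD n M
  let FK := (F.mapHomologicalComplex (ComplexShape.up ℤ)).obj K
  have hc : h.cyclesIso.hom ≫ h.i = K.iCycles n := h.cyclesIso_hom_comp_i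
  have hπ : h.π = 𝟙 _ := rfl
  have hi : h.i = 𝟙 _ := rfl
  rw [hi] at hc
  have h1 : h.homologyIso.inv ≫ (singleObjHomologySelfIso (ComplexShape.up ℤ) n M).hom =
      (singleObjXSelf (ComplexShape.up ℤ) n M).hom := by
    rw [Iso.inv_comp_eq, ← cancel_epi (K.homologyπ n), homologyπ_singleObjHomologySelfIso_hom]
    erw [← Category.assoc, homologyπ_comp_homologyIso h]
    rw [hπ]
    erw [Category.comp_id]
    rw [Category.comp_id] at hc
    erw [hc]
    simp [singleObjCyclesSelfIso]
    rfl
  change (((K.sc n).mapHomologyIso F).hom : FK.homology n ⟶ F.obj (K.homology n)) ≫ _ = _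
  rw [ShortComplex.LeftHomologyData.mapHomologyIso_eq h F]
  refine (cancel_epi (FK.homologyπ n)).1 ?_
  rw [homologyπ_naturality_assoc, homologyπ_singleObjHomologySelfIso_hom]
  simp only [Iso.trans_hom, Functor.mapIso_hom, Iso.symm_hom, Category.assoc, ← Functor.map_comp]
  erw [h1, ← Category.assoc, homologyπ_comp_homologyIso (h.map F)]
  have hc' : (h.map F).cyclesIso.hom ≫ (h.map F).i = FK.iCycles n := (h.map F).cyclesIso_hom_comp_i
  have hi' : (h.map F).i = F.map (𝟙 _) := rfl
  have hπ' : (h.map F).π = F.map (𝟙 _) := rfl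
  rw [hπ', ← hi']
  erw [hc']
  simp [singleObjCyclesSelfIso, singleMap, HomologicalComplex.singleMapHomologicalComplex]
  congr 1
  simp [HomologicalComplex.singleObjXSelf, HomologicalComplex.singleObjXIsoOfEq, eqToHom_map]

variable [HasDerivedCategory.{w} A] [HasDerivedCategory.{w'} B]

/-- `M[-n]` -/
abbrev S (n : ℤ) (M : A) : DerivedCategory A := Q.obj ((single A (ComplexShape.up ℤ) n).obj M)

/-- the map of single objects -/
abbrev mapS (n : ℤ) {M N : A} (φ : M ⟶ N) : S n M ⟶ S n N := Q.map ((single A (ComplexShape.up ℤ) n).map φ)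

/-- `H^n(M[-n]) = M` -/
def hS (n : ℤ) (M : A) : (DerivedCategory.homologyFunctor A n).obj (S n M) ≅ M :=
  (homologyFunctorFactors A n).app _ ≪≫ singleObjHomologySelfIso (ComplexShape.up ℤ) n M

/-- cohomology of maps out of `M[-n]` -/
def φH (n : ℤ) (M : A) (K : DerivedCategory A) (k : S n M ⟶ K) :
    M ⟶ (DerivedCategory.homologyFunctor A n).obj K :=
  (hS n M).inv ≫ (DerivedCategory.homologyFunctor A n).map k

lemma φH_comp (n : ℤ) (M : A) {K K' : DerivedCategory A} (k : S n M ⟶ K) (φ : K ⟶ K') :
    φH n M K' (k ≫ φ) = φH n M K k ≫ (DerivedCategory.homologyFunctor A n).map φ := by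
  rw [φH, φH, Functor.map_comp, Category.assoc]

lemma φH_map (n : ℤ) {M N : A} (φ : M ⟶ N) (K : DerivedCategory A) (k : S n N ⟶ K) :
    φH n M K (mapS n φ ≫ k) = φ ≫ φH n N K k := by
  rw [φH, φH, Functor.map_comp, ← Category.assoc, ← Category.assoc]
  congr 1
  simp only [hS, Iso.trans_inv, Iso.app_inv, Category.assoc]
  erw [← (homologyFunctorFactors A n).inv.naturality ((single A (ComplexShape.up ℤ) n).map φ)]
  erw [singleObjHomologySelfIso_inv_naturality_assoc]

lemma φH_add (n : ℤ) (M : A) (K : DerivedCategory A) (k k' : S n M ⟶ K) :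
    φH n M K (k + k') = φH n M K k + φH n M K k' := by
  rw [φH, φH, φH, Functor.map_add, Preadditive.comp_add]

/-- the single functor is `Q` of the single complex functor -/
def singleSIso (n : ℤ) (M : A) : (singleFunctor A n).obj M ≅ S n M := KFlat.QCohAcy.singleQIso n M

lemma φH_bijective_iff (n : ℤ) (M : A) (K : DerivedCategory A) :
    Function.Bijective (φH n M K) ↔ Function.Bijective (KFlat.TruncHom.Φ M n K) := by
  let u : M ⟶ M := (hS n M).inv ≫ (DerivedCategory.homologyFunctor A n).map (singleSIso n M).inv ≫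
    (KFlat.TruncHom.ιH M n).inv
  have hu : IsIso u := inferInstanceAs (IsIso (_ ≫ _ ≫ _))
  have e : ∀ k, φH n M K k = u ≫ KFlat.TruncHom.Φ M n K ((singleSIso n M).hom ≫ k) := fun k => by
    simp only [u, φH, KFlat.TruncHom.Φ_apply, Category.assoc, Iso.inv_hom_id_assoc, ← Functor.map_comp]
  have he : φH n M K = (fun x => u ≫ x) ∘ KFlat.TruncHom.Φ M n K ∘ (singleSIso n M).homFromEquiv.symm := by
    funext k
    exact e k
  have h1 : Function.Bijective (fun x : M ⟶ (DerivedCategory.homologyFunctor A n).obj K => u ≫ x) :=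
    ⟨fun a b hab => (cancel_epi u).1 hab, fun y => ⟨inv u ≫ y, IsIso.hom_inv_id_assoc u y⟩⟩
  rw [he]
  rw [h1.of_comp_iff', Function.Bijective.of_comp_iff _ (Equiv.bijective _)]

/-- `F (M[-n]) = (F M)[-n]` -/
def mapSIso (n : ℤ) (M : A) : F.mapDerivedCategory.obj (S n M) ≅ S n (F.obj M) :=
  F.mapDerivedCategoryFactors.app _ ≪≫ Q.mapIso (singleMap F n M)

lemma mapSIso_naturality (n : ℤ) {M N : A} (φ : M ⟶ N) :
    F.mapDerivedCategory.map (mapS n φ) ≫ (mapSIso F n N).hom = (mapSIso F n M).hom ≫ mapS n (F.map φ) := by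
  simp only [mapSIso, Iso.trans_hom, Iso.app_hom, Functor.mapIso_hom, Category.assoc]
  erw [F.mapDerivedCategoryFactors.hom.naturality_assoc ((single A (ComplexShape.up ℤ) n).map φ)]
  congr 1
  refine ((Q.map_comp _ _).symm.trans (congrArg Q.map ?_)).trans (Q.map_comp _ _)
  exact (HomologicalComplex.singleMapHomologicalComplex F (ComplexShape.up ℤ) n).hom.naturality φ

lemma hS_map (n : ℤ) (M : A) :
    (hS n (F.obj M)).inv ≫ (DerivedCategory.homologyFunctor B n).map (mapSIso F n M).inv ≫
        (KFlat.MapHomology.iso F n).hom.app (S n M) = F.map (hS n M).inv := by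
  have hiso : (KFlat.MapHomology.iso F n).hom.app (S n M) =
      (DerivedCategory.homologyFunctor B n).map (F.mapDerivedCategoryFactors.hom.app ((single A (ComplexShape.up ℤ) n).obj M)) ≫
        (homologyFunctorFactors B n).hom.app _ ≫ (KFlat.MapHomology.cxIso F n).hom.app ((single A (ComplexShape.up ℤ) n).obj M) ≫
        F.map ((homologyFunctorFactors A n).inv.app ((single A (ComplexShape.up ℤ) n).obj M)) := by
    simp [KFlat.MapHomology.iso, S]
    erw [Localization.liftNatTrans_app]
    simp
    rfl
  rw [hiso]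
  simp only [mapSIso, Iso.trans_inv, Functor.mapIso_inv, Iso.app_inv, Functor.map_comp, Category.assoc]
  simp only [← Functor.map_comp_assoc, Iso.inv_hom_id_app_assoc, Category.assoc]
  simp only [Iso.inv_hom_id_app, Category.comp_id, Functor.map_comp, Category.assoc]
  rw [← cancel_mono (F.map (hS n M).hom), ← Functor.map_comp, Iso.inv_hom_id, CategoryTheory.Functor.map_id]
  simp only [hS, Iso.trans_inv, Iso.trans_hom, Iso.app_hom, Iso.app_inv, Functor.map_comp, Category.assoc]
  erw [(homologyFunctorFactors B n).hom.naturality_assoc, Iso.inv_hom_id_app_assoc]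
  simp only [← F.map_comp, Iso.inv_hom_id_app_assoc]
  erw [cxIso_single F n M]
  rw [HomologicalComplex.homologyFunctor_map, ← homologyMap_comp_assoc, singleMap, Iso.app_hom, Iso.inv_hom_id_app]
  erw [homologyMap_id, Category.id_comp]
  rw [Iso.inv_hom_id]

/-- cohomology of the image of a map out of `M[-n]` -/
theorem φH_mapSIso (n : ℤ) {P : B} {M : A} (u : P ⟶ F.obj M) (K : DerivedCategory A) (k : S n M ⟶ K) :
    φH n P (F.mapDerivedCategory.obj K) (mapS n u ≫ (mapSIso F n M).inv ≫ F.mapDerivedCategory.map k) =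
      u ≫ F.map (φH n M K k) ≫ (KFlat.MapHomology.iso F n).inv.app K := by
  rw [φH_map, φH, φH, Functor.map_comp, Functor.map_comp, ← hS_map F n M]
  simp only [Category.assoc]
  refine congrArg (fun x => u ≫ (hS n (F.obj M)).inv ≫ (DerivedCategory.homologyFunctor B n).map _ ≫ x) ?_
  erw [← (KFlat.MapHomology.iso F n).hom.naturality_assoc k]
  erw [Iso.hom_inv_id_app, Category.comp_id]
  rfl

end

end Groth.Agent.CohBase.FlatBC.D
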