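import Groth.Agent.CohBase.FlatBC.DGen
import Groth.Agent.CohBase.FlatBC.DSingle
import Groth.Agent.CohBase.FlatBC.DFive
import Groth.Agent.CohDerLib.QC.PerfBound
import Groth.Agent.KFlat.FlatPull
import Groth.Agent.KFlat.QCohModel

/-!
# Flat base change for morphism groups out of free modules in the derived category
-/

set_option autoImplicit false
set_option backward.isDefEq.respectTransparency false
set_option backward.isDefEq.respectTransparency.types false
set_option linter.style.haveILetI false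

universe u

open CategoryTheory CategoryTheory.Limits AlgebraicGeometry TopologicalSpace DerivedCategory Pretriangulated
open Groth.Agent.KFlat.QCohAcy (free)
open Groth.Agent.CohDerLib.QC (freeMap mv shortExact_mv)
open scoped TensorProduct

attribute [local instance] HasDerivedCategory.standard

namespace Groth.Agent.CohBase.FlatBC.D

noncomputable section

local notation "rr" => Groth.Agent.QCoh.rres

variable {X X' : Scheme.{u}} (p : X' ⟶ X) [Flat p]
  (A B : Type u) [CommRing A] [CommRing B] [Algebra A B]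

/-- inverse image on the derived category along a flat morphism -/
abbrev pullD : DCoh.D X ⥤ DCoh.D X' := (Scheme.Modules.pullback p).mapDerivedCategory

/-- test data on modules -/
structure MObj where
  /-- source module -/
  M : X.Modules
  /-- target module -/
  M' : X'.Modules
  /-- the scalars -/
  r : A →+* (End M)ᵐᵒᵖ
  /-- the comparison -/
  g : B →+ (M' ⟶ (Scheme.Modules.pullback p).obj M)
  bal : ∀ (a : A) (b : B), g (a • b) = g b ≫ (Scheme.Modules.pullback p).map ((r a).unop : M ⟶ M)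

variable {p A B}

/-- morphisms of test data -/
structure MMor (m₁ m₂ : MObj p A B) where
  /-- on sources -/
  f : m₁.M ⟶ m₂.M
  /-- on targets -/
  f' : m₁.M' ⟶ m₂.M'
  equiv : ∀ a : A, ((m₁.r a).unop : m₁.M ⟶ m₁.M) ≫ f = f ≫ (m₂.r a).unop
  comm : ∀ b : B, m₁.g b ≫ (Scheme.Modules.pullback p).map f = f' ≫ m₂.g b

lemma mapS_comp {Z : Scheme.{u}} (n : ℤ) {M N P : Z.Modules} (φ : M ⟶ N) (ψ : N ⟶ P) :
    mapS n (φ ≫ ψ) = mapS n φ ≫ mapS n ψ := by
  rw [mapS, mapS, mapS, Functor.map_comp, Q.map_comp]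

/-- a test object in degree `n` -/
def MObj.obj (m : MObj p A B) (n : ℤ) : Obj (pullD p) A B where
  L := S n m.M
  L' := S n m.M'
  ρ :=
    { toFun := fun a => MulOpposite.op (mapS n ((m.r a).unop : m.M ⟶ m.M))
      map_one' := by
        rw [map_one]
        exact congrArg MulOpposite.op ((congrArg Q.map ((HomologicalComplex.single _ _ n).map_id _)).trans (Q.map_id _))
      map_mul' := fun a a' => by
        rw [map_mul]
        exact congrArg MulOpposite.op (mapS_comp n _ _)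
      map_zero' := by
        rw [map_zero]
        exact congrArg MulOpposite.op ((congrArg Q.map (Functor.map_zero _ _ _)).trans (Functor.map_zero _ _ _))
      map_add' := fun a a' => by
        rw [map_add]
        exact congrArg MulOpposite.op ((congrArg Q.map (Functor.map_add _)).trans (Functor.map_add _)) }
  γ := AddMonoidHom.mk' (fun b => mapS n (m.g b) ≫ (mapSIso (Scheme.Modules.pullback p) n m.M).inv) fun b b' => by
    rw [map_add, mapS, Functor.map_add, Functor.map_add, Preadditive.add_comp]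
  bal a b := by
    change mapS n (m.g (a • b)) ≫ _ = (mapS n (m.g b) ≫ _) ≫ (pullD p).map (mapS n ((m.r a).unop : m.M ⟶ m.M))
    rw [m.bal, mapS_comp, Category.assoc, Category.assoc]
    congr 1
    rw [Iso.eq_inv_comp, ← Category.assoc, ← mapSIso_naturality, Category.assoc, Iso.hom_inv_id, Category.comp_id]

/-- a morphism of test objects in degree `n` -/
def MMor.mor {m₁ m₂ : MObj p A B} (φ : MMor m₁ m₂) (n : ℤ) : Mor (m₁.obj n) (m₂.obj n) where
  f := mapS n φ.f
  f' := mapS n φ.f'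
  equiv a := by
    change mapS n ((m₁.r a).unop : m₁.M ⟶ m₁.M) ≫ mapS n φ.f = mapS n φ.f ≫ mapS n ((m₂.r a).unop : m₂.M ⟶ m₂.M)
    rw [← mapS_comp, ← mapS_comp, φ.equiv]
  comm b := by
    change (mapS n (m₁.g b) ≫ _) ≫ (pullD p).map (mapS n φ.f) = mapS n φ.f' ≫ mapS n (m₂.g b) ≫ _
    rw [← Category.assoc, ← mapS_comp, ← φ.comm, mapS_comp, Category.assoc, Category.assoc]
    congr 1
    rw [Iso.inv_comp_eq, ← Category.assoc, ← mapSIso_naturality, Category.assoc, Iso.hom_inv_id, Category.comp_id]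

/-- the sum of test data -/
def MObj.sum (m₁ m₂ : MObj p A B) : MObj p A B where
  M := m₁.M ⊞ m₂.M
  M' := m₁.M' ⊞ m₂.M'
  r :=
    { toFun := fun a => MulOpposite.op (biprod.map ((m₁.r a).unop : m₁.M ⟶ m₁.M) ((m₂.r a).unop : m₂.M ⟶ m₂.M))
      map_one' := by
        rw [map_one, map_one]
        refine congrArg MulOpposite.op ?_
        change biprod.map (𝟙 _) (𝟙 _) = 𝟙 _
        refine biprod.hom_ext' _ _ ?_ ?_ <;> simp
      map_mul' := fun a a' => by
        rw [map_mul, map_mul]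
        refine congrArg MulOpposite.op ?_
        change biprod.map (((m₁.r a).unop : m₁.M ⟶ m₁.M) ≫ (m₁.r a').unop) (((m₂.r a).unop : m₂.M ⟶ m₂.M) ≫ (m₂.r a').unop) = biprod.map _ _ ≫ biprod.map _ _
        refine biprod.hom_ext' _ _ ?_ ?_ <;> simp
      map_zero' := by
        rw [map_zero, map_zero]
        refine congrArg MulOpposite.op ?_
        change biprod.map (0 : m₁.M ⟶ m₁.M) (0 : m₂.M ⟶ m₂.M) = 0
        refine biprod.hom_ext' _ _ ?_ ?_ <;> simp
      map_add' := fun a a' => by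
        rw [map_add, map_add]
        refine congrArg MulOpposite.op ?_
        change biprod.map (((m₁.r a).unop : m₁.M ⟶ m₁.M) + (m₁.r a').unop) (((m₂.r a).unop : m₂.M ⟶ m₂.M) + (m₂.r a').unop) = biprod.map _ _ + biprod.map _ _
        refine biprod.hom_ext' _ _ ?_ ?_ <;> simp <;> exact Preadditive.add_comp _ _ _ _ _ _ }
  g := AddMonoidHom.mk' (fun b => biprod.desc (m₁.g b ≫ (Scheme.Modules.pullback p).map biprod.inl)
      (m₂.g b ≫ (Scheme.Modules.pullback p).map biprod.inr)) fun b b' => by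
    refine biprod.hom_ext' _ _ ?_ ?_ <;> simp [map_add, Preadditive.add_comp]
  bal a b := by
    refine biprod.hom_ext' _ _ ?_ ?_ <;>
      simp [m₁.bal, m₂.bal, ← Functor.map_comp]

/-- first inclusion -/
def MObj.inl (m₁ m₂ : MObj p A B) : MMor m₁ (m₁.sum m₂) where
  f := biprod.inl
  f' := biprod.inl
  equiv a := by simp [MObj.sum]
  comm b := by simp [MObj.sum]

/-- second inclusion -/
def MObj.inr (m₁ m₂ : MObj p A B) : MMor m₂ (m₁.sum m₂) where
  f := biprod.inr
  f' := biprod.inr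
  equiv a := by simp [MObj.sum]
  comm b := by simp [MObj.sum]

/-- first projection -/
def MObj.fst (m₁ m₂ : MObj p A B) : MMor (m₁.sum m₂) m₁ where
  f := biprod.fst
  f' := biprod.fst
  equiv a := by simp [MObj.sum]
  comm b := by
    refine biprod.hom_ext' _ _ ?_ ?_ <;> simp [MObj.sum, ← Functor.map_comp]

/-- second projection -/
def MObj.snd (m₁ m₂ : MObj p A B) : MMor (m₁.sum m₂) m₂ where
  f := biprod.snd
  f' := biprod.snd
  equiv a := by simp [MObj.sum]
  comm b := by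
    refine biprod.hom_ext' _ _ ?_ ?_ <;> simp [MObj.sum, ← Functor.map_comp]

theorem bijective_Ψ_mobj_sum (m₁ m₂ : MObj p A B) (n : ℤ) (E : DCoh.D X)
    (h₁ : Function.Bijective (Ψ (m₁.obj n) E)) (h₂ : Function.Bijective (Ψ (m₂.obj n) E)) :
    Function.Bijective (Ψ ((m₁.sum m₂).obj n) E) := by
  have hadd : ∀ {Z : Scheme.{u}} {M N : Z.Modules} (φ ψ : M ⟶ N), mapS n (φ + ψ) = mapS n φ + mapS n ψ :=
    fun φ ψ => (congrArg Q.map (Functor.map_add _)).trans (Functor.map_add _)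
  have hid : ∀ {Z : Scheme.{u}} (M : Z.Modules), mapS n (𝟙 M) = 𝟙 _ :=
    fun M => (congrArg Q.map ((HomologicalComplex.single _ _ n).map_id _)).trans (Q.map_id _)
  have hz : ∀ {Z : Scheme.{u}} (M N : Z.Modules), mapS n (0 : M ⟶ N) = 0 :=
    fun M N => (congrArg Q.map (Functor.map_zero _ _ _)).trans (Functor.map_zero _ _ _)
  refine bijective_Ψ_sum ((m₁.inl m₂).mor n) ((m₁.inr m₂).mor n) ((m₁.fst m₂).mor n) ((m₁.snd m₂).mor n)
    ?_ ?_ ?_ ?_ ?_ ?_ E h₁ h₂
  · change mapS n (biprod.fst (X := m₁.M) (Y := m₂.M)) ≫ mapS n biprod.inl + mapS n biprod.snd ≫ mapS n biprod.inr = 𝟙 (S n (m₁.M ⊞ m₂.M))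
    rw [← mapS_comp, ← mapS_comp, ← hadd, biprod.total, hid]
  · change mapS n (biprod.fst (X := m₁.M') (Y := m₂.M')) ≫ mapS n biprod.inl + mapS n biprod.snd ≫ mapS n biprod.inr = 𝟙 (S n (m₁.M' ⊞ m₂.M'))
    rw [← mapS_comp, ← mapS_comp, ← hadd, biprod.total, hid]
  · change mapS n (biprod.inl (X := m₁.M') (Y := m₂.M')) ≫ mapS n biprod.fst = 𝟙 (S n m₁.M')
    rw [← mapS_comp, biprod.inl_fst, hid]
  · change mapS n (biprod.inr (X := m₁.M') (Y := m₂.M')) ≫ mapS n biprod.snd = 𝟙 (S n m₂.M')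
    rw [← mapS_comp, biprod.inr_snd, hid]
  · change mapS n (biprod.inl (X := m₁.M') (Y := m₂.M')) ≫ mapS n biprod.snd = 0
    rw [← mapS_comp, biprod.inl_snd, hz]
  · change mapS n (biprod.inr (X := m₁.M') (Y := m₂.M')) ≫ mapS n biprod.fst = 0
    rw [← mapS_comp, biprod.inr_fst, hz]

/-- the triangle of a short exact sequence of modules, in degree `n` -/
lemma sesTriangle {Z : Scheme.{u}} {T : ShortComplex Z.Modules} (hT : T.ShortExact) (n : ℤ) :
    ∃ δ, Triangle.mk (mapS n T.f) (mapS n T.g) (δ : S n T.X₃ ⟶ (S n T.X₁)⟦(1 : ℤ)⟧) ∈ distTriang (DCoh.D Z) :=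
  ⟨_, triangleOfSES_distinguished (hT.map_of_exact (HomologicalComplex.single Z.Modules (ComplexShape.up ℤ) n))⟩

/-- no maps from `M[-n][1]` to `N[-n]` -/
lemma shift_single_eq_zero {Z : Scheme.{u}} {M N : Z.Modules} (n : ℤ) {G : DCoh.D Z} (e : G ≅ S n N)
    (φ : (S n M)⟦(1 : ℤ)⟧ ⟶ G) : φ = 0 := by
  have h0 : (S n M).IsLE n :=
    TStructure.t.isLE_of_iso (singleSIso n M) n
  have h1 : ((S n M)⟦(1 : ℤ)⟧).IsLE (n - 1) := TStructure.t.isLE_shift _ n 1 (n - 1) (by omega)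
  have h2 : (S n N).IsGE n := TStructure.t.isGE_of_iso (singleSIso n N) n
  have h3 := TStructure.t.zero_of_isLE_of_isGE (φ ≫ e.hom) (n - 1) n (by omega) h1 h2
  exact (cancel_mono e.hom).1 (h3.trans zero_comp.symm)

/-- naturality of the connecting morphism, into a triangle of single objects -/
lemma connecting_natural {Z : Scheme.{u}} {T : ShortComplex Z.Modules} (n : ℤ)
    {δ : S n T.X₃ ⟶ (S n T.X₁)⟦(1 : ℤ)⟧}
    (hT : Triangle.mk (mapS n T.f) (mapS n T.g) δ ∈ distTriang (DCoh.D Z))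
    (T₂ : Triangle (DCoh.D Z)) (hT₂ : T₂ ∈ distTriang (DCoh.D Z)) {N : Z.Modules} (e : T₂.obj₃ ≅ S n N)
    (a : S n T.X₁ ⟶ T₂.obj₁) (b : S n T.X₂ ⟶ T₂.obj₂) (c : S n T.X₃ ⟶ T₂.obj₃)
    (h₁ : mapS n T.f ≫ b = a ≫ T₂.mor₁) (h₂ : mapS n T.g ≫ c = b ≫ T₂.mor₂) :
    δ ≫ a⟦(1 : ℤ)⟧' = c ≫ T₂.mor₃ := by
  obtain ⟨c'', hc₂', hc₃'⟩ := complete_distinguished_triangle_morphism _ T₂ hT hT₂ a b h₁
  let c' : S n T.X₃ ⟶ T₂.obj₃ := c''
  have hc₂ : mapS n T.g ≫ c' = b ≫ T₂.mor₂ := hc₂'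
  have hc₃ : δ ≫ a⟦(1 : ℤ)⟧' = c' ≫ T₂.mor₃ := hc₃'
  have h0 : mapS n T.g ≫ (c - c') = 0 := by
    rw [Preadditive.comp_sub, h₂]
    exact sub_eq_zero.2 hc₂.symm
  obtain ⟨w, hw⟩ := Triangle.yoneda_exact₃ _ hT (c - c') h0
  have hcc : c - c' = 0 := by
    rw [hw, shift_single_eq_zero n e w]
    exact comp_zero
  rw [sub_eq_zero.1 hcc]
  exact hc₃

/-- five lemma for test data in a short exact sequence -/
theorem bijective_Ψ_ses [Module.Flat A B] {m₁ m₂ m₃ : MObj p A B} (u : MMor m₁ m₂) (v : MMor m₂ m₃)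
    (w : u.f ≫ v.f = 0) (w' : u.f' ≫ v.f' = 0) (hT : (ShortComplex.mk u.f v.f w).ShortExact)
    (hT' : (ShortComplex.mk u.f' v.f' w').ShortExact) (n : ℤ) (E : DCoh.D X)
    (h₁ : ∀ E' : DCoh.D X, (E' = E ∨ E' = E⟦(-1 : ℤ)⟧) → Function.Bijective (Ψ (m₁.obj n) E'))
    (h₂ : ∀ E' : DCoh.D X, (E' = E ∨ E' = E⟦(-1 : ℤ)⟧) → Function.Bijective (Ψ (m₂.obj n) E')) :
    Function.Bijective (Ψ (m₃.obj n) E) := by
  obtain ⟨δ, hδ⟩ := sesTriangle hT n
  obtain ⟨δ', hδ'⟩ := sesTriangle hT' n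
  let m : Mor (m₃.obj n) (m₁.obj n).sh :=
    { f := δ
      f' := δ'
      equiv := fun a => by
        refine (connecting_natural n hδ (Triangle.mk (mapS n u.f) (mapS n v.f) δ) hδ (Iso.refl (S n m₃.M))
          (mapS n ((m₁.r a).unop : m₁.M ⟶ m₁.M)) (mapS n ((m₂.r a).unop : m₂.M ⟶ m₂.M))
          (mapS n ((m₃.r a).unop : m₃.M ⟶ m₃.M)) ?_ ?_).symm
        · exact ((u.mor n).equiv a).symm
        · exact ((v.mor n).equiv a).symm
      comm := fun b => by
        have key := connecting_natural n hδ' ((pullD p).mapTriangle.obj (Triangle.mk (mapS n u.f) (mapS n v.f) δ))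
          ((pullD p).map_distinguished _ hδ) (mapSIso (Scheme.Modules.pullback p) n m₃.M)
          ((m₁.obj n).γ b) ((m₂.obj n).γ b) ((m₃.obj n).γ b) ((u.mor n).comm b).symm ((v.mor n).comm b).symm
        change (m₃.obj n).γ b ≫ (pullD p).map δ = δ' ≫ ((m₁.obj n).γ b)⟦(1 : ℤ)⟧' ≫ _
        rw [← Category.assoc, key]
        change _ = ((m₃.obj n).γ b ≫ (pullD p).map δ ≫ ((pullD p).commShiftIso (1 : ℤ)).hom.app _) ≫ _
        simp only [Category.assoc]
        erw [Iso.hom_inv_id_app]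
        exact congrArg (_ ≫ ·) (Category.comp_id _).symm }
  exact bijective_Ψ_triangle (u.mor n) (v.mor n) m hδ hδ' E (h₁ E (Or.inl rfl)) (h₂ E (Or.inl rfl))
    (bijective_Ψ_sh _ E (h₁ _ (Or.inr rfl))) (bijective_Ψ_sh _ E (h₂ _ (Or.inr rfl)))

end

end Groth.Agent.CohBase.FlatBC.D
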