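import Groth.Agent.CohBase.FlatBC.DHom
import Groth.Agent.CohAff.ResQcqs

/-!
# `Hom(O_{f⁻¹V}[-n], E) ⊗ B = Hom(O_{q⁻¹V'}[-n], p^* E)` for flat base change
-/

set_option autoImplicit false
set_option backward.isDefEq.respectTransparency false
set_option backward.isDefEq.respectTransparency.types false
set_option linter.style.haveILetI false

universe u

open CategoryTheory CategoryTheory.Limits AlgebraicGeometry TopologicalSpace DerivedCategory Pretriangulated
open Groth.Agent.KFlat.QCohAcy (free)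
open Groth.Agent.CohDerLib.QC (freeMap mv shortExact_mv)
open scoped TensorProduct

attribute [local instance] HasDerivedCategory.standard

namespace Groth.Agent.CohBase.FlatBC.D

noncomputable section

local notation "rr" => Groth.Agent.QCoh.rres

variable {X B₀ X' B₁ : Scheme.{u}} (f : X ⟶ B₀) (g : B₁ ⟶ B₀) (p : X' ⟶ X) (q : X' ⟶ B₁) [Flat p]
  (w : p ≫ f = q ≫ g) {V : B₀.Opens} {V' : B₁.Opens} (hT : V' ≤ g ⁻¹ᵁ V)

/-- the algebra `Γ(V) → Γ(V')` -/
abbrev alg : Algebra Γ(B₀, V) Γ(B₁, V') := (g.appLE V V' hT).hom.toAlgebra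

/-- the test data of an open `W` of `X` -/
def freeM {W : X.Opens} {W' : X'.Opens} (hW : W ≤ f ⁻¹ᵁ V) (h₁ : W' ≤ p ⁻¹ᵁ W) (h₂ : W' ≤ q ⁻¹ᵁ V') :
    letI := alg g hT
    MObj p Γ(B₀, V) Γ(B₁, V') :=
  letI := alg g hT
  { M := free W
    M' := free W'
    r := (smulHom W).comp (f.appLE V W hW).hom
    g := AddMonoidHom.mk' (fun b => gB p h₁ (q.appLE V' W' h₂ b)) fun b b' => by rw [map_add, gB_add]
    bal := fun a b => by
      change gB p h₁ (q.appLE V' W' h₂ (g.appLE V V' hT a * b)) =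
        gB p h₁ (q.appLE V' W' h₂ b) ≫ (Scheme.Modules.pullback p).map (smulFree (f.appLE V W hW a))
      rw [gB_smulFree, map_mul]
      refine congrArg (fun r => gB p h₁ (r * _)) ?_
      rw [← CommRingCat.comp_apply, ← CommRingCat.comp_apply, Scheme.Hom.appLE_comp_appLE,
        Scheme.Hom.appLE_comp_appLE]
      simp only [w] }

/-- inclusion of opens -/
def freeMor {W U : X.Opens} {W' U' : X'.Opens} (hWU : W ≤ U) (h' : W' ≤ U') (hU : U ≤ f ⁻¹ᵁ V)
    (hW : W ≤ f ⁻¹ᵁ V) (h₁ : W' ≤ p ⁻¹ᵁ W) (h₂ : W' ≤ q ⁻¹ᵁ V') (k₁ : U' ≤ p ⁻¹ᵁ U) (k₂ : U' ≤ q ⁻¹ᵁ V') :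
    letI := alg g hT
    MMor (freeM f g p q w hT hW h₁ h₂) (freeM f g p q w hT hU k₁ k₂) :=
  letI := alg g hT
  { f := freeMap hWU
    f' := freeMap h'
    equiv := fun a => by
      change smulFree (f.appLE V W hW a) ≫ freeMap hWU = freeMap hWU ≫ smulFree (f.appLE V U hU a)
      rw [← smulFree_freeMap]
      congr 2
      exact (ConcreteCategory.congr_hom (f.appLE_map hU (homOfLE hWU).op) a).symm
    comm := fun b => by
      change gB p h₁ (q.appLE V' W' h₂ b) ≫ (Scheme.Modules.pullback p).map (freeMap hWU) =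
        freeMap h' ≫ gB p k₁ (q.appLE V' U' k₂ b)
      rw [freeMap_gB p hWU h₁ k₁ h']
      congr 2
      exact (ConcreteCategory.congr_hom (q.appLE_map k₂ (homOfLE h').op) b).symm }

variable {f g p q}

/-- cohomology computes maps out of free modules on affine opens -/
theorem φH_bijective {Z : Scheme.{u}} {W : Z.Opens} (hW : IsAffineOpen W) (E : DCoh.D Z) (hE : DCoh.IsQCohD E)
    (n : ℤ) : Function.Bijective (φH n (free W) E) := by
  rw [φH_bijective_iff]
  have : HasProduct (KFlat.DerivedLimit.tw E) := KFlat.Products.hasProduct _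
  exact KFlat.DerivedLimit.Φ_bijective (P₀ := fun U : Z.affineOpens => free U.1)
    (fun k hk => KFlat.QCohAcy.eq_zero_of_free_comp k hk)
    (fun U j => KFlat.QCohAcy.acy_free U.2 (KFlat.QCohAcy.good_of_qcoh _ (hE j)))
    (fun j => KFlat.QCohAcy.acy_free hW (KFlat.QCohAcy.good_of_qcoh _ (hE j))) n

lemma isQCohD_pullD {E : DCoh.D X} (hE : DCoh.IsQCohD E) : DCoh.IsQCohD ((pullD p).obj E) := fun i => by
  have : (DCoh.HD E i).IsQuasicoherent := hE i
  exact CohDerLib.QC.qcoh_iso ((KFlat.MapHomology.iso (Scheme.Modules.pullback p) i).app E).symm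
    (inferInstanceAs ((Scheme.Modules.pullback p).obj (DCoh.HD E i)).IsQuasicoherent)

variable (H : IsPullback p q f g)

include H in
/-- the affine case -/
theorem bijective_Ψ_affine (hV : IsAffineOpen V) (hV' : IsAffineOpen V') {W : X.Opens} (hW : W ≤ f ⁻¹ᵁ V)
    (hWaff : IsAffineOpen W) (E : DCoh.D X) (hE : DCoh.IsQCohD E) (n : ℤ) :
    letI := alg g hT
    Function.Bijective (Ψ ((freeM f g p q H.w hT hW (inf_le_left : LFDesc.over p q V' W ≤ _) inf_le_right).obj n) E) := by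
  letI := alg g hT
  let W' := LFDesc.over p q V' W
  let O := (freeM f g p q H.w hT hW (inf_le_left : W' ≤ _) inf_le_right).obj n
  let M := DCoh.HD E n
  have : M.IsQuasicoherent := hE n
  have hW' : IsAffineOpen W' := by
    haveI : IsAffine _ := hV
    haveI : IsAffine _ := hV'
    haveI : IsAffine _ := hWaff
    exact .of_isIso (Scheme.Hom.isPullback_resLE H hT hW rfl).isoPullback.hom
  let θ₀ : (S n (free W) ⟶ E) → Γ(M, W) := fun k => (φH n (free W) E k).app W (gen W)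
  have hθ₀ : Function.Bijective θ₀ := by
    have h : θ₀ = CohDerLib.QC.sec W M ∘ φH n (free W) E := funext fun k => (sec_eq _).symm
    rw [h]
    exact (Equiv.bijective _).comp (φH_bijective hWaff E hE n)
  let θ : Hm O E →ₗ[Γ(B₀, V)] LFDesc.Sec f M hW :=
    { toFun := θ₀
      map_add' := fun k k' => by
        change ((φH n (free W) E) ((k : S n (free W) ⟶ E) + k')).app W (gen W) = _
        rw [φH_add, Scheme.Modules.Hom.add_app, AddCommGrpCat.hom_add_apply]
      map_smul' := fun a k => by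
        change ((φH n (free W) E) (mapS n (smulFree (f.appLE V W hW a)) ≫ (k : S n (free W) ⟶ E))).app W (gen W) = _
        rw [φH_map, smulFree_comp_gen]
        rfl }
  let e := LinearEquiv.ofBijective θ hθ₀
  let i := (KFlat.MapHomology.iso (Scheme.Modules.pullback p) n).app E
  let ev : (S n (free W') ⟶ (pullD p).obj E) → Γ((Scheme.Modules.pullback p).obj M, W') := fun y =>
    (φH n (free W') _ y ≫ i.hom).app W' (gen W')
  have hev : Function.Bijective ev := by
    have h : ev = CohDerLib.QC.sec W' _ ∘ i.homToEquiv ∘ φH n (free W') _ := funext fun k => (sec_eq _).symm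
    rw [h]
    exact (Equiv.bijective _).comp ((Equiv.bijective _).comp (φH_bijective hW' _ (isQCohD_pullD hE) n))
  have hl : Function.Bijective (LinearMap.lTensor Γ(B₁, V') θ) := (LinearEquiv.lTensor Γ(B₁, V') e).bijective
  have key : ∀ t, ev (Ψ O E t) = LFDesc.Φ f g p q M hT H.w hW (LinearMap.lTensor Γ(B₁, V') θ t) := fun t => by
    induction t using TensorProduct.induction_on with
    | zero =>
      simp only [map_zero, ev, φH, Functor.map_zero, comp_zero, zero_comp]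
      rfl
    | add x y hx hy =>
      rw [map_add, map_add, map_add, ← hx, ← hy]
      change (φH n (free W') _ (Ψ O E x + Ψ O E y) ≫ i.hom).app W' (gen W') = _
      erw [φH_add, Preadditive.add_comp, Scheme.Modules.Hom.add_app, AddCommGrpCat.hom_add_apply]
    | tmul b k =>
      change (φH n (free W') _ ((mapS n (gB p inf_le_left (q.appLE V' W' inf_le_right b)) ≫
          (mapSIso (Scheme.Modules.pullback p) n (free W)).inv) ≫ (pullD p).map (k : S n (free W) ⟶ E)) ≫ i.hom).app W'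
            (gen W') = q.appLE V' W' inf_le_right b • LimTop.unitSec p M inf_le_left (θ₀ k)
      rw [Category.assoc, φH_mapSIso, Category.assoc, Category.assoc]
      erw [Iso.inv_hom_id_app, Category.comp_id]
      exact gB_comp_gen p _ _ _
  have hΦ := LFDesc.Φ_bijective_of_isAffineOpen f g p q M hT H hV hV' hW hWaff
  refine (Function.Bijective.of_comp_iff' hev (Ψ O E)).1 ?_
  rw [show ev ∘ (Ψ O E) = (LFDesc.Φ f g p q M hT H.w hW) ∘ (LinearMap.lTensor Γ(B₁, V') θ) from funext key]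
  exact hΦ.comp hl

include H in
/-- flat base change of morphism groups out of free modules on quasi-compact opens -/
theorem bijective_Ψ_free [Flat g] (hV : IsAffineOpen V) (hV' : IsAffineOpen V')
    (hqs : IsQuasiSeparated ((f ⁻¹ᵁ V : X.Opens) : Set X)) {W : X.Opens} (hW : W ≤ f ⁻¹ᵁ V)
    (hc : IsCompact (W : Set X)) :
    letI := alg g hT
    ∀ (W' : X'.Opens) (h₁ : W' ≤ p ⁻¹ᵁ W) (h₂ : W' ≤ q ⁻¹ᵁ V'), W' = LFDesc.over p q V' W →
      ∀ (n : ℤ) (E : DCoh.D X), DCoh.IsQCohD E →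
        Function.Bijective (Ψ ((freeM f g p q H.w hT hW h₁ h₂).obj n) E) := by
  letI := alg g hT
  haveI : Module.Flat Γ(B₀, V) Γ(B₁, V') :=
    RingHom.flat_algebraMap_iff.1 (HasRingHomProperty.appLE @Flat g inferInstance ⟨V, hV⟩ ⟨V', hV'⟩ hT)
  refine Groth.Agent.CohAff.compact_le_induction hqs (fun W hW => ∀ (W' : X'.Opens) (h₁ : W' ≤ p ⁻¹ᵁ W)
    (h₂ : W' ≤ q ⁻¹ᵁ V'), W' = LFDesc.over p q V' W → ∀ (n : ℤ) (E : DCoh.D X), DCoh.IsQCohD E →
      Function.Bijective (Ψ ((freeM f g p q H.w hT hW h₁ h₂).obj n) E)) ?_ ?_ W hW hc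
  · intro A hA hAaff W' h₁ h₂ e n E hE
    subst e
    exact bijective_Ψ_affine hT H hV hV' hA hAaff E hE n
  · intro U₁ U₂ h _ _ P₁ P₂ P₁₂ W' h₁ h₂ e n E hE
    let U₁' := LFDesc.over p q V' U₁
    let U₂' := LFDesc.over p q V' U₂
    obtain rfl : W' = U₁' ⊔ U₂' := e.trans (inf_sup_right (p ⁻¹ᵁ U₁) (p ⁻¹ᵁ U₂) (q ⁻¹ᵁ V'))
    let m₁ := freeM f g p q H.w hT (le_sup_left.trans h) (inf_le_left : U₁' ≤ p ⁻¹ᵁ U₁) inf_le_right
    let m₂ := freeM f g p q H.w hT (le_sup_right.trans h) (inf_le_left : U₂' ≤ p ⁻¹ᵁ U₂) inf_le_right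
    let m₀ := freeM f g p q H.w hT (inf_le_left.trans (le_sup_left.trans h) : U₁ ⊓ U₂ ≤ _)
      (le_inf (inf_le_left.trans inf_le_left) (inf_le_right.trans inf_le_left) : U₁' ⊓ U₂' ≤ p ⁻¹ᵁ (U₁ ⊓ U₂))
      (inf_le_left.trans inf_le_right)
    let m₃ := freeM f g p q H.w hT h h₁ h₂
    let a₁ : MMor m₀ m₁ := freeMor f g p q H.w hT inf_le_left inf_le_left _ _ _ _ _ _
    let a₂ : MMor m₀ m₂ := freeMor f g p q H.w hT inf_le_right inf_le_right _ _ _ _ _ _
    let b₁ : MMor m₁ m₃ := freeMor f g p q H.w hT le_sup_left le_sup_left _ _ _ _ _ _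
    let b₂ : MMor m₂ m₃ := freeMor f g p q H.w hT le_sup_right le_sup_right _ _ _ _ _ _
    let u : MMor m₀ (m₁.sum m₂) :=
      { f := (mv U₁ U₂).f
        f' := (mv U₁' U₂').f
        equiv := fun a => by
          change _ ≫ (a₁.f ≫ biprod.inl (X := m₁.M) (Y := m₂.M) - a₂.f ≫ biprod.inr (X := m₁.M) (Y := m₂.M)) = (a₁.f ≫ biprod.inl (X := m₁.M) (Y := m₂.M) - a₂.f ≫ biprod.inr (X := m₁.M) (Y := m₂.M)) ≫ _
          rw [Preadditive.comp_sub, Preadditive.sub_comp, reassoc_of% a₁.equiv a, reassoc_of% a₂.equiv a]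
          simp [MObj.sum]
        comm := fun b => by
          change m₀.g b ≫ (Scheme.Modules.pullback p).map (a₁.f ≫ biprod.inl (X := m₁.M) (Y := m₂.M) - a₂.f ≫ biprod.inr (X := m₁.M) (Y := m₂.M)) =
            (a₁.f' ≫ biprod.inl (X := m₁.M') (Y := m₂.M') - a₂.f' ≫ biprod.inr (X := m₁.M') (Y := m₂.M')) ≫ (m₁.sum m₂).g b
          rw [Functor.map_sub, Preadditive.comp_sub, Preadditive.sub_comp, Functor.map_comp, Functor.map_comp,
            reassoc_of% a₁.comm b, reassoc_of% a₂.comm b]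
          simp [MObj.sum] }
    let v : MMor (m₁.sum m₂) m₃ :=
      { f := (mv U₁ U₂).g
        f' := (mv U₁' U₂').g
        equiv := fun a => by
          change _ ≫ biprod.desc b₁.f b₂.f = biprod.desc b₁.f b₂.f ≫ _
          refine biprod.hom_ext' _ _ ?_ ?_ <;> simp [MObj.sum, b₁.equiv, b₂.equiv]
        comm := fun b => by
          change (m₁.sum m₂).g b ≫ (Scheme.Modules.pullback p).map (biprod.desc b₁.f b₂.f) =
            biprod.desc b₁.f' b₂.f' ≫ m₃.g b
          refine biprod.hom_ext' _ _ ?_ ?_ <;> simp [MObj.sum, ← Functor.map_comp, b₁.comm, b₂.comm] }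
    have hq₀ : U₁' ⊓ U₂' = LFDesc.over p q V' (U₁ ⊓ U₂) := (inf_inf_distrib_right (p ⁻¹ᵁ U₁) (p ⁻¹ᵁ U₂) (q ⁻¹ᵁ V')).symm
    refine bijective_Ψ_ses u v (mv U₁ U₂).zero (mv U₁' U₂').zero (shortExact_mv U₁ U₂) (shortExact_mv U₁' U₂') n E
      (fun E' hE' => P₁₂ _ _ _ hq₀ n E' ?_) fun E' hE' => bijective_Ψ_mobj_sum m₁ m₂ n E'
        (P₁ _ _ _ rfl n E' ?_) (P₂ _ _ _ rfl n E' ?_)
    all_goals
      rcases hE' with rfl | rfl
      · exact hE
      · exact CohDerLib.QC.isQCohD_shift hE _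

end

end Groth.Agent.CohBase.FlatBC.D
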