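import Groth.Agent.CohBase.FlatBC.LiftBij

/-!
# Base change by a flat family of lifts
-/

universe u

open CategoryTheory CategoryTheory.Limits AlgebraicGeometry TopologicalSpace Opposite
open scoped TensorProduct

namespace Groth.Agent.CohBase.FlatBC

open Groth.Agent.CohAff (FRes)

noncomputable section

variable {X X' : Scheme.{u}} (p : X' ⟶ X) [IsAffineHom p] {A B : Type u} [CommRing A] [CommRing B] [Algebra A B]
  (ρ : A →+* Γ(X, ⊤)) (ρ' : B →+* Γ(X', ⊤))
  {R : FRes X} {R' : FRes X'} [(R'.Z 0).IsQuasicoherent] [(R.Z 0).IsQuasicoherent]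
  {P : Type u} [AddCommGroup P] [Module A P] [Module.Flat A P]

/-- the comparison of a flat family of lifts, on classes -/
theorem exists_famMap [CompactSpace X] [QuasiSeparatedSpace X] (φ : P → Lift R (R'.pushAff p))
    (β : P →+ (R.Z 0 ⟶ (Scheme.Modules.pushforward p).obj (R'.Z 0))) (hφ : ∀ b, (φ b).φ 0 = β b)
    (hlin : IsLinear ρ β)
    (h0 : ∀ W : X.Opens, IsAffineOpen W → Function.Bijective (TensorProduct.lift (ev ρ β hlin W)))
    (n : ℕ) :
    ∃ F : P ⊗[A] H ρ R n ⊤ →+ H ρ' R' n ⊤, Function.Bijective F ∧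
      ∀ b x, F (b ⊗ₜ x) = upH p ρ ρ' n (liftH ρ (φ b) n ⊤ x) := by
  let N := (Scheme.Modules.pushforward p).obj (R'.Z 0)
  let S := FRes.ofMod N
  have hJ : ∀ k, Injective (S.J k) := injective_ofMod_J _
  have : (S.Z 0).IsQuasicoherent := QCoh.isQuasicoherent_pushforward p (R'.Z 0)
  let β' : P →+ (R.Z 0 ⟶ S.Z 0) := β
  have hlin' : IsLinear ρ β' := hlin
  have hcomp : Function.Bijective (comp ρ hJ β' hlin' n ⊤) :=
    comp_bijective ρ hJ β' hlin' h0 ⊤ isCompact_univ n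
  let a : Lift (R'.pushAff p) S := Lift.mk' (R := R'.pushAff p) (R' := S) (𝟙 N) hJ
  have : IsIso (a.φ 0) := inferInstanceAs (IsIso (𝟙 N))
  let ea := LinearEquiv.ofBijective _ (liftH_bijective ρ a n ⊤)
  refine ⟨(upH p ρ ρ' n).comp (ea.symm.toLinearMap.toAddMonoidHom.comp (comp ρ hJ β' hlin' n ⊤).toAddMonoidHom),
    (upH_bijective p ρ ρ' n).comp (ea.symm.bijective.comp hcomp), fun b x => ?_⟩
  refine congrArg (upH p ρ ρ' n) ?_
  change ea.symm (liftH ρ (Lift.mk' (β' b) hJ) n ⊤ x) = _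
  rw [LinearEquiv.symm_apply_eq]
  change _ = liftH ρ a n ⊤ (liftH ρ (φ b) n ⊤ x)
  rw [← liftH_trans]
  exact LinearMap.congr_fun (liftH_congr ρ hJ _ _
    ((hφ b).symm.trans (Category.comp_id _).symm) n ⊤) x

end

end Groth.Agent.CohBase.FlatBC
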