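import Groth.Agent.CohBase.FlatBC.Square
import Mathlib.RingTheory.Finiteness.Projective

/-!
# Base change by a finite projective module, without finiteness hypotheses on the scheme
-/

universe u

open CategoryTheory CategoryTheory.Limits AlgebraicGeometry TopologicalSpace Opposite
open scoped TensorProduct

namespace Groth.Agent.CohBase.FlatBC

open Groth.Agent.CohAff (FRes)

local notation "rs" => Groth.Agent.QCoh.res
local notation "rr" => Groth.Agent.QCoh.rres

noncomputable section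

variable {X : Scheme.{u}} {A : Type u} [CommRing A] (ρ : A →+* Γ(X, ⊤))

lemma hom_ext_affine {M N : X.Modules} (a b : M ⟶ N)
    (h : ∀ W : X.Opens, IsAffineOpen W → ∀ z, a.app W z = b.app W z) : a = b := by
  refine Scheme.Modules.hom_ext _ _ fun V => ?_
  ext z
  have hcov : V ≤ ⨆ W : {W : X.Opens // IsAffineOpen W ∧ W ≤ V}, W.1 := fun v hv => by
    obtain ⟨W, hW, hvW, hWV⟩ := exists_isAffineOpen_mem_and_subset (U := V) (x := v) hv
    exact Opens.mem_iSup.2 ⟨⟨W, hW, hWV⟩, hvW⟩
  refine QCoh.eq_of_locally_eq N (fun W : {W : X.Opens // IsAffineOpen W ∧ W ≤ V} ↦ W.2.2) hcov _ _ fun W ↦ ?_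
  rw [← QCoh.app_res, ← QCoh.app_res, h W.1 W.2.1]

section Retract

variable {P : Type u} [AddCommGroup P] [Module A P] {M N : X.Modules} (β : P →+ (M ⟶ N)) (hβ : IsLinear ρ β)

theorem exists_dual_family [Module.Finite A P] [Module.Projective A P]
    (h0 : ∀ W : X.Opens, IsAffineOpen W → Function.Bijective (TensorProduct.lift (ev ρ β hβ W))) :
    ∃ (r : ℕ) (b : Fin r → P) (f : Fin r → P →ₗ[A] A) (γ : Fin r → (N ⟶ M)),
      (∀ x, ∑ i, f i x • b i = x) ∧ (∀ x i, β x ≫ γ i = smulEnd M (ρ (f i x))) ∧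
        ∑ i, γ i ≫ β (b i) = 𝟙 N := by
  obtain ⟨r, π, s, -, -, hπs⟩ := Module.Finite.exists_comp_eq_id_of_projective A P
  let b : Fin r → P := fun i => π (Pi.single i 1)
  let f : Fin r → P →ₗ[A] A := fun i => (LinearMap.proj i).comp s
  have hsum : ∀ x, ∑ i, f i x • b i = x := fun x => by
    conv_rhs => rw [← LinearMap.id_apply (R := A) x, ← hπs, LinearMap.comp_apply, pi_eq_sum_univ' (s x), map_sum]
    exact Finset.sum_congr rfl fun i _ => (map_smul π _ _).symm
  haveI : HasFiniteBiproducts X.Modules := Abelian.hasFiniteBiproducts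
  let Φ : (⨁ fun _ : Fin r => M) ⟶ N := biproduct.desc fun i => β (b i)
  let e : (⨁ fun _ : Fin r => M) ⟶ ⨁ fun _ : Fin r => M :=
    biproduct.desc fun i => biproduct.lift fun j => smulEnd M (ρ (f j (b i)))
  have hβsum : ∀ x, β x = ∑ j, smulEnd M (ρ (f j x)) ≫ β (b j) := fun x => by
    conv_lhs => rw [← hsum x, map_sum]
    exact Finset.sum_congr rfl fun j _ => hβ _ _
  have heΦ : e ≫ Φ = Φ := by
    refine biproduct.hom_ext' _ _ fun i => ?_
    simp only [e, Φ, biproduct.ι_desc_assoc, biproduct.ι_desc, biproduct.lift_desc]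
    exact (hβsum (b i)).symm
  have hΦ : Epi Φ := ⟨fun {T} a c hac => hom_ext_affine _ _ fun W hW z => by
    let a₀ : Sc ρ N W →+ Γ(T, W) := (a.app W).hom
    let c₀ : Sc ρ N W →+ Γ(T, W) := (c.app W).hom
    change a₀ z = c₀ z
    obtain ⟨t, rfl⟩ : ∃ t, TensorProduct.lift (ev ρ β hβ W) t = z := (h0 W hW).2 z
    induction t using TensorProduct.induction_on with
    | zero => simp
    | add x y hx hy =>
      rw [map_add, map_add, map_add, hx, hy]
    | tmul x m =>
      have h1 : β x = (∑ j, smulEnd M (ρ (f j x)) ≫ biproduct.ι (fun _ : Fin r => M) j) ≫ Φ := by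
        rw [Preadditive.sum_comp, hβsum x]
        exact Finset.sum_congr rfl fun j _ => by simp [Φ]
      change (β x ≫ a).app W (show Γ(M, W) from m) = (β x ≫ c).app W (show Γ(M, W) from m)
      rw [h1, Category.assoc, Category.assoc, hac]⟩
  have hker : kernel.ι Φ ≫ e = 0 := hom_ext_affine _ _ fun W hW k => by
    let x := (kernel.ι Φ).app W k
    have hx : Φ.app W x = 0 := by
      change (kernel.ι Φ ≫ Φ).app W k = 0
      rw [kernel.condition]
      rfl
    have htot : ∀ (T : X.Modules) (g : (⨁ fun _ : Fin r => M) ⟶ T), g.app W x =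
        ∑ i, (biproduct.ι (fun _ : Fin r => M) i ≫ g).app W ((biproduct.π (fun _ : Fin r => M) i).app W x) := by
      intro T g
      have h : g = ∑ i, biproduct.π (fun _ : Fin r => M) i ≫ biproduct.ι (fun _ : Fin r => M) i ≫ g := by
        simp only [← Category.assoc, ← Preadditive.sum_comp, biproduct.total, Category.id_comp]
      conv_lhs => rw [h]
      let ev : ((⨁ fun _ : Fin r => M) ⟶ T) →+ Γ(T, W) :=
        AddMonoidHom.mk' (fun φ => φ.app W x) fun _ _ => rfl
      exact map_sum ev _ _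
    let xi : Fin r → Sc ρ M W := fun i => (biproduct.π (fun _ : Fin r => M) i).app W x
    have hT : TensorProduct.lift (ev ρ β hβ W) (∑ i, b i ⊗ₜ xi i) = 0 := by
      rw [map_sum]
      refine Eq.trans ?_ hx
      rw [htot N Φ]
      exact Finset.sum_congr rfl fun i _ => by rw [biproduct.ι_desc]; rfl
    have h0' : ∑ i, b i ⊗ₜ[A] xi i = 0 := (h0 W hW).1 (hT.trans (map_zero _).symm)
    have hj : ∀ j, ∑ i, f j (b i) • xi i = 0 := fun j => by
      have := congrArg (TensorProduct.lift ((LinearMap.lsmul A (Sc ρ M W)).comp (f j))) h0'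
      rw [map_sum, map_zero] at this
      exact this
    change e.app W x = 0
    have key : ∀ (w : Γ(⨁ fun _ : Fin r => M, W)),
        (∀ j, (biproduct.π (fun _ : Fin r => M) j).app W w = 0) → w = 0 := fun w hw => by
      let ev : ((⨁ fun _ : Fin r => M) ⟶ ⨁ fun _ : Fin r => M) →+ Γ(⨁ fun _ : Fin r => M, W) :=
        AddMonoidHom.mk' (fun φ => φ.app W w) fun _ _ => rfl
      change ev (𝟙 _) = 0
      rw [← biproduct.total, map_sum]
      refine Finset.sum_eq_zero fun i _ => ?_
      change (biproduct.ι (fun _ : Fin r => M) i).app W ((biproduct.π (fun _ : Fin r => M) i).app W w) = 0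
      rw [hw, map_zero]
    refine key _ fun j => ?_
    change (e ≫ biproduct.π (fun _ : Fin r => M) j).app W x = 0
    rw [htot M]
    refine Eq.trans (Finset.sum_congr rfl fun i _ => ?_) (hj j)
    simp only [e, biproduct.ι_desc_assoc, biproduct.lift_π]
    rfl
  let s' : N ⟶ ⨁ fun _ : Fin r => M := Abelian.epiDesc Φ e hker
  have hs : Φ ≫ s' = e := Abelian.comp_epiDesc _ _ _
  refine ⟨r, b, f, fun j => s' ≫ biproduct.π (fun _ : Fin r => M) j, hsum, fun x j => ?_, ?_⟩
  · have h1 : ∀ i, β (b i) ≫ s' ≫ biproduct.π (fun _ : Fin r => M) j = smulEnd M (ρ (f j (b i))) := fun i => by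
      rw [show β (b i) = biproduct.ι (fun _ : Fin r => M) i ≫ Φ by simp [Φ], Category.assoc, reassoc_of% hs]
      simp [e]
    rw [hβsum x, Preadditive.sum_comp]
    simp only [Category.assoc, h1, ← smulEnd_mul, ← map_mul]
    let ν : A →+ (M ⟶ M) := AddMonoidHom.mk' (fun a => smulEnd M (ρ a)) fun a c => by rw [map_add, smulEnd_add]
    change ∑ i, ν _ = ν _
    rw [← map_sum]
    refine congrArg ν ?_
    conv_rhs => rw [← hsum x, map_sum]
    exact Finset.sum_congr rfl fun i _ => by rw [map_smul, smul_eq_mul, mul_comm]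
  · rw [← cancel_epi Φ, Preadditive.comp_sum, Category.comp_id]
    simp only [Category.assoc]
    simp only [reassoc_of% hs]
    rw [← Preadditive.comp_sum]
    conv_rhs => rw [← heΦ]
    refine congrArg (e ≫ ·) ?_
    simp [Φ, biproduct.desc_eq]

end Retract

variable {R R' : FRes X}

lemma liftH_smul (hJ : ∀ n, Injective (R.J n)) (a : A) (n : ℕ) (W : X.Opens) (x : H ρ R n W) :
    liftH ρ (Lift.mk' (smulEnd (R.Z 0) (ρ a)) hJ) n W x = a • x := by
  let τ : Lift R R :=
    { φ := fun k => smulEnd (R.Z k) (ρ a)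
      ψ := fun k => smulEnd (R.J k) (ρ a)
      ι_comm := fun k => (smulEnd_comp (R.ι k) _).symm
      p_comm := fun k => (smulEnd_comp (R.p k) _).symm }
  rw [LinearMap.congr_fun (liftH_congr ρ hJ (Lift.mk' (smulEnd (R.Z 0) (ρ a)) hJ) τ rfl n W) x]
  obtain ⟨z, rfl⟩ := cl_surjective ρ R n W x
  rw [liftH_cl, ← cl_smul]
  rfl

/-- the action on classes, additive in the morphism -/
def liftHom (hJ : ∀ n, Injective (R'.J n)) (n : ℕ) (W : X.Opens) :
    (R.Z 0 ⟶ R'.Z 0) →+ (H ρ R n W →ₗ[A] H ρ R' n W) :=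
  AddMonoidHom.mk' (fun g => liftH ρ (Lift.mk' g hJ) n W) fun g g' => by
    rw [liftH_congr ρ hJ (Lift.mk' (g + g') hJ) (Lift.mk' g hJ + Lift.mk' g' hJ)
      (by rw [Lift.add_φ, Lift.mk'_φ_zero, Lift.mk'_φ_zero, Lift.mk'_φ_zero]) n W]
    refine LinearMap.ext fun x => ?_
    obtain ⟨z, rfl⟩ := cl_surjective ρ R n W x
    rw [LinearMap.add_apply, liftH_cl, liftH_cl, liftH_cl, Lift.add_φ, ← map_add]
    rfl

theorem comp_bijective_of_finite_projective {P : Type u} [AddCommGroup P] [Module A P]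
    [Module.Finite A P] [Module.Projective A P] (hJR : ∀ n, Injective (R.J n)) (hJ : ∀ n, Injective (R'.J n))
    (β : P →+ (R.Z 0 ⟶ R'.Z 0)) (hβ : IsLinear ρ β)
    (h0 : ∀ W : X.Opens, IsAffineOpen W → Function.Bijective (TensorProduct.lift (ev ρ β hβ W)))
    (n : ℕ) (W : X.Opens) : Function.Bijective (comp ρ hJ β hβ n W) := by
  obtain ⟨r, b, f, γ, hsum, hγ, hid⟩ := exists_dual_family ρ β hβ h0
  let Ψ : H ρ R' n W →+ P ⊗[A] H ρ R n W :=
    AddMonoidHom.mk' (fun y => ∑ j, b j ⊗ₜ liftHom ρ hJR n W (γ j) y) fun y y' => by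
      simp only [map_add, TensorProduct.tmul_add, Finset.sum_add_distrib]
  refine Function.bijective_iff_has_inverse.2 ⟨Ψ, fun t => ?_, fun y => ?_⟩
  · induction t using TensorProduct.induction_on with
    | zero => simp
    | add t t' h h' => rw [map_add, map_add, h, h']
    | tmul x c =>
      change ∑ j, b j ⊗ₜ liftH ρ (Lift.mk' (γ j) hJR) n W (liftH ρ (Lift.mk' (β x) hJ) n W c) = x ⊗ₜ c
      conv_rhs => rw [← hsum x, TensorProduct.sum_tmul]
      refine Finset.sum_congr rfl fun j _ => ?_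
      rw [← liftH_trans, TensorProduct.smul_tmul, ← liftH_smul ρ hJR]
      exact congrArg (b j ⊗ₜ ·) (LinearMap.congr_fun (liftH_congr ρ hJR _ _ (hγ x j) n W) c)
  · change comp ρ hJ β hβ n W (∑ j, b j ⊗ₜ liftH ρ (Lift.mk' (γ j) hJR) n W y) = y
    rw [map_sum]
    have h1 : ∀ j, comp ρ hJ β hβ n W (b j ⊗ₜ liftH ρ (Lift.mk' (γ j) hJR) n W y) =
        liftHom (R := R') ρ hJ n W (γ j ≫ β (b j)) y := fun j => by
      change liftH ρ (Lift.mk' (β (b j)) hJ) n W (liftH ρ (Lift.mk' (γ j) hJR) n W y) = _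
      rw [← liftH_trans]
      exact LinearMap.congr_fun (liftH_congr ρ hJ ((Lift.mk' (γ j) hJR).trans (Lift.mk' (β (b j)) hJ)) (Lift.mk' (γ j ≫ β (b j)) hJ) rfl n W) y
    simp only [h1]
    rw [← LinearMap.sum_apply, ← map_sum, hid]
    have : liftH ρ (Lift.mk' (smulEnd (R'.Z 0) (ρ 1)) hJ) n W y = y := by rw [liftH_smul, one_smul]
    refine Eq.trans (LinearMap.congr_fun (liftH_congr ρ hJ _ _ ?_ n W) y) this
    refine Scheme.Modules.hom_ext _ _ fun V => ?_
    ext z
    change (show Γ(R'.Z 0, V) from z) = rr (le_top : V ≤ ⊤) (ρ 1) • (show Γ(R'.Z 0, V) from z)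
    rw [map_one, map_one, one_smul]

variable {S S' X' : Scheme.{u}} {f : X ⟶ S} {g : S' ⟶ S} {p : X' ⟶ X} {q : X' ⟶ S'}
  {B : Type u} [CommRing B] [Algebra A B]
  {eA : CommRingCat.of A ≅ Γ(S, ⊤)} {eB : CommRingCat.of B ≅ Γ(S', ⊤)}
  (M : X.Modules) [M.IsQuasicoherent]

/-- Finite projective base change over affine bases, on cohomology classes. -/
theorem nonempty_classEquiv_finProj (H' : IsPullback p q f g) [IsAffine S] [IsAffine S']
    [Module.Finite A B] [Module.Projective A B]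
    (he : CommRingCat.ofHom (algebraMap A B) ≫ eB.hom = eA.hom ≫ g.appTop) (n : ℕ) :
    Nonempty (B ⊗[A] FlatBC.H (ρX f eA) (FRes.ofMod M) n ⊤ ≃ₗ[B]
      FlatBC.H (eB.hom ≫ q.appTop).hom (FRes.ofMod ((Scheme.Modules.pullback p).obj M)) n ⊤) := by
  have : IsAffineHom g := inferInstance
  have : IsAffineHom p := MorphismProperty.of_isPullback H'.flip ‹IsAffineHom g›
  have : ((Scheme.Modules.pullback p).obj M).IsQuasicoherent := inferInstance
  let β' : B →+ ((FRes.ofMod M).Z 0 ⟶ (FRes.ofMod ((Scheme.Modules.pushforward p).obj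
      ((Scheme.Modules.pullback p).obj M))).Z 0) := unitBeta p q eB M
  have hlin : IsLinear (ρX f eA) β' :=
    isLinear_of_compat (ρX f eA) p (eB.hom ≫ q.appTop).hom _ (compat H'.w he) (unitBeta_smul p q eB M)
  exact nonempty_classEquiv_of_comp (ρX f eA) p _ (unitBeta p q eB M) (compat H'.w he)
    (unitBeta_smul p q eB M) β' rfl hlin n
    (comp_bijective_of_finite_projective _ (injective_ofMod_J _) _ β' hlin
      (fun W hW => bijective_ev M H' he hlin hW) n ⊤)

end

end Groth.Agent.CohBase.FlatBC
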