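import Groth.Agent.CohBase.FlatBC.Cross
import Groth.Agent.LFDesc.BaseChange

/-!
# Flat base change of the models of higher direct images
-/

universe u

open CategoryTheory CategoryTheory.Limits AlgebraicGeometry TopologicalSpace Opposite
open scoped TensorProduct

namespace Groth.Agent.CohBase.FlatBC

open Groth.Agent.CohAff (FRes)

local notation "rs" => Groth.Agent.QCoh.res
local notation "rr" => Groth.Agent.QCoh.rres

noncomputable section

lemma appLE_comp_appIso_inv {Y Z T : Scheme.{u}} (j : Y ⟶ Z) [IsOpenImmersion j] (f : Z ⟶ T) {US : T.Opens}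
    {W : Y.Opens} (e : W ≤ (j ≫ f) ⁻¹ᵁ US) (e' : j ''ᵁ W ≤ f ⁻¹ᵁ US) :
    (j ≫ f).appLE US W e ≫ (j.appIso W).inv = f.appLE US (j ''ᵁ W) e' := by
  rw [← Scheme.Hom.appLE_comp_appLE j f US (j ''ᵁ W) W e' (j.preimage_image_eq W).ge,
    Category.assoc, ← Scheme.Hom.appIso_hom', Iso.hom_inv_id, Category.comp_id]

lemma rr_appLE {Y T : Scheme.{u}} (f : Y ⟶ T) {US : T.Opens} {V W : Y.Opens} (e : V ≤ f ⁻¹ᵁ US)
    (h : W ≤ V) (a : Γ(T, US)) : rr h (f.appLE US V e a) = f.appLE US W (h.trans e) a :=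
  congr($(f.appLE_map e (homOfLE h).op) a)

/-- restricted scalars act as functions on the image -/
lemma restrict_appLE_smul {Y Z T : Scheme.{u}} (j : Y ⟶ Z) [IsOpenImmersion j] (f : Z ⟶ T) (M : Z.Modules)
    {US : T.Opens} {W : Y.Opens} (e : W ≤ (j ≫ f) ⁻¹ᵁ US) (e' : j ''ᵁ W ≤ f ⁻¹ᵁ US) (a : Γ(T, US))
    (x : Γ(M, j ''ᵁ W)) :
    (((j ≫ f).appLE US W e a • (show Γ(M.restrict j, W) from x) : Γ(M.restrict j, W)) : Γ(M, j ''ᵁ W)) =
      f.appLE US (j ''ᵁ W) e' a • x := by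
  refine (QCoh.restrict_smul j M _ _).trans ?_
  exact congrArg (· • x) (congr($(appLE_comp_appIso_inv j f e e') a))

variable {X S S' X' : Scheme.{u}} (f : X ⟶ S) {US : S.Opens} (R : FRes X) (n : ℕ)

/-- functions on the base acting on the preimage -/
def ρLoc : Γ(S, US) →+* Γ((f ⁻¹ᵁ US : X.Opens), ⊤) :=
  (((f ⁻¹ᵁ US).ι ≫ f).appLE US ⊤ (by
    rw [Scheme.Hom.comp_preimage]; exact (Scheme.Opens.ι_preimage_self _).ge)).hom

/-- from cocycles on the open subscheme to sections of the model -/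
def betaFun : Sc (ρLoc f) ((R.restrict (f ⁻¹ᵁ US).ι).Z (n + 1)) ⊤ →ₗ[Γ(S, US)] Γ(R.Rc f n, US) where
  toFun z := R.π' f n US (rs (R.Z (n + 1)) (f ⁻¹ᵁ US).ι_image_top.ge z)
  map_add' z z' := (map_add ((R.π' f n US).comp (rs (R.Z (n + 1)) (f ⁻¹ᵁ US).ι_image_top.ge).hom)
    (show Γ(R.Z (n + 1), (f ⁻¹ᵁ US).ι ''ᵁ ⊤) from z) (show Γ(R.Z (n + 1), (f ⁻¹ᵁ US).ι ''ᵁ ⊤) from z') :)
  map_smul' a z := by
    have hZ : ∀ w : Γ(R.Z (n + 1), (f ⁻¹ᵁ US).ι ''ᵁ ⊤),
        ((rr (le_top : (⊤ : (f ⁻¹ᵁ US : X.Opens).toScheme.Opens) ≤ ⊤) (ρLoc f a) •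
          (show Γ((R.Z (n + 1)).restrict (f ⁻¹ᵁ US).ι, ⊤) from w) :
            Γ((R.Z (n + 1)).restrict (f ⁻¹ᵁ US).ι, ⊤)) : Γ(R.Z (n + 1), (f ⁻¹ᵁ US).ι ''ᵁ ⊤)) =
        f.appLE US _ (f ⁻¹ᵁ US).ι_image_top.le a • w := fun w => by
      rw [QCoh.rres_self]
      exact restrict_appLE_smul _ f _ _ _ a w
    change R.π' f n US (rs (R.Z (n + 1)) _ _) = _
    refine (congrArg (fun t => R.π' f n US (rs (R.Z (n + 1)) (f ⁻¹ᵁ US).ι_image_top.ge t)) (hZ z)).trans ?_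
    rw [QCoh.res_smul, rr_appLE, RingHom.id_apply]
    refine Eq.trans ?_ (R.π'_smul f n a _)
    congr 2
    exact congr($(Scheme.Hom.appLE_eq_app f) a)

/-- classes give sections of the model -/
def beta : H (ρLoc f) (R.restrict (f ⁻¹ᵁ US).ι) (n + 1) ⊤ →ₗ[Γ(S, US)] Γ(R.Rc f n, US) :=
  (exSub (ρLoc f) (R.restrict (f ⁻¹ᵁ US).ι) (n + 1) ⊤).liftQ (betaFun f R n) fun _ hz =>
    R.π'_eq_zero_of_ex f n (FRes.Ex.res _ (show R.Ex (n + 1) ((f ⁻¹ᵁ US).ι ''ᵁ ⊤) _ from hz))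

lemma beta_cl (z : Γ(R.Z (n + 1), (f ⁻¹ᵁ US).ι ''ᵁ ⊤)) :
    beta f R n (cl (ρLoc f) (R.restrict (f ⁻¹ᵁ US).ι) (n + 1) ⊤ z) =
      R.π' f n US (rs (R.Z (n + 1)) (f ⁻¹ᵁ US).ι_image_top.ge z) := rfl

lemma beta_bijective [(R.Z 0).IsQuasicoherent] [QuasiCompact f] [QuasiSeparated f] (hUS : IsAffineOpen US) :
    Function.Bijective (beta (US := US) f R n) := by
  constructor
  · rw [injective_iff_map_eq_zero]
    intro x hx
    obtain ⟨z, rfl⟩ := cl_surjective (ρLoc f) (R.restrict (f ⁻¹ᵁ US).ι) (n + 1) ⊤ x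
    refine (cl_eq_zero_iff _ _ _ _ z).2 ?_
    have := (R.ex_of_π'_eq_zero f hUS n _ hx).res (f ⁻¹ᵁ US).ι_image_top.le
    rw [QCoh.res_res, QCoh.res_self] at this
    exact this
  · intro y
    obtain ⟨x, rfl⟩ := R.π'_surjective f hUS n y
    refine ⟨cl (ρLoc f) (R.restrict (f ⁻¹ᵁ US).ι) (n + 1) ⊤ (rs (R.Z (n + 1)) (f ⁻¹ᵁ US).ι_image_top.le x), ?_⟩
    exact congrArg (R.π' f n US) ((QCoh.res_res _ _ _ _).trans (QCoh.res_self _ _ _))

/-- the restricted lift, read on `X'`, after any further restrictions -/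
lemma restrict_φ_res {p : X' ⟶ X} {R₀ : FRes X} {R₁ : FRes X'} [(R₁.Z 0).IsQuasicoherent]
    (L : CrossLift p R₀ R₁) (U : X.Opens) (U' : X'.Opens) (h : U' ≤ p ⁻¹ᵁ U)
    [IsAffineHom (p.resLE U U' h)] (W : (U : Scheme.{u}).Opens) (m : ℕ) {V : X.Opens} {O T : X'.Opens}
    (hV : V ≤ U.ι ''ᵁ W) (hO : O ≤ p ⁻¹ᵁ V) (hT : T ≤ O) (hT' : T ≤ U'.ι ''ᵁ (p.resLE U U' h ⁻¹ᵁ W))
    (z : Γ(R₀.Z m, U.ι ''ᵁ W)) :
    rs (R₁.Z m) hT (rs (R₁.Z m) hO ((L.φ m).app V (rs (R₀.Z m) hV z))) =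
      rs (R₁.Z m) hT' (((L.restrict p U U' h).φ m).app W z) := by
  have e : (((L.restrict p U U' h).φ m).app W z : Γ(R₁.Z m, U'.ι ''ᵁ (p.resLE U U' h ⁻¹ᵁ W))) =
      rs (R₁.Z m) (image_le p U U' h W) ((L.φ m).app (U.ι ''ᵁ W) z) :=
    pushRestrict_app p U U' h (R₁.Z m) W _
  rw [QCoh.app_res]
  refine Eq.trans ?_ (congrArg (rs (R₁.Z m) hT') e).symm
  exact ((congrArg (rs (R₁.Z m) hT) (QCoh.res_res _ _ _ _)).trans (QCoh.res_res _ _ _ _)).trans
    (QCoh.res_res _ _ _ _).symm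

variable (g : S' ⟶ S) (p : X' ⟶ X) (q : X' ⟶ S') (M : X.Modules)

/-- Flat base change on an affine pair of opens. -/
theorem bijective_rc_app [M.IsQuasicoherent] [QuasiCompact f] [QuasiSeparated f] [Flat g]
    (hH : IsPullback p q f g) (L : CrossLift p (FRes.ofMod M) (FRes.ofMod ((Scheme.Modules.pullback p).obj M)))
    (hL : L.φ 0 = (Scheme.Modules.pullbackPushforwardAdjunction p).unit.app M)
    {UT : S'.Opens} (hUS : IsAffineOpen US) (hUT : IsAffineOpen UT) (hT : UT ≤ g ⁻¹ᵁ US) :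
    Function.Bijective ((L.rc f g q hH.w n).app UT) := by
  have : IsAffine _ := hUS
  have : IsAffine _ := hUT
  have : QuasiCompact q := MorphismProperty.of_isPullback hH ‹QuasiCompact f›
  have : QuasiSeparated q := MorphismProperty.of_isPullback hH ‹QuasiSeparated f›
  let M' := (Scheme.Modules.pullback p).obj M
  let R := FRes.ofMod M
  let R' := FRes.ofMod M'
  let X₀ : X.Opens := f ⁻¹ᵁ US
  let X₁ : X'.Opens := p ⁻¹ᵁ X₀ ⊓ q ⁻¹ᵁ UT
  have hX₁ : X₁ = q ⁻¹ᵁ UT := by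
    refine inf_eq_right.2 ?_
    rw [← Scheme.Hom.comp_preimage, hH.w, Scheme.Hom.comp_preimage]
    exact q.preimage_mono hT
  have h₁ : X₁ ≤ p ⁻¹ᵁ X₀ := inf_le_left
  let p₀ := p.resLE X₀ X₁ h₁
  have hsq := Scheme.Hom.isPullback_resLE hH hT (le_refl (f ⁻¹ᵁ US)) rfl
  have : IsAffineHom (g.resLE US UT hT) := inferInstance
  have : IsAffineHom p₀ := MorphismProperty.of_isPullback hsq.flip ‹IsAffineHom (g.resLE US UT hT)›
  have : (R.Z 0).IsQuasicoherent := ‹M.IsQuasicoherent›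
  have : M'.IsQuasicoherent := inferInstance
  have : (R'.Z 0).IsQuasicoherent := ‹M'.IsQuasicoherent›
  have : CompactSpace (X₀ : Scheme.{u}) := isCompact_iff_compactSpace.mp (f.isCompact_preimage hUS.isCompact)
  have : QuasiSeparatedSpace (X₀ : Scheme.{u}) :=
    (isQuasiSeparated_iff_quasiSeparatedSpace _ X₀.2).1 (f.isQuasiSeparated_preimage hUS.isQuasiSeparated)
  let _ : Algebra Γ(S, US) Γ(S', UT) := (g.appLE US UT hT).hom.toAlgebra
  have : Module.Flat Γ(S, US) Γ(S', UT) :=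
    RingHom.flat_algebraMap_iff.1 (HasRingHomProperty.appLE @Flat g inferInstance ⟨US, hUS⟩ ⟨UT, hUT⟩ hT)
  let ρ' : Γ(S', UT) →+* Γ(X₁, ⊤) := ((X₁.ι ≫ q).appLE UT ⊤ (by
    rw [Scheme.Hom.comp_preimage, ← hX₁]; exact (Scheme.Opens.ι_preimage_self _).ge)).hom
  have hρ : ∀ a, ρ' (algebraMap Γ(S, US) Γ(S', UT) a) = p₀.appTop (ρLoc f a) := fun a => by
    change (g.appLE US UT hT ≫ (X₁.ι ≫ q).appLE UT ⊤ _) a = ((X₀.ι ≫ f).appLE US ⊤ _ ≫ p₀.app ⊤) a
    rw [Scheme.Hom.appLE_comp_appLE, ← Scheme.Hom.appLE_eq_app, Scheme.Hom.appLE_comp_appLE]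
    simp only [p₀, Scheme.Hom.resLE_comp_ι_assoc, Category.assoc, hH.w]
    rfl
  let φ₀ := L.restrict p X₀ X₁ h₁
  have hZ : (((R'.restrict X₁.ι)).Z 0).IsQuasicoherent := inferInstance
  have h0 : ∀ W : X₀.toScheme.Opens, IsAffineOpen W → Function.Bijective (TensorProduct.lift
      (ev (ρLoc f) (baseBeta p₀ ρ' φ₀) (baseBeta_isLinear φ₀ hρ) W)) := by
    intro W hW
    let V := X₀.ι ''ᵁ W
    have hV : IsAffineOpen V := hW.image_of_isOpenImmersion X₀.ι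
    have hVle : V ≤ f ⁻¹ᵁ US := (X₀.ι.image_le_opensRange W).trans X₀.opensRange_ι.le
    have hΦ := LFDesc.Φ_bijective_of_isAffineOpen f g p q M hT hH hUS hUT hVle hV
    have e₁ : X₁.ι ''ᵁ (p₀ ⁻¹ᵁ W) = LFDesc.over p q UT V := by
      change X₁.ι ''ᵁ (p.resLE X₀ X₁ h₁ ⁻¹ᵁ W) = _
      rw [Scheme.Hom.resLE_preimage, Scheme.Hom.image_preimage_eq_opensRange_inf, Scheme.Opens.opensRange_ι]
      refine le_antisymm (le_inf inf_le_right (inf_le_left.trans hX₁.le)) (le_inf ?_ inf_le_left)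
      exact inf_le_right.trans hX₁.ge
    let rse : Γ(M', LFDesc.over p q UT V) →+ Γ(M', X₁.ι ''ᵁ (p₀ ⁻¹ᵁ W)) := (rs M' e₁.le).hom
    have hrse : Function.Bijective rse :=
      Function.bijective_iff_has_inverse.2 ⟨rs M' e₁.ge,
        fun z => (QCoh.res_res _ _ _ _).trans (QCoh.res_self _ _ _),
        fun z => (QCoh.res_res _ _ _ _).trans (QCoh.res_self _ _ _)⟩
    let τ : Γ(S', UT) ⊗[Γ(S, US)] Sc (ρLoc f) (M.restrict X₀.ι) W →+
        Γ(S', UT) ⊗[Γ(S, US)] LFDesc.Sec f M hVle :=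
      (TensorProduct.map (LinearMap.id)
        ({ toFun := fun z => z, map_add' := fun _ _ => rfl, map_smul' := fun a z => by
            change ((rr (le_top : W ≤ ⊤) (ρLoc f a) • (show Γ(M.restrict X₀.ι, W) from z) :
              Γ(M.restrict X₀.ι, W)) : Γ(M, V)) = f.appLE US V hVle a • (show Γ(M, V) from z)
            rw [ρLoc, rr_appLE]
            exact restrict_appLE_smul _ f _ _ _ a _ } :
          Sc (ρLoc f) (M.restrict X₀.ι) W →ₗ[Γ(S, US)] LFDesc.Sec f M hVle)).toAddMonoidHom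
    have hτ : Function.Bijective τ :=
      TensorProduct.map_bijective Function.bijective_id ⟨fun _ _ h => h, fun z => ⟨z, rfl⟩⟩
    refine Function.Bijective.of_comp_iff' (f := id) Function.bijective_id _ |>.1 ?_
    let Ψ : Γ(S', UT) ⊗[Γ(S, US)] Sc (ρLoc f) (M.restrict X₀.ι) W →+ Γ(M', X₁.ι ''ᵁ (p₀ ⁻¹ᵁ W)) :=
      rse.comp ((LFDesc.Φ f g p q M hT hH.w hVle).comp τ)
    have key : ∀ t, TensorProduct.lift (ev (ρLoc f) (baseBeta p₀ ρ' φ₀) (baseBeta_isLinear φ₀ hρ) W) t =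
        Ψ t := by
      intro t
      induction t using TensorProduct.induction_on with
      | zero => exact (map_zero _).trans (map_zero Ψ).symm
      | add t t' h h' => exact (map_add _ t t').trans ((congrArg₂ (· + ·) h h').trans (map_add Ψ t t').symm)
      | tmul b z =>
        have key2 : ∀ (z : Γ(M, V)),
            ((rr (le_top : p₀ ⁻¹ᵁ W ≤ ⊤) (ρ' b) •
              (show Γ(M'.restrict X₁.ι, p₀ ⁻¹ᵁ W) from ((pushRestrict p X₀ X₁ h₁).app M').app W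
                ((L.φ 0).app V z)) : Γ(M'.restrict X₁.ι, p₀ ⁻¹ᵁ W)) : Γ(M', X₁.ι ''ᵁ (p₀ ⁻¹ᵁ W))) =
            rs M' e₁.le ((q.appLE UT (LFDesc.over p q UT V) inf_le_right b :
              Γ(X', LFDesc.over p q UT V)) • LimTop.unitSec p M inf_le_left z) := fun z => by
          rw [QCoh.res_smul, rr_appLE, LimTop.res_unitSec]
          simp only [rr_appLE]
          refine (restrict_appLE_smul X₁.ι q M' _ (e₁.le.trans inf_le_right) b _).trans ?_
          congr 1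
          refine (pushRestrict_app p X₀ X₁ h₁ M' W _).trans ?_
          rw [hL]
          rfl
        exact key2 z
    rw [show (id ∘ ⇑(TensorProduct.lift (ev (ρLoc f) (baseBeta p₀ ρ' φ₀) (baseBeta_isLinear φ₀ hρ) W))) =
      rse ∘ (LFDesc.Φ f g p q M hT hH.w hVle) ∘ τ from funext key]
    exact hrse.comp (hΦ.comp hτ)
  have hbase := baseMap_bijective φ₀ hρ h0 (n + 1)
  -- classes upstairs give sections of the model upstairs
  let α : H ρ' (R'.restrict X₁.ι) (n + 1) ⊤ →+ Γ(R'.Rc q n, UT) :=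
    QuotientAddGroup.lift (exSub ρ' (R'.restrict X₁.ι) (n + 1) ⊤).toAddSubgroup
      ((R'.π' q n UT).comp (rs (R'.Z (n + 1)) (hX₁.ge.trans X₁.ι_image_top.ge)).hom)
      fun z hz => R'.π'_eq_zero_of_ex q n (FRes.Ex.res _ (show R'.Ex (n + 1) (X₁.ι ''ᵁ ⊤) z from hz))
  have hα_cl : ∀ z : Γ(R'.Z (n + 1), X₁.ι ''ᵁ ⊤), α (cl ρ' (R'.restrict X₁.ι) (n + 1) ⊤ z) =
      R'.π' q n UT (rs (R'.Z (n + 1)) (hX₁.ge.trans X₁.ι_image_top.ge) z) := fun _ => rfl
  have hα : Function.Bijective α := by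
    constructor
    · rw [injective_iff_map_eq_zero]
      intro x hx
      obtain ⟨z, rfl⟩ := cl_surjective ρ' (R'.restrict X₁.ι) (n + 1) ⊤ x
      refine (cl_eq_zero_iff _ _ _ _ z).2 ?_
      have hx' : R'.π' q n UT (rs (R'.Z (n + 1)) (hX₁.ge.trans X₁.ι_image_top.ge) z) = 0 := hx
      have := (R'.ex_of_π'_eq_zero q hUT n _ hx').res (X₁.ι_image_top.le.trans hX₁.le)
      rw [QCoh.res_res, QCoh.res_self] at this
      exact this
    · intro y
      obtain ⟨x, rfl⟩ := R'.π'_surjective q hUT n y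
      refine ⟨cl ρ' (R'.restrict X₁.ι) (n + 1) ⊤ (rs (R'.Z (n + 1)) (X₁.ι_image_top.le.trans hX₁.le) x), ?_⟩
      exact congrArg (R'.π' q n UT) ((QCoh.res_res _ _ _ _).trans (QCoh.res_self _ _ _))
  have hα_smul : ∀ (b : Γ(S', UT)) x, α (b • x) = b • α x := by
    intro b x
    obtain ⟨z, rfl⟩ := cl_surjective ρ' (R'.restrict X₁.ι) (n + 1) ⊤ x
    rw [← cl_smul, QCoh.rres_self]
    have hz : ∀ w : Γ(R'.Z (n + 1), X₁.ι ''ᵁ ⊤),
        R'.π' q n UT (rs (R'.Z (n + 1)) (hX₁.ge.trans X₁.ι_image_top.ge)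
          (q.appLE UT _ (X₁.ι_image_top.le.trans hX₁.le) b • w)) =
          b • R'.π' q n UT (rs (R'.Z (n + 1)) (hX₁.ge.trans X₁.ι_image_top.ge) w) := fun w => by
      rw [QCoh.res_smul, rr_appLE, ← R'.π'_smul q n b]
      congr 2
      exact congr($(Scheme.Hom.appLE_eq_app q) b)
    rw [hα_cl, hα_cl, ← hz]
    exact congrArg (fun t => R'.π' q n UT (rs (R'.Z (n + 1)) _ t)) (restrict_appLE_smul X₁.ι q _ _ _ b z)
  -- sections of the pulled back model
  have hRc : (R.Rc f n).IsQuasicoherent := R.isQuasicoherent_Rc f n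
  let βe := LinearEquiv.ofBijective (beta (US := US) f R n) (beta_bijective f R n hUS)
  let _ := LimTop.secModule g (R.Rc f n) hT
  let P := Γ((Scheme.Modules.pullback g).obj (R.Rc f n), UT)
  let τ : Γ(S', UT) ⊗[Γ(S, US)] H (ρLoc f) (R.restrict X₀.ι) (n + 1) ⊤ →+ P :=
    TensorProduct.liftAddHom
      (AddMonoidHom.mk' (fun b => AddMonoidHom.mk'
          (fun x => (b • LimTop.unitSec g (R.Rc f n) hT (beta f R n x) : P))
          fun x y => by rw [map_add, map_add, smul_add])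
        fun b b' => AddMonoidHom.ext fun x => add_smul b b' (LimTop.unitSec g (R.Rc f n) hT (beta f R n x) : P))
      fun a b x => by
        change ((g.appLE US UT hT a * b) • LimTop.unitSec g (R.Rc f n) hT (beta f R n x) : P) =
          b • LimTop.unitSec g (R.Rc f n) hT (beta f R n (a • x))
        rw [map_smul, LimTop.unitSec_smul, smul_smul, mul_comm]
  have : IsScalarTower Γ(S, US) Γ(S', UT) P := IsScalarTower.of_algebraMap_smul fun _ _ => rfl
  have hτ : Function.Surjective τ := fun s => by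
    induction s using (LimTop.isBaseChange_unitSec g (R.Rc f n) hT hUS hUT).inductionOn with
    | zero => exact ⟨0, map_zero _⟩
    | tmul m => exact ⟨(1 : Γ(S', UT)) ⊗ₜ βe.symm m, by
        change (1 : Γ(S', UT)) • LimTop.unitSec g (R.Rc f n) hT (βe (βe.symm m)) = _
        rw [one_smul, LinearEquiv.apply_symm_apply]
        rfl⟩
    | smul r m hm =>
      obtain ⟨t, rfl⟩ := hm
      refine ⟨r • t, ?_⟩
      induction t using TensorProduct.induction_on with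
      | zero => simp
      | tmul b x => exact mul_smul r b _
      | add t t' h h' => rw [smul_add, map_add, h, h', map_add, smul_add]
    | add m m' hm hm' =>
      obtain ⟨t, rfl⟩ := hm
      obtain ⟨t', rfl⟩ := hm'
      exact ⟨t + t', map_add _ _ _⟩
  have hcomm : ∀ t, (L.rc f g q hH.w n).app UT (τ t) = α (baseMap φ₀ hρ (n + 1) t) := by
    intro t
    induction t using TensorProduct.induction_on with
    | zero => simp
    | add t t' h h' => rw [map_add, map_add, h, h', map_add, map_add]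
    | tmul b x =>
      obtain ⟨z, rfl⟩ := cl_surjective (ρLoc f) (R.restrict X₀.ι) (n + 1) ⊤ x
      rw [baseMap_tmul, show τ (b ⊗ₜ cl (ρLoc f) (R.restrict X₀.ι) (n + 1) ⊤ z) =
        b • LimTop.unitSec g (R.Rc f n) hT (beta f R n (cl (ρLoc f) (R.restrict X₀.ι) (n + 1) ⊤ z)) from rfl]
      rw [Scheme.Modules.Hom.app_smul, hα_smul, beta_cl, CrossLift.rc_unitSec,
        CrossLift.rcAdj_π' f g q hH.w L n US _ (by rw [← Scheme.Hom.comp_preimage, ← hH.w, Scheme.Hom.comp_preimage]),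
        CohAff.FRes.π'_res]
      refine congrArg (b • ·) ?_
      rw [liftH_cl, upH_cl]
      refine Eq.trans ?_ (hα_cl _).symm
      exact congrArg (R'.π' q n UT) (restrict_φ_res L X₀ X₁ h₁ ⊤ (n + 1) _ _ _ _ z)
  refine ⟨?_, ?_⟩
  · rw [injective_iff_map_eq_zero]
    intro s hs
    obtain ⟨t, rfl⟩ := hτ s
    rw [hcomm] at hs
    rw [(injective_iff_map_eq_zero (α.comp (baseMap φ₀ hρ (n + 1)))).1 (hα.comp hbase).1 t hs, map_zero]
  · intro y
    obtain ⟨t, ht⟩ := (hα.comp hbase).2 y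
    exact ⟨τ t, (hcomm t).trans ht⟩

end

end Groth.Agent.CohBase.FlatBC
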