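import Groth.Agent.CohBase.FlatBC.Lift
import Mathlib.Algebra.Exact.Basic

/-!
# Cohomology of a resolution as modules over a ring of functions

For `ρ : A →+* Γ(X, ⊤)` and a resolution `R` the quotients `H n W` of cocycles by coboundaries, their
restriction maps and the Mayer–Vietoris sequence.
-/

universe u

open CategoryTheory CategoryTheory.Limits AlgebraicGeometry TopologicalSpace Opposite

namespace Groth.Agent.CohBase.FlatBC

open Groth.Agent.CohAff (FRes)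
open Groth.Agent.QCoh (app_res rres_rres)

local notation "rs" => Groth.Agent.QCoh.res
local notation "rr" => Groth.Agent.QCoh.rres

noncomputable section

variable {X : Scheme.{u}} {A : Type u} [CommRing A] (ρ : A →+* Γ(X, ⊤))

/-- Sections, as a module over `A`. -/
def Sc (_ρ : A →+* Γ(X, ⊤)) (M : X.Modules) (W : X.Opens) : Type u := Γ(M, W)

instance (M : X.Modules) (W : X.Opens) : AddCommGroup (Sc ρ M W) :=
  inferInstanceAs (AddCommGroup Γ(M, W))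

/-- the tautological map -/
def toSc (M : X.Modules) (W : X.Opens) : Γ(M, W) →+ Sc ρ M W := AddMonoidHom.id _

instance (M : X.Modules) (W : X.Opens) : Module A (Sc ρ M W) :=
  Module.compHom Γ(M, W) ((rr (le_top : W ≤ ⊤)).hom.comp ρ)

lemma smul_def (M : X.Modules) (W : X.Opens) (a : A) (z : Γ(M, W)) :
    (a • (show Sc ρ M W from z) : Sc ρ M W) = (rr (le_top : W ≤ ⊤) (ρ a) • z : Γ(M, W)) := rfl

/-- a morphism on sections -/
def scMap {M N : X.Modules} (g : M ⟶ N) (W : X.Opens) : Sc ρ M W →ₗ[A] Sc ρ N W where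
  toFun z := g.app W z
  map_add' := map_add (g.app W).hom
  map_smul' a z := Scheme.Modules.Hom.app_smul g _ (show Γ(M, W) from z)

/-- restriction of sections -/
def scRes (M : X.Modules) {U V : X.Opens} (h : V ≤ U) : Sc ρ M U →ₗ[A] Sc ρ M V where
  toFun z := rs M h z
  map_add' := map_add (rs M h).hom
  map_smul' a z := by
    have key : ∀ w : Γ(M, U), rs M h (rr (le_top : U ≤ ⊤) (ρ a) • w) = rr (le_top : V ≤ ⊤) (ρ a) • rs M h w :=
      fun w => by rw [QCoh.res_smul, rres_rres]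
    exact key z

variable (R : FRes X)

/-- coboundaries -/
def exSub (n : ℕ) (W : X.Opens) : Submodule A (Sc ρ (R.Z n) W) where
  carrier := {z | R.Ex n W z}
  add_mem' hx hy := hx.add hy
  zero_mem' := CohAff.FRes.Ex.zero n W
  smul_mem' _ _ hz := hz.smul _

/-- cohomology of a resolution on an open -/
abbrev H (n : ℕ) (W : X.Opens) : Type u := Sc ρ (R.Z n) W ⧸ exSub ρ R n W

/-- the class of a cocycle -/
def cl (n : ℕ) (W : X.Opens) : Γ(R.Z n, W) →+ H ρ R n W :=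
  (exSub ρ R n W).mkQ.toAddMonoidHom.comp (toSc ρ (R.Z n) W)

lemma cl_smul (n : ℕ) (W : X.Opens) (a : A) (z : Γ(R.Z n, W)) :
    cl ρ R n W (rr (le_top : W ≤ ⊤) (ρ a) • z) = a • cl ρ R n W z :=
  (exSub ρ R n W).mkQ.map_smul a (toSc ρ (R.Z n) W z)

lemma cl_surjective (n : ℕ) (W : X.Opens) : Function.Surjective (cl ρ R n W) :=
  (exSub ρ R n W).mkQ_surjective

lemma cl_eq_zero_iff (n : ℕ) (W : X.Opens) (z : Γ(R.Z n, W)) :
    cl ρ R n W z = 0 ↔ R.Ex n W z := Submodule.Quotient.mk_eq_zero _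

lemma cl_eq_iff (n : ℕ) (W : X.Opens) (z z' : Γ(R.Z n, W)) :
    cl ρ R n W z = cl ρ R n W z' ↔ R.Ex n W (z - z') := Submodule.Quotient.eq _

/-- restriction of classes -/
def hres (n : ℕ) {U V : X.Opens} (h : V ≤ U) : H ρ R n U →ₗ[A] H ρ R n V :=
  (exSub ρ R n U).mapQ (exSub ρ R n V) (scRes ρ (R.Z n) h) fun _ hz => hz.res h

lemma hres_cl (n : ℕ) {U V : X.Opens} (h : V ≤ U) (z : Γ(R.Z n, U)) :
    hres ρ R n h (cl ρ R n U z) = cl ρ R n V (rs (R.Z n) h z) := rfl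

/-- the pair of restrictions -/
def diag (n : ℕ) (U V : X.Opens) : H ρ R n (U ⊔ V) →ₗ[A] H ρ R n U × H ρ R n V :=
  (hres ρ R n le_sup_left).prod (hres ρ R n le_sup_right)

/-- the difference of restrictions -/
def diff (n : ℕ) (U V : X.Opens) : H ρ R n U × H ρ R n V →ₗ[A] H ρ R n (U ⊓ V) :=
  (hres ρ R n inf_le_left).comp (LinearMap.fst _ _ _) -
    (hres ρ R n inf_le_right).comp (LinearMap.snd _ _ _)

lemma diff_cl (n : ℕ) (U V : X.Opens) (a : Γ(R.Z n, U)) (b : Γ(R.Z n, V)) :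
    diff ρ R n U V (cl ρ R n U a, cl ρ R n V b) =
      cl ρ R n (U ⊓ V) (rs (R.Z n) inf_le_left a - rs (R.Z n) inf_le_right b) :=
  (map_sub (cl ρ R n (U ⊓ V)) _ _).symm

theorem exact_diag_diff (n : ℕ) (U V : X.Opens) :
    Function.Exact (diag ρ R n U V) (diff ρ R n U V) := by
  rintro ⟨x, y⟩
  obtain ⟨a, rfl⟩ := cl_surjective ρ R n U x
  obtain ⟨b, rfl⟩ := cl_surjective ρ R n V y
  constructor
  · intro h
    rw [diff_cl, cl_eq_zero_iff] at h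
    obtain ⟨c, hc, hcr⟩ := h.extend (inf_le_right : U ⊓ V ≤ V)
    obtain ⟨z, hz₁, hz₂⟩ := FRes.glue₂ (R.Z n) a (b + c) (by
      rw [map_add, hcr, add_sub_cancel])
    refine ⟨cl ρ R n _ z, Prod.ext ?_ ?_⟩
    · exact (hres_cl ρ R n le_sup_left z).trans (congrArg _ hz₁)
    · refine (hres_cl ρ R n le_sup_right z).trans ((cl_eq_iff ρ R n V _ _).2 ?_)
      rw [hz₂, add_sub_cancel_left]
      exact hc
  · rintro ⟨q, hq⟩
    obtain ⟨z, rfl⟩ := cl_surjective ρ R n _ q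
    rw [← hq]
    have e : diag ρ R n U V (cl ρ R n (U ⊔ V) z) =
        (cl ρ R n U (rs (R.Z n) le_sup_left z), cl ρ R n V (rs (R.Z n) le_sup_right z)) := rfl
    rw [e, diff_cl, QCoh.res_res, QCoh.res_res, sub_self, map_zero]

theorem diag_zero_injective (U V : X.Opens) : Function.Injective (diag ρ R 0 U V) := by
  rw [injective_iff_map_eq_zero]
  intro q hq
  obtain ⟨z, rfl⟩ := cl_surjective ρ R 0 _ q
  refine (cl_eq_zero_iff ρ R 0 _ _).2 (FRes.eq_of_res₂ (R.Z 0) _ _ ?_ ?_)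
  · rw [map_zero]
    exact (cl_eq_zero_iff ρ R 0 U _).1 (congrArg Prod.fst hq)
  · rw [map_zero]
    exact (cl_eq_zero_iff ρ R 0 V _).1 (congrArg Prod.snd hq)

/-- the graph of the Mayer–Vietoris connecting map -/
def IsMV (n : ℕ) (U V : X.Opens) (c : Γ(R.Z n, U ⊓ V)) (z : Γ(R.Z (n + 1), U ⊔ V)) : Prop :=
  ∃ a : Γ(R.J n, U), rs (R.J n) inf_le_left a = (R.ι n).app (U ⊓ V) c ∧
    rs (R.Z (n + 1)) le_sup_left z = (R.p n).app U a ∧ rs (R.Z (n + 1)) le_sup_right z = 0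

lemma exists_isMV (n : ℕ) (U V : X.Opens) (c : Γ(R.Z n, U ⊓ V)) : ∃ z, IsMV R n U V c z := by
  obtain ⟨a, ha⟩ := R.extend_J n (inf_le_left : U ⊓ V ≤ U) ((R.ι n).app (U ⊓ V) c)
  obtain ⟨z, hz₁, hz₂⟩ := FRes.glue₂ (R.Z (n + 1)) ((R.p n).app U a) (0 : Γ(R.Z (n + 1), V)) (by
    rw [← app_res, ha, R.p_ι, map_zero])
  exact ⟨z, a, ha, hz₁, hz₂⟩

lemma IsMV.ex_of_ex {n : ℕ} {U V : X.Opens} {c : Γ(R.Z n, U ⊓ V)} {z : Γ(R.Z (n + 1), U ⊔ V)}
    (h : IsMV R n U V c z) (hc : R.Ex n (U ⊓ V) c) : R.Ex (n + 1) (U ⊔ V) z := by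
  obtain ⟨a, ha, hz₁, hz₂⟩ := h
  obtain ⟨c', -, hcr⟩ := hc.extend (inf_le_left : U ⊓ V ≤ U)
  obtain ⟨e, he₁, he₂⟩ := FRes.glue₂ (R.J n) (a - (R.ι n).app U c') (0 : Γ(R.J n, V)) (by
    rw [map_sub, map_zero, ← app_res, hcr, ha, sub_self])
  refine ⟨e, FRes.eq_of_res₂ (R.Z (n + 1)) _ _ ?_ ?_⟩
  · rw [← app_res, he₁, map_sub, R.p_ι, sub_zero, hz₁]
  · rw [← app_res, he₂, map_zero, hz₂]

lemma IsMV.sub {n : ℕ} {U V : X.Opens} {c c' : Γ(R.Z n, U ⊓ V)} {z z' : Γ(R.Z (n + 1), U ⊔ V)}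
    (h : IsMV R n U V c z) (h' : IsMV R n U V c' z') : IsMV R n U V (c - c') (z - z') := by
  obtain ⟨a, ha, h₁, h₂⟩ := h
  obtain ⟨a', ha', h₁', h₂'⟩ := h'
  exact ⟨a - a', by simp only [map_sub, ha, ha'], by simp only [map_sub, h₁, h₁'],
    by simp only [map_sub, h₂, h₂', sub_zero]⟩

lemma IsMV.add {n : ℕ} {U V : X.Opens} {c c' : Γ(R.Z n, U ⊓ V)} {z z' : Γ(R.Z (n + 1), U ⊔ V)}
    (h : IsMV R n U V c z) (h' : IsMV R n U V c' z') : IsMV R n U V (c + c') (z + z') := by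
  obtain ⟨a, ha, h₁, h₂⟩ := h
  obtain ⟨a', ha', h₁', h₂'⟩ := h'
  exact ⟨a + a', by simp only [map_add, ha, ha'], by simp only [map_add, h₁, h₁'],
    by simp only [map_add, h₂, h₂', add_zero]⟩

lemma IsMV.smul {n : ℕ} {U V : X.Opens} {c : Γ(R.Z n, U ⊓ V)} {z : Γ(R.Z (n + 1), U ⊔ V)}
    (h : IsMV R n U V c z) (r : Γ(X, ⊤)) :
    IsMV R n U V (rr (le_top : U ⊓ V ≤ ⊤) r • c) (rr (le_top : U ⊔ V ≤ ⊤) r • z) := by
  obtain ⟨a, ha, h₁, h₂⟩ := h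
  refine ⟨rr (le_top : U ≤ ⊤) r • a, ?_, ?_, ?_⟩
  · rw [QCoh.res_smul, rres_rres, ha, Scheme.Modules.Hom.app_smul]
  · rw [QCoh.res_smul, rres_rres, h₁, Scheme.Modules.Hom.app_smul]
  · rw [QCoh.res_smul, h₂, smul_zero]

lemma IsMV.cl_eq {n : ℕ} {U V : X.Opens} {c c' : Γ(R.Z n, U ⊓ V)} {z z' : Γ(R.Z (n + 1), U ⊔ V)}
    (h : IsMV R n U V c z) (h' : IsMV R n U V c' z') (hc : R.Ex n (U ⊓ V) (c - c')) :
    cl ρ R (n + 1) (U ⊔ V) z = cl ρ R (n + 1) (U ⊔ V) z' :=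
  (cl_eq_iff ρ R _ _ _ _).2 ((h.sub R h').ex_of_ex R hc)

/-- a value of the connecting map on cocycles -/
def mv₀ (n : ℕ) (U V : X.Opens) (c : Γ(R.Z n, U ⊓ V)) : Γ(R.Z (n + 1), U ⊔ V) :=
  (exists_isMV R n U V c).choose

lemma mv₀_spec (n : ℕ) (U V : X.Opens) (c : Γ(R.Z n, U ⊓ V)) : IsMV R n U V c (mv₀ R n U V c) :=
  (exists_isMV R n U V c).choose_spec

/-- connecting map on cocycles -/
def mvFun (n : ℕ) (U V : X.Opens) (c : Γ(R.Z n, U ⊓ V)) : H ρ R (n + 1) (U ⊔ V) :=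
  cl ρ R (n + 1) (U ⊔ V) (mv₀ R n U V c)

lemma mvFun_eq {n : ℕ} {U V : X.Opens} {c : Γ(R.Z n, U ⊓ V)} {z : Γ(R.Z (n + 1), U ⊔ V)}
    (h : IsMV R n U V c z) : mvFun ρ R n U V c = cl ρ R (n + 1) (U ⊔ V) z :=
  IsMV.cl_eq ρ R (mv₀_spec R n U V c) h (by rw [sub_self]; exact CohAff.FRes.Ex.zero _ _)

lemma mvFun_add (n : ℕ) (U V : X.Opens) (c c' : Γ(R.Z n, U ⊓ V)) :
    mvFun ρ R n U V (c + c') = mvFun ρ R n U V c + mvFun ρ R n U V c' := by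
  rw [mvFun_eq ρ R ((mv₀_spec R n U V c).add R (mv₀_spec R n U V c')), map_add]
  rfl

lemma mvFun_smul (n : ℕ) (U V : X.Opens) (a : A) (c : Γ(R.Z n, U ⊓ V)) :
    mvFun ρ R n U V (rr (le_top : U ⊓ V ≤ ⊤) (ρ a) • c) = a • mvFun ρ R n U V c := by
  rw [mvFun_eq ρ R ((mv₀_spec R n U V c).smul R (ρ a)), cl_smul]
  rfl

/-- connecting map, linear on cocycles -/
def mvLin (n : ℕ) (U V : X.Opens) : Sc ρ (R.Z n) (U ⊓ V) →ₗ[A] H ρ R (n + 1) (U ⊔ V) where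
  toFun c := mvFun ρ R n U V c
  map_add' c c' := mvFun_add ρ R n U V c c'
  map_smul' a c := mvFun_smul ρ R n U V a c

/-- the Mayer–Vietoris connecting map -/
def mvδ (n : ℕ) (U V : X.Opens) : H ρ R n (U ⊓ V) →ₗ[A] H ρ R (n + 1) (U ⊔ V) :=
  (exSub ρ R n (U ⊓ V)).liftQ (mvLin ρ R n U V) fun c hc =>
    (cl_eq_zero_iff ρ R _ _ _).2 ((mv₀_spec R n U V c).ex_of_ex R hc)

lemma mvδ_cl {n : ℕ} {U V : X.Opens} {c : Γ(R.Z n, U ⊓ V)} {z : Γ(R.Z (n + 1), U ⊔ V)}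
    (h : IsMV R n U V c z) : mvδ ρ R n U V (cl ρ R n (U ⊓ V) c) = cl ρ R (n + 1) (U ⊔ V) z :=
  mvFun_eq ρ R h

theorem exact_diff_mvδ (n : ℕ) (U V : X.Opens) :
    Function.Exact (diff ρ R n U V) (mvδ ρ R n U V) := by
  intro x
  obtain ⟨c, rfl⟩ := cl_surjective ρ R n _ x
  obtain ⟨z, hz⟩ := exists_isMV R n U V c
  rw [mvδ_cl ρ R hz, cl_eq_zero_iff]
  obtain ⟨a, ha, hz₁, hz₂⟩ := hz
  constructor
  · rintro ⟨e, he⟩
    obtain ⟨s, hs⟩ := R.exists_ι_eq n (a := a - rs (R.J n) le_sup_left e) (by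
      rw [map_sub, app_res, he, hz₁, sub_self])
    obtain ⟨t, ht⟩ := R.exists_ι_eq n (a := - rs (R.J n) (le_sup_right : V ≤ U ⊔ V) e) (by
      rw [map_neg, app_res, he, hz₂, neg_zero])
    refine ⟨(cl ρ R n U s, cl ρ R n V t), ?_⟩
    rw [diff_cl]
    refine congrArg _ (R.ι_injective n _ ?_)
    rw [map_sub, app_res, app_res, hs, ht, map_sub, map_neg, ha, QCoh.res_res, QCoh.res_res,
      sub_neg_eq_add, sub_add_cancel]
  · rintro ⟨⟨x, y⟩, h⟩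
    obtain ⟨s, rfl⟩ := cl_surjective ρ R n U x
    obtain ⟨t, rfl⟩ := cl_surjective ρ R n V y
    rw [diff_cl, cl_eq_iff] at h
    obtain ⟨t', -, ht'⟩ := h.extend (inf_le_right : U ⊓ V ≤ V)
    obtain ⟨e, he₁, he₂⟩ := FRes.glue₂ (R.J n) (a - (R.ι n).app U s)
      (- (R.ι n).app V (t + t')) (by
        rw [map_sub, map_neg, map_add, map_add, ← app_res, ← app_res, ← app_res, ht', ha, map_sub,
          map_sub]
        abel)
    refine ⟨e, FRes.eq_of_res₂ (R.Z (n + 1)) _ _ ?_ ?_⟩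
    · rw [← app_res, he₁, map_sub, R.p_ι, sub_zero, hz₁]
    · rw [← app_res, he₂, map_neg, R.p_ι, neg_zero, hz₂]

theorem exact_mvδ_diag (n : ℕ) (U V : X.Opens) :
    Function.Exact (mvδ ρ R n U V) (diag ρ R (n + 1) U V) := by
  intro x
  obtain ⟨z, rfl⟩ := cl_surjective ρ R (n + 1) _ x
  constructor
  · intro h
    have h' : cl ρ R (n + 1) U (rs (R.Z (n + 1)) le_sup_left z) = 0 ∧
        cl ρ R (n + 1) V (rs (R.Z (n + 1)) le_sup_right z) = 0 :=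
      ⟨congrArg Prod.fst h, congrArg Prod.snd h⟩
    obtain ⟨a, ha⟩ := (cl_eq_zero_iff ρ R (n + 1) U _).1 h'.1
    obtain ⟨b, hb⟩ := (cl_eq_zero_iff ρ R (n + 1) V _).1 h'.2
    obtain ⟨b', hb'⟩ := R.extend_J n (le_sup_right : V ≤ U ⊔ V) b
    obtain ⟨c, hc⟩ := R.exists_ι_eq n
      (a := rs (R.J n) (inf_le_left : U ⊓ V ≤ U) (a - rs (R.J n) le_sup_left b')) (by
        rw [app_res, map_sub (Scheme.Modules.Hom.app (R.p n) U).hom, app_res, ha, map_sub]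
        rw [QCoh.res_res, QCoh.res_res]
        rw [← QCoh.res_res (R.Z (n + 1)) (le_sup_right : V ≤ U ⊔ V) (inf_le_right : U ⊓ V ≤ V)
          ((R.p n).app _ b'), ← app_res, hb', hb, QCoh.res_res, sub_self])
    refine ⟨cl ρ R n _ c, ?_⟩
    have hz : IsMV R n U V c (z - (R.p n).app _ b') := by
      refine ⟨a - rs (R.J n) le_sup_left b', hc.symm, ?_, ?_⟩
      · rw [map_sub, map_sub, ← app_res, ha]
      · rw [map_sub, ← app_res, hb', hb, sub_self]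
    rw [mvδ_cl ρ R hz, cl_eq_iff, sub_sub_cancel_left]
    exact (show R.Ex (n + 1) _ ((R.p n).app _ b') from ⟨b', rfl⟩).neg
  · rintro ⟨q, hq⟩
    obtain ⟨c, rfl⟩ := cl_surjective ρ R n _ q
    obtain ⟨z', hz'⟩ := exists_isMV R n U V c
    rw [mvδ_cl ρ R hz'] at hq
    rw [← hq]
    obtain ⟨a, ha, h₁, h₂⟩ := hz'
    refine Prod.ext ((hres_cl ρ R _ le_sup_left z').trans ((cl_eq_zero_iff ρ R _ _ _).2 ⟨a, h₁.symm⟩)) ?_
    exact (hres_cl ρ R _ le_sup_right z').trans ((cl_eq_zero_iff ρ R _ _ _).2 (h₂.symm ▸ CohAff.FRes.Ex.zero _ _))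

end

end Groth.Agent.CohBase.FlatBC
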