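import Groth.Agent.CohBase.FlatBC.PhiLocal
import Groth.Agent.CohAff.RcIso
import Groth.Agent.FDesc.BaseChangeStalk

/-!
# Higher direct images and base change with coefficients flat over the base
-/

universe u

open CategoryTheory CategoryTheory.Limits AlgebraicGeometry TopologicalSpace Opposite
open scoped TensorProduct

namespace Groth.Agent.CohBase.FlatBC

open Groth.Agent.CohAff (FRes)
open Groth.Agent.KFlat.StalkTensor Groth.Agent.KFlat.PullTensor

local notation "rs" => Groth.Agent.QCoh.res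
local notation "rr" => Groth.Agent.QCoh.rres

noncomputable section

lemma mem_of_tensor_gens {S S' : Scheme.{u}} (g : S' ⟶ S) (G : S'.Modules) [G.IsQuasicoherent] (N : S.Modules)
    [N.IsQuasicoherent] {US : S.Opens} {UT : S'.Opens} (hT : UT ≤ g ⁻¹ᵁ US) (hUS : IsAffineOpen US)
    (hUT : IsAffineOpen UT) (K : AddSubgroup Γ(tensM G ((Scheme.Modules.pullback g).obj N), UT))
    (hK : ∀ (s : Γ(G, UT)) (m : Γ(N, US)), tmulSec UT s (LimTop.unitSec g N hT m) ∈ K)
    (t : Γ(tensM G ((Scheme.Modules.pullback g).obj N), UT)) : t ∈ K := by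
  let N' := (Scheme.Modules.pullback g).obj N
  haveI : N'.IsQuasicoherent := QCoh.isQuasicoherent_pullback g N
  haveI := LimTop.TensorQC.isQuasicoherent_tensM G N'
  letI : Algebra Γ(S, US) Γ(S', UT) := (g.appLE US UT hT).hom.toAlgebra
  letI := LimTop.secModule g N hT
  haveI : IsScalarTower Γ(S, US) Γ(S', UT) Γ(N', UT) := IsScalarTower.of_algebraMap_smul fun _ _ => rfl
  obtain ⟨z, rfl⟩ := (CBC.bijective_of_stalkwise hUT (LimTop.TensorQC.isStalkwiseLoc_secMap G N' hUT)).2 t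
  induction z using TensorProduct.induction_on with
  | zero => rw [map_zero]; exact zero_mem K
  | add a b ha hb => rw [map_add]; exact add_mem ha hb
  | tmul s y =>
    rw [LimTop.TensorQC.secMap_tmul]
    induction y using (LimTop.isBaseChange_unitSec g N hT hUS hUT).inductionOn generalizing s with
    | zero =>
      have h := tmulSec_add_right (M := G) (N := N') UT s 0 0
      rw [add_zero] at h
      rw [show tmulSec UT s (0 : Γ(N', UT)) = 0 from left_eq_add.1 h]
      exact zero_mem K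
    | tmul m => exact hK s m
    | smul r m hm =>
      rw [tmulSec_smul_right, ← tmulSec_smul_left]
      exact hm (r • s)
    | add m m' hm hm' =>
      rw [tmulSec_add_right]
      exact add_mem (hm s) (hm' s)

lemma bijective_of_comm {A B C D : Type*} [AddCommGroup A] [AddCommGroup B] [AddCommGroup C] [AddCommGroup D]
    (τ : A →+ B) (k : B →+ D) (F : A →+ C) (α : C →+ D) (hτ : Function.Surjective τ) (hF : Function.Bijective F)
    (hα : Function.Bijective α) (h : ∀ t, k (τ t) = α (F t)) : Function.Bijective k := by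
  refine ⟨?_, fun y => ?_⟩
  · rw [injective_iff_map_eq_zero]
    intro b hb
    obtain ⟨t, rfl⟩ := hτ b
    rw [h] at hb
    rw [(injective_iff_map_eq_zero (α.comp F)).1 (hα.comp hF).1 t hb, map_zero]
  · obtain ⟨t, ht⟩ := (hα.comp hF).2 y
    exact ⟨τ t, (h t).trans ht⟩

variable {X S S' X' : Scheme.{u}} {f : X ⟶ S} {g : S' ⟶ S} {p : X' ⟶ X} {q : X' ⟶ S'}
  {G : S'.Modules} [G.IsQuasicoherent] {R : FRes X} {R' : FRes X'}
  [(R.Z 0).IsQuasicoherent] [(R'.Z 0).IsQuasicoherent]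
  (hA : FlatMod.IsFlatOver p ((Scheme.Modules.pullback q).obj G))
  (a : (phiF p ((Scheme.Modules.pullback q).obj G)).obj (R.Z 0) ⟶ R'.Z 0) [IsIso a]
  (hJ : ∀ n, Injective (R'.J n)) (H : IsPullback p q f g) [QuasiCompact f] [QuasiSeparated f]
  (hGf : FlatMod.IsFlatOver g G)

lemma locOpen_eq {US : S.Opens} {UT : S'.Opens} (w : p ≫ f = q ≫ g) (hT : UT ≤ g ⁻¹ᵁ US) :
    locOpen f p q US UT = q ⁻¹ᵁ UT := by
  refine inf_eq_right.2 ?_
  rw [← Scheme.Hom.comp_preimage, w, Scheme.Hom.comp_preimage]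
  exact q.preimage_mono hT

include H in
lemma isAffineHom_resLE {US : S.Opens} {UT : S'.Opens} (hT : UT ≤ g ⁻¹ᵁ US) (hUS : IsAffineOpen US)
    (hUT : IsAffineOpen UT) :
    IsAffineHom (p.resLE (f ⁻¹ᵁ US) (locOpen f p q US UT) inf_le_left) := by
  have : IsAffine _ := hUS
  have : IsAffine _ := hUT
  have hsq := Scheme.Hom.isPullback_resLE H hT (le_refl (f ⁻¹ᵁ US)) rfl
  have : IsAffineHom (g.resLE US UT hT) := inferInstance
  exact MorphismProperty.of_isPullback hsq.flip ‹IsAffineHom (g.resLE US UT hT)›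

include hGf in
theorem bijective_kappa_app (n : ℕ) {US : S.Opens} {UT : S'.Opens} (hUS : IsAffineOpen US)
    (hUT : IsAffineOpen UT) (hT : UT ≤ g ⁻¹ᵁ US) :
    Function.Bijective ((kappa f g p q H.w hA a hJ n).app UT) := by
  have : QuasiCompact q := MorphismProperty.of_isPullback H ‹QuasiCompact f›
  have : QuasiSeparated q := MorphismProperty.of_isPullback H ‹QuasiSeparated f›
  have := isAffineHom_resLE H hT hUS hUT
  obtain ⟨F, hF, hF'⟩ := exists_locMap G hA a hJ H hT hGf hUS hUT (n + 1)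
  let X₁ := locOpen f p q US UT
  have hX₁ : X₁ = q ⁻¹ᵁ UT := locOpen_eq H.w hT
  let ρ' : Γ(S, US) →+* Γ(X₁, ⊤) := ρUp
  let α : FlatBC.H ρ' (R'.restrict X₁.ι) (n + 1) ⊤ →+ Γ(R'.Rc q n, UT) :=
    QuotientAddGroup.lift (exSub ρ' (R'.restrict X₁.ι) (n + 1) ⊤).toAddSubgroup
      ((R'.π' q n UT).comp (rs (R'.Z (n + 1)) (hX₁.ge.trans X₁.ι_image_top.ge)).hom)
      fun z hz => R'.π'_eq_zero_of_ex q n (FRes.Ex.res _ (show R'.Ex (n + 1) (X₁.ι ''ᵁ ⊤) z from hz))
  have hα_cl : ∀ z : Γ(R'.Z (n + 1), X₁.ι ''ᵁ ⊤), α (cl ρ' (R'.restrict X₁.ι) (n + 1) ⊤ z) =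
      R'.π' q n UT (rs (R'.Z (n + 1)) (hX₁.ge.trans X₁.ι_image_top.ge) z) := fun _ => rfl
  have hα : Function.Bijective α := by
    constructor
    · rw [injective_iff_map_eq_zero]
      intro x hx
      obtain ⟨z, rfl⟩ := cl_surjective ρ' (R'.restrict X₁.ι) (n + 1) ⊤ x
      refine (cl_eq_zero_iff _ _ _ _ z).2 ?_
      have hx' : R'.π' q n UT (rs (R'.Z (n + 1)) (hX₁.ge.trans X₁.ι_image_top.ge) z) = 0 := hx
      have := (R'.ex_of_π'_eq_zero q hUT n _ hx').res (X₁.ι_image_top.le.trans hX₁.le)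
      rw [QCoh.res_res, QCoh.res_self] at this
      exact this
    · intro y
      obtain ⟨x, rfl⟩ := R'.π'_surjective q hUT n y
      refine ⟨cl ρ' (R'.restrict X₁.ι) (n + 1) ⊤ (rs (R'.Z (n + 1)) (X₁.ι_image_top.le.trans hX₁.le) x), ?_⟩
      exact congrArg (R'.π' q n UT) ((QCoh.res_res _ _ _ _).trans (QCoh.res_self _ _ _))
  have : (R.Rc f n).IsQuasicoherent := R.isQuasicoherent_Rc f n
  let u := LimTop.unitSec g (R.Rc f n) hT
  let τ : LFDesc.Sec g G hT ⊗[Γ(S, US)] FlatBC.H (ρLoc f) (R.restrict (f ⁻¹ᵁ US).ι) (n + 1) ⊤ →+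
      Γ((outF g G).obj (R.Rc f n), UT) :=
    TensorProduct.liftAddHom
      (AddMonoidHom.mk' (fun s => AddMonoidHom.mk'
          (fun x => tmulSec UT (show Γ(G, UT) from s) (u (beta f R n x)))
          fun x y => by rw [map_add, map_add, tmulSec_add_right])
        fun s s' => AddMonoidHom.ext fun x => tmulSec_add_left UT _ _ _)
      fun c s x => by
        change tmulSec UT (g.appLE US UT hT c • (show Γ(G, UT) from s)) (u (beta f R n x)) =
          tmulSec UT (show Γ(G, UT) from s) (u (beta f R n (c • x)))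
        rw [map_smul, LimTop.unitSec_smul, tmulSec_smul_left, tmulSec_smul_right]
  have hτ : Function.Surjective τ := fun t => mem_of_tensor_gens g G (R.Rc f n) hT hUS hUT τ.range (fun s m => by
    obtain ⟨x, hx⟩ := (beta_bijective f R n hUS).2 m
    exact ⟨(show LFDesc.Sec g G hT from s) ⊗ₜ x, congrArg (fun m => tmulSec UT s (u m)) hx⟩) t
  refine bijective_of_comm τ ((kappa f g p q H.w hA a hJ n).app UT).hom F α hτ hF hα fun t => ?_
  induction t using TensorProduct.induction_on with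
  | zero => simp only [map_zero]
  | add t t' h h' => simp only [map_add, h, h']
  | tmul s x =>
    obtain ⟨z, rfl⟩ := cl_surjective (ρLoc f) (R.restrict (f ⁻¹ᵁ US).ι) (n + 1) ⊤ x
    have h : q ⁻¹ᵁ UT ≤ p ⁻¹ᵁ (f ⁻¹ᵁ US) := hX₁.ge.trans inf_le_left
    refine (kappa_tmul f g p q H.w hA a hJ n hT (show Γ(G, UT) from s)
      (rs (R.Z (n + 1)) (f ⁻¹ᵁ US).ι_image_top.ge z) h).trans ?_
    refine Eq.trans ?_ (congrArg α (hF' (show Γ(G, UT) from s) _)).symm
    rw [liftH_cl, upH_cl]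
    refine Eq.trans ?_ (hα_cl _).symm
    refine congrArg (R'.π' q n UT) ?_
    refine Eq.trans ?_ (congrArg (rs (R'.Z (n + 1)) _) (famLift_app G hA a hJ (show Γ(G, UT) from s) (n + 1) ⊤ z)).symm
    refine Eq.trans ?_ (QCoh.app_res (phiLift hA a hJ (n + 1)) _ _)
    refine congrArg ((phiLift hA a hJ (n + 1)).app (q ⁻¹ᵁ UT)) ?_
    refine Eq.trans ?_ (tmulSec_res (M := (Scheme.Modules.pullback q).obj G)
      (N := (Scheme.Modules.pullback p).obj (R.Z (n + 1))) (homOfLE _) _ _).symm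
    exact congrArg₂ (tmulSec _)
      ((QCoh.res_self _ _ _).symm.trans (LimTop.res_unitSec q G _ _ _).symm)
      ((LimTop.unitSec_res p _ _ _ _).trans (LimTop.res_unitSec p _ _ _ _).symm)

include hA hJ hGf in
theorem bijective_theta_app {US : S.Opens} {UT : S'.Opens} (hUS : IsAffineOpen US) (hUT : IsAffineOpen UT)
    (hT : UT ≤ g ⁻¹ᵁ US) :
    Function.Bijective ((theta f g p q H.w G (R.Z 0) ≫ (Scheme.Modules.pushforward q).map a).app UT) := by
  have := isAffineHom_resLE H hT hUS hUT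
  obtain ⟨F, hF, hF'⟩ := exists_locMap G hA a hJ H hT hGf hUS hUT 0
  let X₁ := locOpen f p q US UT
  have hX₁ : X₁ = q ⁻¹ᵁ UT := locOpen_eq H.w hT
  let ρ' : Γ(S, US) →+* Γ(X₁, ⊤) := ρUp
  let res₁ : Γ(R'.Z 0, X₁.ι ''ᵁ ⊤) →+ Γ(R'.Z 0, q ⁻¹ᵁ UT) :=
    (rs (R'.Z 0) (hX₁.ge.trans X₁.ι_image_top.ge)).hom
  let α : FlatBC.H ρ' (R'.restrict X₁.ι) 0 ⊤ →+ Γ(R'.Z 0, q ⁻¹ᵁ UT) :=
    QuotientAddGroup.lift (exSub ρ' (R'.restrict X₁.ι) 0 ⊤).toAddSubgroup res₁
      fun z hz => (congrArg res₁ (show z = 0 from hz)).trans (map_zero res₁)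
  have hα : Function.Bijective α := by
    constructor
    · rw [injective_iff_map_eq_zero]
      intro x hx
      obtain ⟨z, rfl⟩ := cl_surjective ρ' (R'.restrict X₁.ι) 0 ⊤ x
      refine (cl_eq_zero_iff _ _ _ _ z).2 ?_
      have hx' : rs (R'.Z 0) (hX₁.ge.trans X₁.ι_image_top.ge) z = 0 := hx
      have := congrArg (rs (R'.Z 0) (X₁.ι_image_top.le.trans hX₁.le)) hx'
      rw [QCoh.res_res, QCoh.res_self, map_zero] at this
      exact this
    · intro y
      exact ⟨cl ρ' (R'.restrict X₁.ι) 0 ⊤ (rs (R'.Z 0) (X₁.ι_image_top.le.trans hX₁.le) y),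
        (QCoh.res_res _ _ _ _).trans (QCoh.res_self _ _ _)⟩
  let N := (Scheme.Modules.pushforward f).obj (R.Z 0)
  have : N.IsQuasicoherent := QCoh.isQuasicoherent_pushforward f (R.Z 0)
  let X₀ : X.Opens := f ⁻¹ᵁ US
  let β₀ : FlatBC.H (ρLoc f) (R.restrict X₀.ι) 0 ⊤ →ₗ[Γ(S, US)] Γ(N, US) :=
    (exSub (ρLoc f) (R.restrict X₀.ι) 0 ⊤).liftQ
      { toFun := fun z => rs (R.Z 0) X₀.ι_image_top.ge z
        map_add' := fun z z' => map_add (rs (R.Z 0) X₀.ι_image_top.ge).hom
          (show Γ(R.Z 0, X₀.ι ''ᵁ ⊤) from z) (show Γ(R.Z 0, X₀.ι ''ᵁ ⊤) from z')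
        map_smul' := fun c z => by
          have key : ∀ w : Γ(R.Z 0, X₀.ι ''ᵁ ⊤),
              rs (R.Z 0) X₀.ι_image_top.ge (f.appLE US _ X₀.ι_image_top.le c • w) =
                (c • (show Γ(N, US) from rs (R.Z 0) X₀.ι_image_top.ge w) : Γ(N, US)) := fun w => by
            rw [QCoh.res_smul, rr_appLE]
            exact congrArg (· • _) (congr($(Scheme.Hom.appLE_eq_app f) c))
          refine Eq.trans (congrArg (rs (R.Z 0) X₀.ι_image_top.ge) ?_) (key (show Γ(R.Z 0, X₀.ι ''ᵁ ⊤) from z))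
          change ((rr (le_top : (⊤ : X₀.toScheme.Opens) ≤ ⊤) (ρLoc f c) •
            (show Γ((R.Z 0).restrict X₀.ι, ⊤) from z) : Γ((R.Z 0).restrict X₀.ι, ⊤)) : Γ(R.Z 0, X₀.ι ''ᵁ ⊤)) = _
          rw [QCoh.rres_self]
          exact restrict_appLE_smul _ f _ _ _ c _ }
      fun z hz => (congrArg (rs (R.Z 0) X₀.ι_image_top.ge)
        (show (show Γ(R.Z 0, X₀.ι ''ᵁ ⊤) from z) = 0 from hz)).trans (map_zero (rs (R.Z 0) X₀.ι_image_top.ge).hom)
  let u := LimTop.unitSec g N hT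
  let τ : LFDesc.Sec g G hT ⊗[Γ(S, US)] FlatBC.H (ρLoc f) (R.restrict X₀.ι) 0 ⊤ →+
      Γ((srcF f g G).obj (R.Z 0), UT) :=
    TensorProduct.liftAddHom
      (AddMonoidHom.mk' (fun s => AddMonoidHom.mk' (fun x => tmulSec UT (show Γ(G, UT) from s) (u (β₀ x)))
          fun x y => by rw [map_add, map_add, tmulSec_add_right])
        fun s s' => AddMonoidHom.ext fun x => tmulSec_add_left UT _ _ _)
      fun c s x => by
        change tmulSec UT (g.appLE US UT hT c • (show Γ(G, UT) from s)) (u (β₀ x)) =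
          tmulSec UT (show Γ(G, UT) from s) (u (β₀ (c • x)))
        rw [map_smul, LimTop.unitSec_smul, tmulSec_smul_left, tmulSec_smul_right]
  have hτ : Function.Surjective τ := fun t => mem_of_tensor_gens g G N hT hUS hUT τ.range (fun s m =>
    ⟨(show LFDesc.Sec g G hT from s) ⊗ₜ cl (ρLoc f) (R.restrict X₀.ι) 0 ⊤ (rs (R.Z 0) X₀.ι_image_top.le m),
      congrArg (fun m' => tmulSec UT s (u m')) ((QCoh.res_res _ _ _ _).trans (QCoh.res_self _ _ _))⟩) t
  refine bijective_of_comm τ ((theta f g p q H.w G (R.Z 0) ≫ (Scheme.Modules.pushforward q).map a).app UT).hom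
    F α hτ hF hα fun t => ?_
  induction t using TensorProduct.induction_on with
  | zero => simp only [map_zero]
  | add t t' h h' => simp only [map_add, h, h']
  | tmul s x =>
    obtain ⟨z, rfl⟩ := cl_surjective (ρLoc f) (R.restrict X₀.ι) 0 ⊤ x
    have h : q ⁻¹ᵁ UT ≤ p ⁻¹ᵁ (f ⁻¹ᵁ US) := hX₁.ge.trans inf_le_left
    refine (congrArg (a.app (q ⁻¹ᵁ UT)) (theta_tmul f g p q H.w G (R.Z 0) hT (show Γ(G, UT) from s)
      (rs (R.Z 0) X₀.ι_image_top.ge z) h)).trans ?_
    refine Eq.trans ?_ (congrArg α (hF' (show Γ(G, UT) from s) _)).symm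
    rw [liftH_cl, upH_cl]
    refine Eq.trans ?_ (congrArg res₁ (famLift_app G hA a hJ (show Γ(G, UT) from s) 0 ⊤ z)).symm
    refine Eq.trans ?_ (QCoh.app_res a _ _)
    refine congrArg (a.app (q ⁻¹ᵁ UT)) ?_
    refine Eq.trans ?_ (tmulSec_res (M := (Scheme.Modules.pullback q).obj G)
      (N := (Scheme.Modules.pullback p).obj (R.Z 0)) (homOfLE _) _ _).symm
    exact congrArg₂ (tmulSec _)
      ((QCoh.res_self _ _ _).symm.trans (LimTop.res_unitSec q G _ _ _).symm)
      ((LimTop.unitSec_res p _ _ _ _).trans (LimTop.res_unitSec p _ _ _ _).symm)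

variable (f g p q G) in
/-- Base change for higher direct images with coefficients flat over the base. -/
theorem nonempty_rpush_tensor_iso [HasInjectiveResolutions X.Modules] [HasInjectiveResolutions X'.Modules]
    (H : IsPullback p q f g) (M : X.Modules) [M.IsQuasicoherent] (hGf : FlatMod.IsFlatOver g G) (i : ℕ) :
    Nonempty ((outF g G).obj ((Coh.Rpush f i).obj M) ≅
      (Coh.Rpush q i).obj ((phiF p ((Scheme.Modules.pullback q).obj G)).obj M)) := by
  have hA : FlatMod.IsFlatOver p ((Scheme.Modules.pullback q).obj G) := fun x =>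
    FDesc.BaseChangeStalk.flatOverAt_baseChange H.flip x G (hGf _)
  let M' : X'.Modules := (phiF p ((Scheme.Modules.pullback q).obj G)).obj M
  haveI : ((Scheme.Modules.pullback q).obj G).IsQuasicoherent := QCoh.isQuasicoherent_pullback q G
  haveI : ((Scheme.Modules.pullback p).obj M).IsQuasicoherent := QCoh.isQuasicoherent_pullback p M
  haveI : M'.IsQuasicoherent := LimTop.TensorQC.isQuasicoherent_tensM _ _
  let R := FRes.ofMod M
  let R' := FRes.ofMod M'
  haveI : (R.Z 0).IsQuasicoherent := ‹M.IsQuasicoherent›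
  haveI : (R'.Z 0).IsQuasicoherent := ‹M'.IsQuasicoherent›
  let a : (phiF p ((Scheme.Modules.pullback q).obj G)).obj (R.Z 0) ⟶ R'.Z 0 := 𝟙 M'
  haveI : IsIso a := inferInstanceAs (IsIso (𝟙 M'))
  have hJ : ∀ n, Injective (R'.J n) := injective_ofMod_J _
  cases i with
  | zero =>
    let θ := theta f g p q H.w G (R.Z 0) ≫ (Scheme.Modules.pushforward q).map a
    have : IsIso θ := isIso_of_basis_bijective _ _ (exists_affine_pair g) fun _ ⟨hUT, _, hUS, hT⟩ =>
      bijective_theta_app hA a hJ H hGf hUS hUT hT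
    exact ⟨(outF g G).mapIso ((Scheme.Modules.pushforward f).rightDerivedZeroIsoSelf.app M) ≪≫ (@asIso _ _ _ _ θ this) ≪≫
      ((Scheme.Modules.pushforward q).rightDerivedZeroIsoSelf.app M').symm⟩
  | succ n =>
    have : IsIso (kappa f g p q H.w hA a hJ n) :=
      isIso_of_basis_bijective _ _ (exists_affine_pair g) fun _ ⟨hUT, _, hUS, hT⟩ =>
        bijective_kappa_app hA a hJ H hGf n hUS hUT hT
    exact ⟨(outF g G).mapIso (CohAff.FRes.rpushIsoRc f R n) ≪≫
      asIso (kappa f g p q H.w hA a hJ n) ≪≫ (CohAff.FRes.rpushIsoRc q R' n).symm⟩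

end

end Groth.Agent.CohBase.FlatBC
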