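import Groth.Agent.CohBase.FlatBC.TensorM
import Groth.Agent.LFDesc.BaseChange

/-!
# Sections over affine opens of `q^* G ⊗ p^* F`
-/

universe u

open CategoryTheory CategoryTheory.Limits AlgebraicGeometry TopologicalSpace Opposite
open scoped TensorProduct

namespace Groth.Agent.CohBase.FlatBC

open Groth.Agent.KFlat.StalkTensor

local notation "rs" => Groth.Agent.QCoh.res
local notation "rr" => Groth.Agent.QCoh.rres

noncomputable section

variable {X' S' : Scheme.{u}} (q : X' ⟶ S') (G : S'.Modules) [G.IsQuasicoherent] (N : X'.Modules)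
  [N.IsQuasicoherent] {UT : S'.Opens} {O : X'.Opens} (hO : O ≤ q ⁻¹ᵁ UT)

theorem exists_tensor_sec (hUT : IsAffineOpen UT) (hA : IsAffineOpen O) :
    ∃ κ : LFDesc.Sec q N hO ⊗[Γ(S', UT)] Γ(G, UT) →+ Γ(tensM ((Scheme.Modules.pullback q).obj G) N, O),
      Function.Bijective κ ∧ ∀ (z : Γ(N, O)) (s : Γ(G, UT)),
        κ ((show LFDesc.Sec q N hO from z) ⊗ₜ s) = tmulSec O (LimTop.unitSec q G hO s) z := by
  let G' := (Scheme.Modules.pullback q).obj G
  haveI : G'.IsQuasicoherent := QCoh.isQuasicoherent_pullback q G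
  haveI := LimTop.TensorQC.isQuasicoherent_tensM G' N
  letI : Algebra Γ(S', UT) Γ(X', O) := (q.appLE UT O hO).hom.toAlgebra
  letI : Module Γ(X', O) (LFDesc.Sec q N hO) := inferInstanceAs (Module Γ(X', O) Γ(N, O))
  haveI : IsScalarTower Γ(S', UT) Γ(X', O) (LFDesc.Sec q N hO) := IsScalarTower.of_algebraMap_smul fun _ _ => rfl
  letI := LimTop.secModule q G hO
  haveI : IsScalarTower Γ(S', UT) Γ(X', O) Γ(G', O) := IsScalarTower.of_algebraMap_smul fun _ _ => rfl
  have hbc := LimTop.isBaseChange_unitSec q G hO hUT hA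
  let e := (TensorProduct.AlgebraTensorModule.cancelBaseChange Γ(S', UT) Γ(X', O) Γ(X', O)
      (LFDesc.Sec q N hO) Γ(G, UT)).symm ≪≫ₗ
    TensorProduct.congr (LinearEquiv.refl _ (LFDesc.Sec q N hO)) hbc.equiv ≪≫ₗ
    TensorProduct.comm Γ(X', O) (LFDesc.Sec q N hO) Γ(G', O)
  have hb := CBC.bijective_of_stalkwise hA (LimTop.TensorQC.isStalkwiseLoc_secMap G' N hA)
  refine ⟨(LimTop.TensorQC.secMap G' N O).toAddMonoidHom.comp e.toLinearMap.toAddMonoidHom,
    hb.comp e.bijective, fun z s => ?_⟩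
  change LimTop.TensorQC.secMap G' N O (e ((show LFDesc.Sec q N hO from z) ⊗ₜ s)) = _
  simp only [e, LinearEquiv.trans_apply, TensorProduct.AlgebraTensorModule.cancelBaseChange_symm_tmul,
    TensorProduct.congr_tmul, LinearEquiv.refl_apply, IsBaseChange.equiv_tmul, one_smul, TensorProduct.comm_tmul]
  rfl

variable {X S : Scheme.{u}} (f : X ⟶ S) (g : S' ⟶ S) (p : X' ⟶ X) (M : X.Modules) [M.IsQuasicoherent]
  {US : S.Opens} {V : X.Opens}

theorem bijective_of_tmul_formula (H : IsPullback p q f g) (hT : UT ≤ g ⁻¹ᵁ US) (hV : V ≤ f ⁻¹ᵁ US)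
    (hUS : IsAffineOpen US) (hUT : IsAffineOpen UT) (hVA : IsAffineOpen V)
    (T : LFDesc.Sec g G hT ⊗[Γ(S, US)] LFDesc.Sec f M hV →+
      Γ(tensM ((Scheme.Modules.pullback q).obj G) ((Scheme.Modules.pullback p).obj M), LFDesc.over p q UT V))
    (hT' : ∀ (s : Γ(G, UT)) (z : Γ(M, V)),
      T ((show LFDesc.Sec g G hT from s) ⊗ₜ (show LFDesc.Sec f M hV from z)) =
        tmulSec (LFDesc.over p q UT V) (LimTop.unitSec q G inf_le_right s) (LimTop.unitSec p M inf_le_left z)) :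
    Function.Bijective T := by
  have hO : IsAffineOpen (LFDesc.over p q UT V) := by
    haveI : IsAffine _ := hUS
    haveI : IsAffine _ := hUT
    haveI : IsAffine _ := hVA
    exact .of_isIso (Scheme.Hom.isPullback_resLE H hT hV rfl).isoPullback.hom
  obtain ⟨κ, hκ, hκ'⟩ := exists_tensor_sec q G ((Scheme.Modules.pullback p).obj M)
    (inf_le_right : LFDesc.over p q UT V ≤ q ⁻¹ᵁ UT) hUT hO
  letI : Algebra Γ(S, US) Γ(S', UT) := (g.appLE US UT hT).hom.toAlgebra
  letI : Module Γ(S', UT) (LFDesc.Sec g G hT) := inferInstanceAs (Module Γ(S', UT) Γ(G, UT))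
  haveI : IsScalarTower Γ(S, US) Γ(S', UT) (LFDesc.Sec g G hT) := IsScalarTower.of_algebraMap_smul fun _ _ => rfl
  let L : Γ(S', UT) ⊗[Γ(S, US)] LFDesc.Sec f M hV →+
      LFDesc.Sec q ((Scheme.Modules.pullback p).obj M) (inf_le_right : LFDesc.over p q UT V ≤ q ⁻¹ᵁ UT) :=
    LFDesc.Φ f g p q M hT H.w hV
  have hL : Function.Bijective L := LFDesc.Φ_bijective_of_isAffineOpen f g p q M hT H hUS hUT hV hVA
  let κ' : LFDesc.Sec q ((Scheme.Modules.pullback p).obj M) (inf_le_right : LFDesc.over p q UT V ≤ q ⁻¹ᵁ UT)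
      ⊗[Γ(S', UT)] LFDesc.Sec g G hT →+
      Γ(tensM ((Scheme.Modules.pullback q).obj G) ((Scheme.Modules.pullback p).obj M), LFDesc.over p q UT V) := κ
  refine bijective_of_cancel (A := Γ(S, US)) (A' := Γ(S', UT)) (M := LFDesc.Sec g G hT) L hL (fun a b z => ?_) κ' hκ T fun s z => ?_
  · change (q.appLE UT _ inf_le_right (a * b) : Γ(X', LFDesc.over p q UT V)) •
      LimTop.unitSec p M (inf_le_left : LFDesc.over p q UT V ≤ p ⁻¹ᵁ V) (show Γ(M, V) from z) = _
    rw [map_mul, mul_smul]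
    rfl
  · refine (hT' s z).trans ?_
    have key : LFDesc.Φ f g p q M hT H.w hV (1 ⊗ₜ z) = LimTop.unitSec p M inf_le_left (show Γ(M, V) from z) := by
      rw [LFDesc.Φ_tmul, map_one, one_smul]
    exact (congrArg (tmulSec _ _) key.symm).trans (hκ' _ _).symm

end

end Groth.Agent.CohBase.FlatBC
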