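import Groth.Agent.CohBase.FlatBC.PhiModel
import Groth.Agent.CohBase.FlatBC.TensorSec
import Groth.Agent.CohBase.FlatBC.Family
import Groth.Agent.CohDev.Tensor
import Groth.Agent.CBC.Cech

/-!
# The base change map with coefficients, on an affine pair of opens
-/

universe u

open CategoryTheory CategoryTheory.Limits AlgebraicGeometry TopologicalSpace Opposite
open scoped TensorProduct

namespace Groth.Agent.CohBase.FlatBC

open Groth.Agent.CohAff (FRes)
open Groth.Agent.KFlat.StalkTensor Groth.Agent.KFlat.PullTensor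
open Groth.Agent.CohDev (tensSecU)

local notation "rs" => Groth.Agent.QCoh.res
local notation "rr" => Groth.Agent.QCoh.rres

noncomputable section

lemma tensSecU_app {X : Scheme.{u}} (U : X.Opens) {V : X.Modules} (G : X.Modules) (s : Γ(V, U))
    (W : (U : Scheme.{u}).Opens) (z : Γ(G, U.ι ''ᵁ W)) :
    (tensSecU U G s).app W z = tmulSec (U.ι ''ᵁ W) (rs V (U.ι_image_le W) s) z := rfl

lemma tensSecU_natural {X : Scheme.{u}} (U : X.Opens) {V G G' : X.Modules} (ψ : G ⟶ G') (s : Γ(V, U)) :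
    (Scheme.Modules.restrictFunctor U.ι).map ψ ≫ tensSecU U G' s =
      tensSecU U G s ≫ (Scheme.Modules.restrictFunctor U.ι).map (((ModSite.tensorBi X.sheaf).obj V).map ψ) := by
  refine Scheme.Modules.hom_ext _ _ fun W => ?_
  ext z
  change tmulSec (U.ι ''ᵁ W) (rs V (U.ι_image_le W) s) (ψ.app _ (show Γ(G, U.ι ''ᵁ W) from z)) =
    Scheme.Modules.Hom.app (show tensM V G ⟶ tensM V G' from ((ModSite.tensorBi X.sheaf).obj V).map ψ) _
      (tmulSec (U.ι ''ᵁ W) (rs V (U.ι_image_le W) s) (show Γ(G, U.ι ''ᵁ W) from z))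
  rw [← tensMap_id_left]
  exact (tensMap_tmulSec (𝟙 V) ψ _ _ _).symm

lemma comp_comm_aux {C D E : Type*} [Category C] [Category D] [Category E] (P : D ⥤ E) (Q : C ⥤ D)
    {c₁ c₂ d₁ d₂ : C} {e₁ e₂ : E} {x : e₁ ⟶ e₂} {f : e₁ ⟶ P.obj (Q.obj c₁)} {f' : e₂ ⟶ P.obj (Q.obj c₂)}
    {u : c₁ ⟶ c₂} {a : c₁ ⟶ d₁} {v : d₁ ⟶ d₂} {b : c₂ ⟶ d₂}
    (h1 : x ≫ f' = f ≫ P.map (Q.map u)) (h2 : u ≫ b = a ≫ v) :
    x ≫ f' ≫ P.map (Q.map b) = (f ≫ P.map (Q.map a)) ≫ P.map (Q.map v) := by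
  rw [← Category.assoc, h1, Category.assoc, Category.assoc, ← P.map_comp, ← Q.map_comp, h2, Q.map_comp,
    P.map_comp]

variable {X S S' X' : Scheme.{u}} {f : X ⟶ S} {g : S' ⟶ S} {p : X' ⟶ X} {q : X' ⟶ S'}
  (G : S'.Modules) {US : S.Opens} {UT : S'.Opens}

section FamHom

variable (X₀ : X.Opens) (X₁ : X'.Opens) (h : X₁ ≤ p ⁻¹ᵁ X₀) (hq : X₁ ≤ q ⁻¹ᵁ UT)

/-- `z ↦ s ⊗ z` from `N|X₀` to the pushed `(q^* G ⊗ p^* N)|X₁` -/
def famHom (s : Γ(G, UT)) (N : X.Modules) : N.restrict X₀.ι ⟶ (Scheme.Modules.pushforward (p.resLE X₀ X₁ h)).obj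
    (((phiF p ((Scheme.Modules.pullback q).obj G)).obj N).restrict X₁.ι) :=
  (Scheme.Modules.restrictFunctor X₀.ι).map ((Scheme.Modules.pullbackPushforwardAdjunction p).unit.app N) ≫
    (pushRestrict p X₀ X₁ h).app ((Scheme.Modules.pullback p).obj N) ≫
    (Scheme.Modules.pushforward (p.resLE X₀ X₁ h)).map
      (tensSecU X₁ ((Scheme.Modules.pullback p).obj N) (LimTop.unitSec q G hq s))

lemma famHom_natural (s : Γ(G, UT)) {N N' : X.Modules} (a : N ⟶ N') :
    (Scheme.Modules.restrictFunctor X₀.ι).map a ≫ famHom G X₀ X₁ h hq s N' =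
      famHom G X₀ X₁ h hq s N ≫ (Scheme.Modules.pushforward (p.resLE X₀ X₁ h)).map
        ((Scheme.Modules.restrictFunctor X₁.ι).map ((phiF p ((Scheme.Modules.pullback q).obj G)).map a)) := by
  let a' := (Scheme.Modules.pullback p).map a
  have h1 := congrArg (Scheme.Modules.restrictFunctor X₀.ι).map
    ((Scheme.Modules.pullbackPushforwardAdjunction p).unit.naturality a)
  rw [Functor.map_comp, Functor.map_comp] at h1
  have h2 := (pushRestrict p X₀ X₁ h).naturality a'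
  have h3 := ((Scheme.Modules.pushforward (p.resLE X₀ X₁ h)).map_comp _ _).symm.trans
    ((congrArg (Scheme.Modules.pushforward (p.resLE X₀ X₁ h)).map
      (tensSecU_natural X₁ a' (LimTop.unitSec q G hq s))).trans
      ((Scheme.Modules.pushforward (p.resLE X₀ X₁ h)).map_comp _ _))
  refine (Category.assoc _ _ _).symm.trans ((congrArg (· ≫ _) h1).trans ((Category.assoc _ _ _).trans ?_))
  refine Eq.trans (congrArg (_ ≫ ·) ((Category.assoc _ _ _).symm.trans ((congrArg (· ≫ _) h2).trans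
    ((Category.assoc _ _ _).trans ((congrArg (_ ≫ ·) h3).trans (Category.assoc _ _ _).symm))))) ?_
  exact (Category.assoc _ _ _).symm

lemma famHom_app (s : Γ(G, UT)) (N : X.Modules) (W : (X₀ : Scheme.{u}).Opens) (z : Γ(N, X₀.ι ''ᵁ W)) :
    ((famHom G X₀ X₁ h hq s N).app W z :
        Γ(tensM ((Scheme.Modules.pullback q).obj G) ((Scheme.Modules.pullback p).obj N),
          X₁.ι ''ᵁ (p.resLE X₀ X₁ h ⁻¹ᵁ W))) =
      tmulSec (X₁.ι ''ᵁ (p.resLE X₀ X₁ h ⁻¹ᵁ W)) (LimTop.unitSec q G ((X₁.ι_image_le _).trans hq) s)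
        (LimTop.unitSec p N (image_le p X₀ X₁ h W) z) := by
  refine (congrArg (fun t => (tensSecU X₁ ((Scheme.Modules.pullback p).obj N) (LimTop.unitSec q G hq s)).app
    (p.resLE X₀ X₁ h ⁻¹ᵁ W) t) (pushRestrict_app p X₀ X₁ h _ W _)).trans ?_
  refine (tensSecU_app _ _ _ _ _).trans ?_
  exact congrArg₂ (tmulSec _) (LimTop.res_unitSec _ _ _ _ _) rfl

end FamHom

variable [G.IsQuasicoherent] {R : FRes X} {R' : FRes X'}
  [(R.Z 0).IsQuasicoherent] [(R'.Z 0).IsQuasicoherent]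
  (hA : FlatMod.IsFlatOver p ((Scheme.Modules.pullback q).obj G))
  (a : (phiF p ((Scheme.Modules.pullback q).obj G)).obj (R.Z 0) ⟶ R'.Z 0) [IsIso a]
  (hJ : ∀ n, Injective (R'.J n))

/-- the open `q ⁻¹ UT`, as sitting over `f ⁻¹ US` -/
abbrev locOpen (f : X ⟶ S) (p : X' ⟶ X) (q : X' ⟶ S') (US : S.Opens) (UT : S'.Opens) : X'.Opens :=
  p ⁻¹ᵁ (f ⁻¹ᵁ US) ⊓ q ⁻¹ᵁ UT

/-- functions on the base, upstairs -/
def ρUp : Γ(S, US) →+* Γ(locOpen f p q US UT, ⊤) :=
  (p.resLE (f ⁻¹ᵁ US) (locOpen f p q US UT) inf_le_left).appTop.hom.comp (ρLoc f)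

/-- the lifts with coefficients -/
def famLift [IsAffineHom (p.resLE (f ⁻¹ᵁ US) (locOpen f p q US UT) inf_le_left)] (s : Γ(G, UT)) :
    Lift (R.restrict (f ⁻¹ᵁ US).ι) ((R'.restrict (locOpen f p q US UT).ι).pushAff
      (p.resLE (f ⁻¹ᵁ US) (locOpen f p q US UT) inf_le_left)) where
  φ n := famHom G (f ⁻¹ᵁ US) (locOpen f p q US UT) inf_le_left inf_le_right s (R.Z n) ≫
    (Scheme.Modules.pushforward (p.resLE (f ⁻¹ᵁ US) (locOpen f p q US UT) inf_le_left)).map
      ((Scheme.Modules.restrictFunctor (locOpen f p q US UT).ι).map (phiLift hA a hJ n))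
  ψ n := famHom G (f ⁻¹ᵁ US) (locOpen f p q US UT) inf_le_left inf_le_right s (R.J n) ≫
    (Scheme.Modules.pushforward (p.resLE (f ⁻¹ᵁ US) (locOpen f p q US UT) inf_le_left)).map
      ((Scheme.Modules.restrictFunctor (locOpen f p q US UT).ι).map (phiLiftJ hA a hJ n))
  ι_comm n := comp_comm_aux (Scheme.Modules.pushforward (p.resLE (f ⁻¹ᵁ US) (locOpen f p q US UT) inf_le_left))
      (Scheme.Modules.restrictFunctor (locOpen f p q US UT).ι)
      (famHom_natural G _ _ _ _ s (R.ι n)) (phiLift_ι hA a hJ n)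
  p_comm n := comp_comm_aux (Scheme.Modules.pushforward (p.resLE (f ⁻¹ᵁ US) (locOpen f p q US UT) inf_le_left))
      (Scheme.Modules.restrictFunctor (locOpen f p q US UT).ι)
      (famHom_natural G _ _ _ _ s (R.p n)) (phiLift_p hA a hJ n)

lemma famLift_app [IsAffineHom (p.resLE (f ⁻¹ᵁ US) (locOpen f p q US UT) inf_le_left)] (s : Γ(G, UT)) (n : ℕ)
    (W : ((f ⁻¹ᵁ US : X.Opens) : Scheme.{u}).Opens) (z : Γ(R.Z n, (f ⁻¹ᵁ US).ι ''ᵁ W)) :
    (((famLift (f := f) (US := US) G hA a hJ s).φ n).app W z :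
        Γ(R'.Z n, (locOpen f p q US UT).ι ''ᵁ (p.resLE (f ⁻¹ᵁ US) (locOpen f p q US UT) inf_le_left ⁻¹ᵁ W))) =
      (phiLift hA a hJ n).app _ (tmulSec _
        (LimTop.unitSec q G (((locOpen f p q US UT).ι_image_le _).trans inf_le_right) s)
        (LimTop.unitSec p (R.Z n) (image_le p (f ⁻¹ᵁ US) (locOpen f p q US UT) inf_le_left W) z)) :=
  congrArg ((phiLift hA a hJ n).app _) (famHom_app G _ _ _ _ s (R.Z n) W z)

variable [QuasiCompact f] [QuasiSeparated f] (H : IsPullback p q f g) (hT : UT ≤ g ⁻¹ᵁ US)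
  (hGf : FlatMod.IsFlatOver g G)

include H hT hGf in
/-- the comparison of classes on an affine pair -/
theorem exists_locMap (hUS : IsAffineOpen US) (hUT : IsAffineOpen UT)
    [IsAffineHom (p.resLE (f ⁻¹ᵁ US) (locOpen f p q US UT) inf_le_left)] (n : ℕ) :
    ∃ F : LFDesc.Sec g G hT ⊗[Γ(S, US)] FlatBC.H (ρLoc f) (R.restrict (f ⁻¹ᵁ US).ι) n ⊤ →+
        FlatBC.H (ρUp (f := f) (p := p) (q := q) (US := US) (UT := UT))
          (R'.restrict (locOpen f p q US UT).ι) n ⊤,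
      Function.Bijective F ∧ ∀ (s : Γ(G, UT)) x, F ((show LFDesc.Sec g G hT from s) ⊗ₜ x) =
        upH (p.resLE (f ⁻¹ᵁ US) (locOpen f p q US UT) inf_le_left) (ρLoc f) ρUp n
          (liftH (ρLoc f) (famLift G hA a hJ s) n ⊤ x) := by
  let X₀ : X.Opens := f ⁻¹ᵁ US
  let X₁ : X'.Opens := locOpen f p q US UT
  let p₀ := p.resLE X₀ X₁ inf_le_left
  have : CompactSpace (X₀ : Scheme.{u}) := isCompact_iff_compactSpace.mp (f.isCompact_preimage hUS.isCompact)
  have : QuasiSeparatedSpace (X₀ : Scheme.{u}) :=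
    (isQuasiSeparated_iff_quasiSeparatedSpace _ X₀.2).1 (f.isQuasiSeparated_preimage hUS.isQuasiSeparated)
  have : Module.Flat Γ(S, US) (LFDesc.Sec g G hT) := CBC.flat_sec g hUS G hUT hT fun x _ => hGf x
  have hadd : ∀ s s' : Γ(G, UT), (famLift (f := f) (US := US) G hA a hJ (s + s')).φ 0 =
      (famLift (f := f) (US := US) G hA a hJ s).φ 0 + (famLift G hA a hJ s').φ 0 := fun s s' => by
    refine Scheme.Modules.hom_ext _ _ fun W => ?_
    ext z
    refine (famLift_app G hA a hJ (s + s') 0 W z).trans ?_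
    rw [map_add, tmulSec_add_left, map_add]
    exact (congrArg₂ (· + ·) (famLift_app G hA a hJ s 0 W z) (famLift_app G hA a hJ s' 0 W z)).symm
  let β : LFDesc.Sec g G hT →+ ((R.restrict X₀.ι).Z 0 ⟶
      (Scheme.Modules.pushforward p₀).obj ((R'.restrict X₁.ι).Z 0)) :=
    AddMonoidHom.mk' (fun s => (famLift (f := f) (US := US) G hA a hJ (show Γ(G, UT) from s)).φ 0)
      fun s s' => hadd _ _
  have hlin : IsLinear (ρLoc f) β := isLinear_of_app _ β fun c s W z => by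
    let O := X₁.ι ''ᵁ (p₀ ⁻¹ᵁ W)
    have key : ∀ w : Γ(R'.Z 0, O),
        ((p₀.app W (rr (le_top : W ≤ ⊤) (ρLoc f c)) • (show Γ((R'.Z 0).restrict X₁.ι, p₀ ⁻¹ᵁ W) from w) :
          Γ((R'.Z 0).restrict X₁.ι, p₀ ⁻¹ᵁ W)) : Γ(R'.Z 0, O)) =
        q.appLE UT O ((X₁.ι_image_le _).trans inf_le_right) (g.appLE US UT hT c) • w := fun w => by
      have e : p₀.app W (rr (le_top : W ≤ ⊤) (ρLoc f c)) =
          (X₁.ι ≫ q ≫ g).appLE US (p₀ ⁻¹ᵁ W) (by
            rw [Scheme.Hom.comp_preimage]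
            exact (X₁.ι.preimage_image_eq _).ge.trans (X₁.ι.preimage_mono (((X₁.ι_image_le _).trans inf_le_right).trans
              ((q.preimage_mono hT).trans (Scheme.Hom.comp_preimage q g US).ge)))) c := by
        rw [ρLoc, rr_appLE]
        change ((X₀.ι ≫ f).appLE US W _ ≫ p₀.app W) c = _
        rw [← Scheme.Hom.appLE_eq_app, Scheme.Hom.appLE_comp_appLE]
        simp only [p₀, Scheme.Hom.resLE_comp_ι_assoc, H.w]
      refine (congrArg (fun r => ((r • (show Γ((R'.Z 0).restrict X₁.ι, p₀ ⁻¹ᵁ W) from w) :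
        Γ((R'.Z 0).restrict X₁.ι, p₀ ⁻¹ᵁ W)) : Γ(R'.Z 0, O))) e).trans ?_
      refine (restrict_appLE_smul X₁.ι (q ≫ g) (R'.Z 0) _
        ((((X₁.ι_image_le _).trans inf_le_right).trans (q.preimage_mono hT)).trans (Scheme.Hom.comp_preimage q g US).ge) c w).trans ?_
      exact congrArg (· • w) (congr($((Scheme.Hom.appLE_comp_appLE q g US UT O hT
        ((X₁.ι_image_le _).trans inf_le_right)).symm) c))
    refine (famLift_app G hA a hJ (g.appLE US UT hT c • (show Γ(G, UT) from s)) 0 W z).trans ?_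
    rw [LimTop.unitSec_smul, tmulSec_smul_left, Scheme.Modules.Hom.app_smul]
    exact ((key _).trans (congrArg _ (famLift_app G hA a hJ (show Γ(G, UT) from s) 0 W z))).symm
  have h0 : ∀ W : X₀.toScheme.Opens, IsAffineOpen W →
      Function.Bijective (TensorProduct.lift (ev (ρLoc f) β hlin W)) := by
    intro W hW
    let V := X₀.ι ''ᵁ W
    have hV : IsAffineOpen V := hW.image_of_isOpenImmersion X₀.ι
    have hVle : V ≤ f ⁻¹ᵁ US := X₀.ι_image_le W
    have e₁ : X₁.ι ''ᵁ (p₀ ⁻¹ᵁ W) = LFDesc.over p q UT V := by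
      change X₁.ι ''ᵁ (p.resLE X₀ X₁ inf_le_left ⁻¹ᵁ W) = _
      rw [Scheme.Hom.resLE_preimage, Scheme.Hom.image_preimage_eq_opensRange_inf, Scheme.Opens.opensRange_ι]
      exact le_antisymm (le_inf inf_le_right (inf_le_left.trans inf_le_right))
        (le_inf (le_inf (inf_le_left.trans (p.preimage_mono hVle)) inf_le_right) inf_le_left)
    let G' := (Scheme.Modules.pullback q).obj G
    let Φ0 := tensM G' ((Scheme.Modules.pullback p).obj (R.Z 0))
    let τ : LFDesc.Sec f (R.Z 0) hVle →ₗ[Γ(S, US)] Sc (ρLoc f) ((R.Z 0).restrict X₀.ι) W :=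
      { toFun := fun z => z, map_add' := fun _ _ => rfl, map_smul' := fun c z => by
          change f.appLE US V hVle c • (show Γ(R.Z 0, V) from z) =
            ((rr (le_top : W ≤ ⊤) (ρLoc f c) • (show Γ((R.Z 0).restrict X₀.ι, W) from z) :
              Γ((R.Z 0).restrict X₀.ι, W)) : Γ(R.Z 0, V))
          rw [ρLoc, rr_appLE]
          exact (restrict_appLE_smul _ f _ _ _ c _).symm }
    let back : Γ(R'.Z 0, X₁.ι ''ᵁ (p₀ ⁻¹ᵁ W)) →+ Γ(Φ0, LFDesc.over p q UT V) :=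
      (rs Φ0 e₁.ge).hom.comp ((inv a).app (X₁.ι ''ᵁ (p₀ ⁻¹ᵁ W))).hom
    have hback : Function.Bijective back := by
      refine Function.Bijective.comp (g := rs Φ0 e₁.ge) (Function.bijective_iff_has_inverse.2 ⟨rs Φ0 e₁.le,
        fun z => (QCoh.res_res _ _ _ _).trans (QCoh.res_self _ _ _),
        fun z => (QCoh.res_res _ _ _ _).trans (QCoh.res_self _ _ _)⟩) ?_
      exact (ConcreteCategory.isIso_iff_bijective _).1
        (Scheme.Modules.Hom.isIso_iff_isIso_app.1 (inferInstance : IsIso (inv a)) _)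
    let T : LFDesc.Sec g G hT ⊗[Γ(S, US)] LFDesc.Sec f (R.Z 0) hVle →+ Γ(Φ0, LFDesc.over p q UT V) :=
      back.comp ((TensorProduct.lift (ev (ρLoc f) β hlin W)).toAddMonoidHom.comp
        (τ.lTensor (LFDesc.Sec g G hT)).toAddMonoidHom)
    have hTb : Function.Bijective T := by
      refine bijective_of_tmul_formula q G f g p (R.Z 0) H hT hVle hUS hUT hV T fun s z => ?_
      refine (congrArg back (famLift_app G hA a hJ s 0 W z)).trans ?_
      change rs Φ0 e₁.ge ((inv a).app _ (a.app _ _)) = _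
      have hinv : ∀ (O : X'.Opens) (t : Γ(Φ0, O)), (inv a).app O (a.app O t) = t := fun O t => by
        change (a ≫ inv a).app O t = t
        rw [IsIso.hom_inv_id]
        rfl
      rw [hinv]
      refine (tmulSec_res (M := G') (N := (Scheme.Modules.pullback p).obj (R.Z 0)) (homOfLE e₁.ge) _ _).trans ?_
      exact congrArg₂ (tmulSec _) (LimTop.res_unitSec _ _ _ _ _) (LimTop.res_unitSec _ _ _ _ _)
    have hτ : Function.Bijective (τ.lTensor (LFDesc.Sec g G hT)) :=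
      ((LinearEquiv.ofBijective τ ⟨fun _ _ h => h, fun z => ⟨z, rfl⟩⟩).lTensor _).bijective
    exact (Function.Bijective.of_comp_iff _ hτ).1 ((Function.Bijective.of_comp_iff' hback _).1 hTb)
  obtain ⟨F, hF, hF'⟩ := exists_famMap p₀ (ρLoc f) (ρUp (f := f) (p := p) (q := q) (US := US) (UT := UT))
    (fun s : LFDesc.Sec g G hT => famLift (f := f) (US := US) G hA a hJ (show Γ(G, UT) from s))
    β (fun _ => rfl) hlin h0 n
  exact ⟨F, hF, fun s x => hF' s x⟩

end

end Groth.Agent.CohBase.FlatBC
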