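import Groth.Agent.CohBase.FlatBC.Affine
import Groth.Agent.LFDesc.BaseChange

/-!
# Flat base change for cohomology over an affine base
-/

universe u

open CategoryTheory CategoryTheory.Limits AlgebraicGeometry TopologicalSpace Opposite
open scoped TensorProduct

namespace Groth.Agent.CohBase.FlatBC

open Groth.Agent.CohAff (FRes)

local notation "rs" => Groth.Agent.QCoh.res
local notation "rr" => Groth.Agent.QCoh.rres

noncomputable section

lemma smulEnd_mul {X : Scheme.{u}} (M : X.Modules) (r r' : Γ(X, ⊤)) :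
    smulEnd M (r * r') = smulEnd M r' ≫ smulEnd M r := by
  refine Scheme.Modules.hom_ext _ _ fun W => ?_
  ext z
  change rr (le_top : W ≤ ⊤) (r * r') • (show Γ(M, W) from z) = rr (le_top : W ≤ ⊤) r • (rr (le_top : W ≤ ⊤) r' • (show Γ(M, W) from z))
  rw [map_mul, mul_smul]

lemma smulEnd_add {X : Scheme.{u}} (M : X.Modules) (r r' : Γ(X, ⊤)) :
    smulEnd M (r + r') = smulEnd M r + smulEnd M r' := by
  refine Scheme.Modules.hom_ext _ _ fun W => ?_
  ext z
  change rr (le_top : W ≤ ⊤) (r + r') • (show Γ(M, W) from z) =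
    rr (le_top : W ≤ ⊤) r • (show Γ(M, W) from z) + rr (le_top : W ≤ ⊤) r' • (show Γ(M, W) from z)
  rw [map_add, add_smul]

variable {X S S' X' : Scheme.{u}} (f : X ⟶ S) (g : S' ⟶ S) (p : X' ⟶ X) (q : X' ⟶ S')
  {A B : Type u} [CommRing A] [CommRing B] [Algebra A B]
  (eA : CommRingCat.of A ≅ Γ(S, ⊤)) (eB : CommRingCat.of B ≅ Γ(S', ⊤))

/-- `A` acting on `X` -/
abbrev ρX : A →+* Γ(X, ⊤) := (eA.hom ≫ f.appTop).hom

variable (M : X.Modules)

/-- `b ↦ (z ↦ b • (1 ⊗ z))` -/
def unitBeta : B →+ (M ⟶ (Scheme.Modules.pushforward p).obj ((Scheme.Modules.pullback p).obj M)) :=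
  AddMonoidHom.mk' (fun b => (Scheme.Modules.pullbackPushforwardAdjunction p).unit.app M ≫
      (Scheme.Modules.pushforward p).map (smulEnd ((Scheme.Modules.pullback p).obj M) ((eB.hom ≫ q.appTop).hom b)))
    fun b b' => by rw [map_add, smulEnd_add, Functor.map_add, Preadditive.comp_add]

lemma unitBeta_smul (b' b : B) : unitBeta p q eB M (b' • b) = unitBeta p q eB M b ≫
    (Scheme.Modules.pushforward p).map
      (smulEnd ((Scheme.Modules.pullback p).obj M) ((eB.hom ≫ q.appTop).hom b')) := by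
  change _ = ((Scheme.Modules.pullbackPushforwardAdjunction p).unit.app M ≫ _) ≫ _
  rw [Category.assoc, ← Functor.map_comp, ← smulEnd_mul, ← map_mul]
  rfl

variable {f g p q eA eB}

lemma compat (hw : p ≫ f = q ≫ g) (he : CommRingCat.ofHom (algebraMap A B) ≫ eB.hom = eA.hom ≫ g.appTop) (a : A) :
    (eB.hom ≫ q.appTop).hom (algebraMap A B a) = p.appTop (ρX f eA a) := by
  have h1 : CommRingCat.ofHom (algebraMap A B) ≫ (eB.hom ≫ q.appTop) = eA.hom ≫ f.appTop ≫ p.appTop := by
    rw [reassoc_of% he, ← Scheme.Hom.comp_appTop, ← Scheme.Hom.comp_appTop, hw]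
  exact ConcreteCategory.congr_hom h1 a

variable [M.IsQuasicoherent]

theorem bijective_ev (H : IsPullback p q f g) [IsAffine S] [IsAffine S']
    (he : CommRingCat.ofHom (algebraMap A B) ≫ eB.hom = eA.hom ≫ g.appTop)
    (hlin : IsLinear (ρX f eA) (unitBeta p q eB M)) {W : X.Opens} (hW : IsAffineOpen W) :
    Function.Bijective (TensorProduct.lift (ev (ρX f eA) (unitBeta p q eB M) hlin W)) := by
  have hUS : IsAffineOpen (⊤ : S.Opens) := isAffineOpen_top S
  have hUT : IsAffineOpen (⊤ : S'.Opens) := isAffineOpen_top S'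
  have hT : (⊤ : S'.Opens) ≤ g ⁻¹ᵁ ⊤ := le_top
  have h : W ≤ f ⁻¹ᵁ ⊤ := le_top
  let V : X'.Opens := p ⁻¹ᵁ W ⊓ q ⁻¹ᵁ ⊤
  have hV : V = p ⁻¹ᵁ W := inf_top_eq _
  have hpo := (isIso_pushoutSection_iff H hT h rfl).1 (isIso_pushoutSection_of_isAffineOpen H hT h rfl hUS hUT hW)
  have : IsAffine _ := hUS
  have : IsAffine _ := hUT
  have : IsAffine _ := hW
  have hP : IsAffineOpen V := .of_isIso (Scheme.Hom.isPullback_resLE H hT h rfl).isoPullback.hom
  letI algR : Algebra A Γ(X, W) := ((rr (le_top : W ≤ ⊤)).hom.comp (ρX f eA)).toAlgebra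
  letI algB : Algebra B Γ(X', V) := ((rr (le_top : V ≤ ⊤)).hom.comp (eB.hom ≫ q.appTop).hom).toAlgebra
  letI := (p.appLE W V inf_le_left).hom.toAlgebra
  letI algA : Algebra A Γ(X', V) :=
    (((rr (le_top : V ≤ ⊤)).hom.comp (eB.hom ≫ q.appTop).hom).comp (algebraMap A B)).toAlgebra
  have : IsScalarTower A B Γ(X', V) := IsScalarTower.of_algebraMap_eq fun _ => rfl
  have hpo' : IsPushout (CommRingCat.ofHom (algebraMap A Γ(X, W))) (CommRingCat.ofHom (algebraMap A B))
      (p.appLE W V inf_le_left) (CommRingCat.ofHom (algebraMap B Γ(X', V))) := by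
    refine hpo.of_iso eA.symm (Iso.refl _) eB.symm (Iso.refl _) ?_ ?_ ?_ ?_
    · rw [Iso.refl_hom, Category.comp_id, Iso.symm_hom, Iso.eq_inv_comp]
      rfl
    · simp only [Iso.symm_hom]
      rw [Iso.eq_inv_comp, ← Category.assoc, Iso.comp_inv_eq, he]
      congr 1
      simp [Scheme.Hom.appLE, Scheme.Hom.appTop]
    · simp only [Iso.refl_hom, Category.comp_id, Category.id_comp]
      rfl
    · rw [Iso.refl_hom, Category.comp_id, Iso.symm_hom, Iso.eq_inv_comp]
      rfl
  have : IsScalarTower A Γ(X, W) Γ(X', V) :=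
    IsScalarTower.of_algebraMap_eq fun x => (ConcreteCategory.congr_hom hpo'.w x).symm
  have : Algebra.IsPushout A B Γ(X, W) Γ(X', V) := CommRingCat.isPushout_iff_isPushout.1 hpo'.flip
  letI : Module Γ(X, W) (Sc (ρX f eA) M W) := inferInstanceAs (Module Γ(X, W) Γ(M, W))
  have : IsScalarTower A Γ(X, W) (Sc (ρX f eA) M W) := IsScalarTower.of_algebraMap_smul fun _ _ => rfl
  letI := LimTop.secModule p M (inf_le_left : V ≤ p ⁻¹ᵁ W)
  have : IsScalarTower Γ(X, W) Γ(X', V) Γ((Scheme.Modules.pullback p).obj M, V) :=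
    IsScalarTower.of_algebraMap_smul fun _ _ => rfl
  let res' : Sc (ρX f eA) ((Scheme.Modules.pushforward p).obj ((Scheme.Modules.pullback p).obj M)) W →+
      Γ((Scheme.Modules.pullback p).obj M, V) :=
    (rs ((Scheme.Modules.pullback p).obj M) hV.le).hom
  have hres : Function.Bijective res' :=
    Function.bijective_iff_has_inverse.2 ⟨rs ((Scheme.Modules.pullback p).obj M) hV.ge,
      fun z => (QCoh.res_res _ _ _ _).trans (QCoh.res_self _ _ _),
      fun z => (QCoh.res_res _ _ _ _).trans (QCoh.res_self _ _ _)⟩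
  let v : Sc (ρX f eA) M W →ₗ[Γ(X, W)] Γ((Scheme.Modules.pullback p).obj M, V) :=
    LimTop.unitSecLin p M (inf_le_left : V ≤ p ⁻¹ᵁ W)
  have hv : IsBaseChange Γ(X', V) v := LimTop.isBaseChange_unitSec p M _ hW hP
  let T := TensorProduct.lift (ev (ρX f eA) (unitBeta p q eB M) hlin W)
  have hb : Function.Bijective (res'.comp T.toAddMonoidHom) := by
    refine LFDesc.bijective_liftBaseChange_of_isPushout (A := A) (B := B) (R := Γ(X, W))
      (R' := Γ(X', V)) (M := Sc (ρX f eA) M W)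
      v hv _ fun b m => ?_
    have key : ∀ (r : Γ(X', ⊤)) (w : Γ((Scheme.Modules.pullback p).obj M, p ⁻¹ᵁ W)),
        rs ((Scheme.Modules.pullback p).obj M) hV.le (rr (le_top : p ⁻¹ᵁ W ≤ ⊤) r • w) =
          rr (le_top : V ≤ ⊤) r • rs ((Scheme.Modules.pullback p).obj M) hV.le w := fun r w => by
      rw [QCoh.res_smul, QCoh.rres_rres]
    exact key ((eB.hom ≫ q.appTop).hom b)
      (((Scheme.Modules.pullbackPushforwardAdjunction p).unit.app M).app W (show Γ(M, W) from m))
  exact (Function.Bijective.of_comp_iff' hres T).1 hb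

/-- Flat base change over affine bases, on cohomology classes. -/
theorem nonempty_classEquiv_square (H : IsPullback p q f g) [IsAffine S] [IsAffine S'] [CompactSpace X]
    [QuasiSeparatedSpace X] [Module.Flat A B]
    (he : CommRingCat.ofHom (algebraMap A B) ≫ eB.hom = eA.hom ≫ g.appTop) (n : ℕ) :
    Nonempty (B ⊗[A] FlatBC.H (ρX f eA) (FRes.ofMod M) n ⊤ ≃ₗ[B]
      FlatBC.H (eB.hom ≫ q.appTop).hom (FRes.ofMod ((Scheme.Modules.pullback p).obj M)) n ⊤) := by
  have : IsAffineHom g := inferInstance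
  have : IsAffineHom p := MorphismProperty.of_isPullback H.flip ‹IsAffineHom g›
  have : ((Scheme.Modules.pullback p).obj M).IsQuasicoherent := inferInstance
  exact nonempty_classEquiv (ρX f eA) p (eB.hom ≫ q.appTop).hom (unitBeta p q eB M) (compat H.w he)
    (unitBeta_smul p q eB M)
    (fun W hW => bijective_ev M H he _ hW) n

end

end Groth.Agent.CohBase.FlatBC
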